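import Groth.Agent.Ega2.WeightPull
import Groth.Agent.Pic13.H946.Exist

/-!
# Pullback of nonzero sections
-/

set_option autoImplicit false
universe u

open CategoryTheory CategoryTheory.Limits AlgebraicGeometry

namespace K936.PullEff

open Groth.Agent.Fdesc.LocGen Groth.Agent.Ega2.Weight

theorem ne_zero_of_mem_genLocus {X : Scheme.{u}} {M : X.Modules} (s : Coh.structureModule X ⟶ M) {x : X}
    (hx : x ∈ CohB1.genLocus M s) : s ≠ 0 := by
  rintro rfl
  have h1 := isGen_sec_genLocus (0 : Coh.structureModule X ⟶ M)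
  have h2 : sec (0 : Coh.structureModule X ⟶ M) (CohB1.genLocus M 0) = 0 := rfl
  have h3 : (0 : Γ(X, CohB1.genLocus M 0)) = 1 := by
    apply h1.ext
    rw [h2, smul_zero, smul_zero]
  have h4 := congrArg (X.presheaf.germ (CohB1.genLocus M 0) x hx).hom h3
  rw [map_zero, map_one] at h4
  exact zero_ne_one h4

/-- Nonzero sections pull back to nonzero sections along surjective morphisms. -/
theorem exists_pull {X Y : Scheme.{u}} [IsIntegral X] (f : Y ⟶ X) [Surjective f] {E : X.Modules}
    (hE : PicF.IsInvertible E) (σ : Coh.structureModule X ⟶ E) (hσ : σ ≠ 0) :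
    ∃ τ : Coh.structureModule Y ⟶ (Scheme.Modules.pullback f).obj E, τ ≠ 0 := by
  refine ⟨Groth.Agent.Ega2.Weight.pullHom f σ, ?_⟩
  obtain ⟨y, hy⟩ := f.surjective (genericPoint X)
  refine ne_zero_of_mem_genLocus _ (x := y) ?_
  rw [Groth.Agent.Ega2.Weight.genLocus_pullHom f hE]
  change f y ∈ CohB1.genLocus E σ
  rw [hy]
  exact Groth.Agent.Pic13.H946.Exist.genericPoint_mem hE σ hσ

end K936.PullEff
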