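import Groth.Agent.AutSch.K936.Fam
import Groth.Agent.Pic13.H950.NumCl
import Groth.Agent.Pic13.H945.DegAmple

/-!
# The action of automorphisms on curves and degrees
-/

set_option autoImplicit false
universe u

open CategoryTheory CategoryTheory.Limits MonoidalCategory CartesianMonoidalCategory AlgebraicGeometry

namespace K936.CurvePerm

open Groth.Agent.Grpsch.PicGrp Groth.Agent.Pic13.H950.NumCl Groth.Agent.Etcore

variable {k : Type u} [Field k] {X : Over (Spec (CommRingCat.of k))}

/-- The degree of a class on a curve of a scheme over `k`. -/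
noncomputable def dgo (C : Curve X.left) (a : Pic X.left) : ℤ := @dgc k _ X.left ⟨X.hom⟩ C a

theorem isIso_left (g : X ⟶ X) [IsIso g] : IsIso g.left :=
  inferInstanceAs (IsIso ((Over.forget _).map g))

/-- The curve `g(C)`. -/
noncomputable def mapC (g : X ⟶ X) [IsIso g] (C : Curve X.left) : Curve X.left where
  Y := C.Y
  ι := C.ι ≫ g.left
  closed := by
    have := isIso_left g
    infer_instance
  integral := C.integral
  dim := C.dim

theorem mapC_ι (g : X ⟶ X) [IsIso g] (C : Curve X.left) : (mapC g C).ι = C.ι ≫ g.left := rfl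

theorem mapC_comp (g h : X ⟶ X) [IsIso g] [IsIso h] (C : Curve X.left) :
    mapC h (mapC g C) = mapC (g ≫ h) C := by
  cases C
  simp only [mapC, Category.assoc, Over.comp_left]

theorem mapC_id (C : Curve X.left) : mapC (𝟙 X) C = C := by
  cases C
  simp only [mapC, Over.id_left, Category.comp_id]

/-- The permutation of the curves defined by an automorphism. -/
noncomputable def permC (g : X ≅ X) : Equiv.Perm (Curve X.left) where
  toFun := mapC g.hom
  invFun := mapC g.inv
  left_inv C := by
    rw [mapC_comp]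
    have : ∀ (h : X ⟶ X) (hi : IsIso h), h = 𝟙 X → mapC h C = C := by
      rintro _ _ rfl
      exact mapC_id C
    exact this _ _ g.hom_inv_id
  right_inv C := by
    rw [mapC_comp]
    have : ∀ (h : X ⟶ X) (hi : IsIso h), h = 𝟙 X → mapC h C = C := by
      rintro _ _ rfl
      exact mapC_id C
    exact this _ _ g.inv_hom_id

theorem permC_apply (g : X ≅ X) (C : Curve X.left) : permC g C = mapC g.hom C := rfl

variable (X) in
/-- The group of permutations of the curves defined by automorphisms. -/
noncomputable def permG : Subgroup (Equiv.Perm (Curve X.left)) where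
  carrier := Set.range permC
  mul_mem' := by
    rintro _ _ ⟨g, rfl⟩ ⟨h, rfl⟩
    refine ⟨h ≪≫ g, Equiv.ext fun C => ?_⟩
    rw [Equiv.Perm.mul_apply, permC_apply, permC_apply, permC_apply, mapC_comp]
    rfl
  one_mem' := ⟨Iso.refl X, Equiv.ext fun C => mapC_id C⟩
  inv_mem' := by
    rintro _ ⟨g, rfl⟩
    exact ⟨g.symm, rfl⟩

theorem dgo_pull (g : X ⟶ X) [IsIso g] (C : Curve X.left) (a : Pic X.left) :
    dgo C (pull g.left a) = dgo (mapC g C) a := by
  have key : ∀ (q : C.Y ⟶ Spec (CommRingCat.of k)) (_ : q = C.ι ≫ X.hom) (c : Pic C.Y),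
      @DegZero.dg k _ C.Y ⟨C.ι ≫ X.hom⟩ c = @DegZero.dg k _ C.Y ⟨q⟩ c := by
    rintro _ rfl c; rfl
  have h1 : (C.ι ≫ g.left) ≫ X.hom = C.ι ≫ X.hom := by rw [Category.assoc, Over.w]
  refine Eq.trans ?_ (key _ h1 (pull (C.ι ≫ g.left) a))
  rw [pull_comp]
  rfl

theorem dgo_mk (C : Curve X.left) {L : X.left.Modules} (hL : PicF.IsInvertible L) :
    dgo C (mk L hL) = Pic13.curveDeg k (C.ι ≫ X.hom) ((Scheme.Modules.pullback C.ι).obj L) := rfl

theorem dgo_mul [IsProper X.hom] (C : Curve X.left) (a b : Pic X.left) : dgo C (a * b) = dgo C a + dgo C b := by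
  let _ : X.left.Over (Spec (CommRingCat.of k)) := ⟨X.hom⟩
  have : IsProper (X.left ↘ Spec (CommRingCat.of k)) := ‹IsProper X.hom›
  exact dgc_mul k X.left C a b

theorem dgo_pow [IsProper X.hom] (C : Curve X.left) (a : Pic X.left) (n : ℕ) : dgo C (a ^ n) = n * dgo C a := by
  let _ : X.left.Over (Spec (CommRingCat.of k)) := ⟨X.hom⟩
  have : IsProper (X.left ↘ Spec (CommRingCat.of k)) := ‹IsProper X.hom›
  exact dgc_pow k X.left C a n

theorem dgo_inv [IsProper X.hom] (C : Curve X.left) (a : Pic X.left) : dgo C a⁻¹ = - dgo C a := by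
  let _ : X.left.Over (Spec (CommRingCat.of k)) := ⟨X.hom⟩
  have : IsProper (X.left ↘ Spec (CommRingCat.of k)) := ‹IsProper X.hom›
  exact dgc_inv k X.left C a

end K936.CurvePerm
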