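import Mathlib.AlgebraicGeometry.Morphisms.Proper

/-!
# A rigidity lemma

`F : X' ⟶ Y'` closed surjective with `O = F_* O`; the locus of `y` such that `h : X' ⟶ Z` is constant on the
fibre of `F` over `y` is open.
-/

set_option autoImplicit false
universe u

open CategoryTheory CategoryTheory.Limits AlgebraicGeometry

namespace K936.Rigid

theorem exists_factor_affine {A B V : Scheme.{u}} (a : A ⟶ B) [IsIso a.appTop] [IsAffine V] (h : A ⟶ V) :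
    ∃ w : B ⟶ V, a ≫ w = h := by
  refine ⟨B.toSpecΓ ≫ Spec.map (h.appTop ≫ inv a.appTop) ≫ V.isoSpec.inv, ?_⟩
  rw [Spec.map_comp, Category.assoc, Scheme.toSpecΓ_naturality_assoc, ← Spec.map_comp_assoc,
    IsIso.inv_hom_id, Spec.map_id, Category.id_comp, ← Scheme.toSpecΓ_naturality_assoc]
  rw [← Scheme.isoSpec_hom, Iso.hom_inv_id, Category.comp_id]

theorem isOpen_contracted {X' Y' Z : Scheme.{u}} (F : X' ⟶ Y') [Surjective F] (hcl : IsClosedMap F)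
    (hF : ∀ U : Y'.Opens, IsIso (F.app U)) (h : X' ⟶ Z) :
    IsOpen {y : Y' | ∀ a b : X', F a = y → F b = y → h a = h b} := by
  rw [isOpen_iff_forall_mem_open]
  intro y hy
  obtain ⟨x₀, hx₀⟩ := F.surjective y
  obtain ⟨_, ⟨V, hV, rfl⟩, hxV, -⟩ :=
    Z.isBasis_affineOpens.exists_subset_of_mem_open (Set.mem_univ (h x₀)) isOpen_univ
  change Z.Opens at V
  have hK : IsClosed ((h ⁻¹ᵁ V : Set X')ᶜ) := (h ⁻¹ᵁ V).isOpen.isClosed_compl
  let W : Y'.Opens := ⟨(F '' ((h ⁻¹ᵁ V : Set X')ᶜ))ᶜ, (hcl _ hK).isOpen_compl⟩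
  have hyW : y ∈ W := by
    rintro ⟨b, hb, hby⟩
    apply hb
    change h b ∈ V
    rw [hy b x₀ hby hx₀]
    exact hxV
  have hWV : ∀ x : X', F x ∈ W → h x ∈ V := by
    intro x hx
    by_contra hn
    exact hx ⟨x, hn, rfl⟩
  refine ⟨W, ?_, W.isOpen, hyW⟩
  have : IsAffine V.toScheme := hV
  have hr : Set.range ((F ⁻¹ᵁ W).ι ≫ h) ⊆ Set.range V.ι := by
    rintro _ ⟨x, rfl⟩
    rw [Scheme.Opens.range_ι]
    exact hWV _ x.2
  let hW : (F ⁻¹ᵁ W).toScheme ⟶ V := IsOpenImmersion.lift V.ι ((F ⁻¹ᵁ W).ι ≫ h) hr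
  have hhW : hW ≫ V.ι = (F ⁻¹ᵁ W).ι ≫ h := IsOpenImmersion.lift_fac _ _ _
  have hi : IsIso (F ∣_ W).appTop := by
    have := hF (W.ι ''ᵁ ⊤)
    change IsIso ((F ∣_ W).app ⊤)
    rw [morphismRestrict_app]
    have h2 : IsIso (X'.presheaf.map (eqToHom (image_morphismRestrict_preimage F W ⊤)).op) := inferInstance
    exact IsIso.comp_isIso' this h2
  obtain ⟨w, hw⟩ := exists_factor_affine (F ∣_ W) hW
  rintro y' hy' a b rfl hb
  have ha' : a ∈ F ⁻¹ᵁ W := hy'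
  have hb' : b ∈ F ⁻¹ᵁ W := by change F b ∈ W; rw [hb]; exact hy'
  have key : ∀ x : (F ⁻¹ᵁ W).toScheme, h ((F ⁻¹ᵁ W).ι x) = V.ι (w ((F ∣_ W) x)) := by
    intro x
    rw [← Scheme.Hom.comp_apply, ← hhW, ← hw]
    simp
  have h1 := key ⟨a, ha'⟩
  have h2 := key ⟨b, hb'⟩
  have h3 : (F ∣_ W) ⟨a, ha'⟩ = (F ∣_ W) ⟨b, hb'⟩ := by
    apply Subtype.ext
    exact (morphismRestrict_base_coe F W ⟨a, ha'⟩).trans
      (hb.symm.trans (morphismRestrict_base_coe F W ⟨b, hb'⟩).symm)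
  rw [h3] at h1
  exact h1.trans h2.symm

end K936.Rigid
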