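import Groth.Prelude.Def_AutSch

/-!
# Families of automorphisms attached to an action

Points calculus for an action `a` of `G` on `X`, and the automorphism `endOf (famOf a g)` of `X ⊗ T`.
-/

set_option autoImplicit false
universe u

open CategoryTheory MonoidalCategory CartesianMonoidalCategory MonObj GrpObj AlgebraicGeometry

namespace K936.Fam

open AutSch

section Act

variable {S : Scheme.{u}} {G X : Over S} [GrpObj G] (a : AlgGrp.Action G X)

/-- The unit point acts trivially. -/
theorem one_act {T : Over S} (x : T ⟶ X) : lift (1 : T ⟶ G) x ≫ a.act = x := by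
  have h : lift (1 : T ⟶ G) x = lift (toUnit T) x ≫ (η[G] ▷ X) := by
    rw [lift_whiskerRight, one_eq_one, comp_one]
  rw [h, Category.assoc, a.one_act]
  simp

/-- The action of a product of points. -/
theorem mul_act {T : Over S} (g h : T ⟶ G) (x : T ⟶ X) :
    lift (g * h) x ≫ a.act = lift g (lift h x ≫ a.act) ≫ a.act := by
  have h1 : lift (g * h) x = lift (lift g h) x ≫ (μ[G] ▷ X) := by
    rw [lift_whiskerRight]
    rfl
  rw [h1, Category.assoc, a.mul_act]
  simp

theorem famOf_one {T : Over S} : famOf a (1 : T ⟶ G) = fst X T := by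
  rw [famOf]
  have : (snd X T ≫ (1 : T ⟶ G)) = 1 := comp_one _
  rw [this, one_act]

/-- `x, t ↦ (φ(x,t), t)` precomposed with a point. -/
theorem lift_famOf {T Y : Over S} (g : T ⟶ G) (x : Y ⟶ X) (t : Y ⟶ T) :
    lift x t ≫ famOf a g = lift (t ≫ g) x ≫ a.act := by
  rw [famOf, ← Category.assoc]
  congr 1
  ext1 <;> simp

theorem lift_endOf {S : Scheme.{u}} {X T Y : Over S} (φ : X ⊗ T ⟶ X) (x : Y ⟶ X) (t : Y ⟶ T) :
    lift x t ≫ endOf φ = lift (lift x t ≫ φ) t := by
  rw [endOf]
  ext1 <;> simp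

/-- Composition of the endomorphisms attached to two points of `G`. -/
theorem endOf_famOf_comp {T : Over S} (g h : T ⟶ G) :
    endOf (famOf a g) ≫ endOf (famOf a h) = endOf (famOf a (h * g)) := by
  have h1 : endOf (famOf a g) = lift (famOf a g) (snd X T) := rfl
  rw [h1, lift_endOf]
  have h2 : endOf (famOf a (h * g)) = lift (famOf a (h * g)) (snd X T) := rfl
  rw [h2]
  congr 1
  rw [lift_famOf]
  have h3 : famOf a (h * g) = lift (snd X T ≫ (h * g)) (fst X T) ≫ a.act := rfl
  rw [h3]
  have h4 : snd X T ≫ (h * g) = (snd X T ≫ h) * (snd X T ≫ g) := comp_mul _ _ _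
  rw [h4, mul_act]
  rfl

theorem endOf_famOf_one {T : Over S} : endOf (famOf a (1 : T ⟶ G)) = 𝟙 (X ⊗ T) := by
  rw [famOf_one, endOf]
  simp

/-- The automorphism of `X ⊗ T` attached to a point of `G`. -/
@[simps]
noncomputable def autOf {T : Over S} (g : T ⟶ G) : X ⊗ T ≅ X ⊗ T where
  hom := endOf (famOf a g)
  inv := endOf (famOf a g⁻¹)
  hom_inv_id := by rw [endOf_famOf_comp, inv_mul_cancel, endOf_famOf_one]
  inv_hom_id := by rw [endOf_famOf_comp, mul_inv_cancel, endOf_famOf_one]

theorem isAutFamily_famOf {T : Over S} (g : T ⟶ G) : IsAutFamily (famOf a g) :=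
  inferInstanceAs (IsIso (autOf a g).hom)

/-- Points of `G` are determined by their families. -/
theorem famOf_injective {P : ∀ ⦃T : Over S⦄, (X ⊗ T ⟶ X) → Prop} (hG : RepresentsSub X P G a) {T : Over S}
    {g h : T ⟶ G} (e : famOf a g = famOf a h) : g = h :=
  (hG.2 T (famOf a h) (isAutFamily_famOf a h) (hG.1 T h)).unique e rfl

theorem endOf_injective {S : Scheme.{u}} {X T : Over S} {φ ψ : X ⊗ T ⟶ X} (h : endOf φ = endOf ψ) : φ = ψ := by
  rw [← endOf_fst φ, h, endOf_fst]

/-- `endOf` of a pulled back family. -/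
theorem whiskerLeft_endOf {S : Scheme.{u}} {X T T' : Over S} (u : T' ⟶ T) (φ : X ⊗ T ⟶ X) :
    endOf (pullFam u φ) ≫ (X ◁ u) = (X ◁ u) ≫ endOf φ := by
  rw [endOf, endOf, pullFam]
  ext1 <;> simp

/-- An endomorphism of `X ⊗ T` over `T` is `endOf` of its first component. -/
theorem eq_endOf {S : Scheme.{u}} {X T : Over S} (ψ : X ⊗ T ⟶ X ⊗ T) (h : ψ ≫ snd X T = snd X T) :
    ψ = endOf (ψ ≫ fst X T) := by
  rw [endOf]
  ext1
  · simp
  · simpa using h

/-- The action of `G` restricted along a homomorphism of group schemes. -/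
theorem famOf_of_hom {H : Over S} [GrpObj H] (b : AlgGrp.Action H X) (ρ : H ⟶ G)
    (hρ : (ρ ▷ X) ≫ a.act = b.act) {T : Over S} (h : T ⟶ H) : famOf b h = famOf a (h ≫ ρ) := by
  rw [famOf, famOf, ← hρ, ← Category.assoc, lift_whiskerRight, Category.assoc]

end Act

end K936.Fam
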