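import Groth.Agent.AutSch.K936.IntBd
import Groth.Agent.S4304
import Groth.Agent.Pic13.H969.Bridge

/-!
# The ample parts of a big class form a bounded family
-/

set_option autoImplicit false
universe u

open CategoryTheory CategoryTheory.Limits AlgebraicGeometry

namespace K936.IntBd2

open Groth.Agent.Fga.PicMon Groth.Agent.Grpsch.PicGrp Groth.Agent.Pic13.H970.IntForm
  Groth.Agent.Pic13.H950.NumCl Groth.Agent.Pic13.H138.BddPic K936.IntBd

variable (k : Type u) [Field k] [IsAlgClosed k] (X : Scheme.{u}) [X.Over (Spec (CommRingCat.of k))]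
  [IsProper (X ↘ Spec (CommRingCat.of k))] [IsIntegral X]

theorem mk_eq_inv {L L' : X.Modules} (hL : PicF.IsInvertible L) (hL' : PicF.IsInvertible L')
    (h : Nonempty (CohB1.tensorMod L L' ≅ Coh.structureModule X)) : mk L' hL' = (mk L hL)⁻¹ := by
  rw [eq_inv_iff_mul_eq_one, mul_comm, mk_mul_mk, mk_eq_one_iff]
  exact h

theorem bddPic_parts (s : ℕ) (hdim : topologicalKrullDim X = (s + 2 : ℕ)) (n : ℕ) (l : Pic X) {A : X.Modules}
    (hA : CohB1.IsAmple A) : BddPic k X (Parts k X n l) := by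
  let P : X.Modules → Prop := fun L => ∃ hL : PicF.IsInvertible L, mk L hL ∈ Parts k X n l
  have hinv : ∀ {L L' : X.Modules}, PicF.IsInvertible L →
      Nonempty (CohB1.tensorMod L L' ≅ Coh.structureModule X) → PicF.IsInvertible L' := fun hL ⟨e⟩ =>
    Groth.Agent.Fga.IntAdd.isInvertible_of_tensor e
  have hb : Pic13.IsBounded k X P := by
    refine Groth.Agent.S4304.result k X s hdim A (dual A) hA ⟨@asIso _ _ _ _ (ev A) (isIso_ev hA.1)⟩ P
      (fun L hL => hL.1) ?_
    refine ⟨I k X (s + 2) (Coh.structureModule X)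
        (Fin.cons (l ^ n)⁻¹ (fun _ : Fin (s + 1) => (mk A hA.1)⁻¹) : Fin (s + 2) → Pic X), ?_⟩
    rintro L L' ⟨hL, hP⟩ hLL'
    have hL' := hinv hL hLL'
    have e := mk_eq_inv X hL hL' hLL'
    obtain ⟨h1, h2⟩ := parts_le k X (r := s + 1) hdim n l hA hP
    obtain ⟨B, hB, μ, γ, hLB, -⟩ := hP
    have h3 := sq_pos k X hdim hA hB
    rw [← hLB] at h3
    rw [← e] at h1 h2 h3
    have hd : PicF.IsInvertible (dual A) := isInvertible_dual hA.1
    have e1 : FGA.intNum k X (s + 2) (Matrix.vecCons L' (fun _ : Fin (s + 1) => dual A)) (Coh.structureModule X) =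
        I k X (s + 2) (Coh.structureModule X)
          (Fin.cons (mk L' hL') (fun _ : Fin (s + 1) => (mk A hA.1)⁻¹) : Fin (s + 2) → Pic X) := by
      have h := intNum_eq k X (s + 2) (Coh.structureModule X)
        (Fin.cons L' (fun _ => dual A) : Fin (s + 2) → X.Modules) (isInvertible_cons X hL' fun _ => hd)
      rw [mk_cons X L' _ hL' (fun _ => hd)] at h
      exact h
    have e2 : FGA.intNum k X (s + 2) (Matrix.vecCons L' (Matrix.vecCons L' (fun _ : Fin s => dual A)))
        (Coh.structureModule X) = I k X (s + 2) (Coh.structureModule X)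
          (Fin.cons (mk L' hL') (Fin.cons (mk L' hL') (fun _ : Fin s => (mk A hA.1)⁻¹) : Fin (s + 1) → Pic X) :
            Fin (s + 2) → Pic X) := by
      have h := intNum_eq k X (s + 2) (Coh.structureModule X)
        (Fin.cons L' (Fin.cons L' (fun _ => dual A) : Fin (s + 1) → X.Modules) : Fin (s + 2) → X.Modules)
        (isInvertible_cons X hL' (isInvertible_cons X hL' fun _ => hd))
      rw [mk_cons X L' _ hL' (isInvertible_cons X hL' fun _ => hd), mk_cons X L' _ hL' (fun _ => hd)] at h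
      exact h
    rw [e1, e2]
    refine ⟨?_, ?_⟩
    · rw [abs_of_pos h1]
      exact h2
    · linarith
  refine (Groth.Agent.Pic13.H969.Bridge.bridge k X P hb).mono fun a ha => ?_
  obtain ⟨L, hL, rfl⟩ := exists_mk a
  exact ⟨L, hL, ⟨hL, ha⟩, rfl⟩

end K936.IntBd2
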