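import Mathlib.Algebra.Order.Archimedean.Basic
import Mathlib.Algebra.Order.BigOperators.Ring.Finset
import Mathlib.Algebra.BigOperators.Field
import Mathlib.Data.Set.Finite.Lattice
import Mathlib.Data.Set.Finite.Basic
import Mathlib.Data.Fintype.Pi
import Mathlib.Order.Preorder.Finite
import Mathlib.Algebra.Group.Subgroup.Basic
import Mathlib.Algebra.Group.End
import Mathlib.Tactic.Linarith
import Mathlib.Tactic.Ring
import Mathlib.Tactic.NormNum

/-!
# Orbits in finitely generated cones of integral functions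
-/

set_option autoImplicit false

namespace K936.Cone

variable {C : Type*} {n : ℕ} (E : Fin n → C → ℤ)

/-- The cone generated by the `E i`, `i ∈ I`. -/
def cone (I : Finset (Fin n)) : Set (C → ℚ) :=
  {v | ∃ c : Fin n → ℚ, (∀ i, 0 ≤ c i) ∧ (∀ i, i ∉ I → c i = 0) ∧ ∀ x, v x = ∑ i, c i * E i x}

variable {E}

theorem cone_nonneg (hE : ∀ i x, 0 ≤ E i x) {I : Finset (Fin n)} {v : C → ℚ} (hv : v ∈ cone E I) (x : C) :
    0 ≤ v x := by
  obtain ⟨c, hc, -, h⟩ := hv
  rw [h]
  exact Finset.sum_nonneg fun i _ => mul_nonneg (hc i) (by exact_mod_cast hE i x)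

theorem mem_cone_self {I : Finset (Fin n)} {i : Fin n} (hi : i ∈ I) : (fun x => (E i x : ℚ)) ∈ cone E I := by
  refine ⟨fun j => if j = i then 1 else 0, fun j => by dsimp only; split_ifs <;> norm_num,
    fun j hj => if_neg ?_, fun x => ?_⟩
  · rintro rfl
    exact hj hi
  · simp

theorem cone_add {I : Finset (Fin n)} {v w : C → ℚ} (hv : v ∈ cone E I) (hw : w ∈ cone E I) :
    (fun x => v x + w x) ∈ cone E I := by
  obtain ⟨c, hc, hc', h⟩ := hv
  obtain ⟨d, hd, hd', h'⟩ := hw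
  refine ⟨fun i => c i + d i, fun i => add_nonneg (hc i) (hd i), fun i hi => by dsimp only; rw [hc' i hi, hd' i hi, add_zero],
    fun x => ?_⟩
  dsimp only
  rw [h, h', ← Finset.sum_add_distrib]
  exact Finset.sum_congr rfl fun i _ => by ring

theorem cone_smul {I : Finset (Fin n)} {v : C → ℚ} (hv : v ∈ cone E I) {t : ℚ} (ht : 0 ≤ t) :
    (fun x => t * v x) ∈ cone E I := by
  obtain ⟨c, hc, hc', h⟩ := hv
  refine ⟨fun i => t * c i, fun i => mul_nonneg ht (hc i), fun i hi => by dsimp only; rw [hc' i hi, mul_zero],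
    fun x => ?_⟩
  dsimp only
  rw [h, Finset.mul_sum]
  exact Finset.sum_congr rfl fun i _ => by ring

theorem cone_zero {I : Finset (Fin n)} : (fun _ => 0 : C → ℚ) ∈ cone E I :=
  ⟨fun _ => 0, fun _ => le_rfl, fun _ _ => rfl, fun x => by simp⟩

theorem cone_sum {I : Finset (Fin n)} {ι : Type*} (s : Finset ι) {v : ι → C → ℚ} (hv : ∀ j ∈ s, v j ∈ cone E I) :
    (fun x => ∑ j ∈ s, v j x) ∈ cone E I := by
  classical
  induction s using Finset.induction_on with
  | empty => simpa using cone_zero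
  | insert j s hj ih =>
    simp only [Finset.sum_insert hj]
    exact cone_add (hv j (Finset.mem_insert_self _ _)) (ih fun i hi => hv i (Finset.mem_insert_of_mem hi))

theorem cone_trans {I J : Finset (Fin n)} (h : ∀ i ∈ I, (fun x => (E i x : ℚ)) ∈ cone E J) {v : C → ℚ}
    (hv : v ∈ cone E I) : v ∈ cone E J := by
  classical
  obtain ⟨c, hc, hc', h'⟩ := hv
  have h1 : v = fun x => ∑ i ∈ I, c i * (E i x : ℚ) := by
    funext x
    rw [h']
    symm
    apply Finset.sum_subset (Finset.subset_univ I)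
    intro i _ hi
    rw [hc' i hi, zero_mul]
  rw [h1]
  exact cone_sum (v := fun i x => c i * (E i x : ℚ)) I fun i hi => cone_smul (h i hi) (hc i)

variable (E) in
/-- `I` is a generating set of the cone. -/
def Gen (I : Finset (Fin n)) : Prop := ∀ i, (fun x => (E i x : ℚ)) ∈ cone E I

variable (E) in
theorem exists_minimal : ∃ I : Finset (Fin n), Gen E I ∧ ∀ J, J ⊂ I → ¬ Gen E J := by
  obtain ⟨I, hI, hmin⟩ := (Set.toFinite {I : Finset (Fin n) | Gen E I}).exists_minimal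
    ⟨Finset.univ, fun i => mem_cone_self (Finset.mem_univ i)⟩
  exact ⟨I, hI, fun J hJ hJ' => hJ.2 (hmin hJ' hJ.1)⟩

theorem ne_zero_of_minimal {I : Finset (Fin n)} (hI : Gen E I) (hmin : ∀ J, J ⊂ I → ¬ Gen E J) {i : Fin n}
    (hi : i ∈ I) : ∃ x, E i x ≠ 0 := by
  classical
  by_contra hcon
  push Not at hcon
  refine hmin (I.erase i) (Finset.erase_ssubset hi) fun j => cone_trans (I := I) (fun l hl => ?_) (hI j)
  by_cases hli : l = i
  · subst hli
    have : (fun x => (E l x : ℚ)) = fun _ => 0 := funext fun x => by rw [hcon x]; rfl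
    rw [this]
    exact cone_zero
  · exact mem_cone_self (Finset.mem_erase.2 ⟨hli, hl⟩)

/-- Extremality of the members of a minimal generating set. -/
theorem extremal (hE : ∀ i x, 0 ≤ E i x) {I : Finset (Fin n)} (hI : Gen E I) (hmin : ∀ J, J ⊂ I → ¬ Gen E J)
    {i : Fin n} (hi : i ∈ I) {a b : C → ℚ} (ha : a ∈ cone E I) (hb : b ∈ cone E I)
    (hab : ∀ x, (E i x : ℚ) = a x + b x) : ∃ q : ℚ, 0 ≤ q ∧ ∀ x, a x = q * E i x := by
  classical
  obtain ⟨c, hc, hc', ha'⟩ := ha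
  obtain ⟨d, hd, hd', hb'⟩ := hb
  have hsum : ∀ x, (E i x : ℚ) = (c i + d i) * E i x + ∑ j ∈ Finset.univ.erase i, (c j + d j) * E j x := by
    intro x
    have e0 := hab x
    rw [ha', hb', ← Finset.sum_add_distrib] at e0
    have e : ∀ j, c j * (E j x : ℚ) + d j * E j x = (c j + d j) * E j x := fun j => by ring
    simp only [e] at e0
    rw [← Finset.add_sum_erase _ _ (Finset.mem_univ i)] at e0
    exact e0
  have hge : 1 ≤ c i + d i := by
    by_contra hlt
    push Not at hlt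
    refine hmin (I.erase i) (Finset.erase_ssubset hi) fun j => cone_trans (I := I) (fun l hl => ?_) (hI j)
    by_cases hli : l = i
    · subst hli
      have hpos : 0 < 1 - (c l + d l) := by linarith
      refine ⟨fun j => if j = l then 0 else (c j + d j) / (1 - (c l + d l)), fun j => ?_, fun j hj => ?_, fun x => ?_⟩
      · dsimp only
        split_ifs
        · exact le_rfl
        · exact div_nonneg (add_nonneg (hc j) (hd j)) hpos.le
      · dsimp only
        split_ifs with hjl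
        · rfl
        · have hjI : j ∉ I := fun h => hj (Finset.mem_erase.2 ⟨hjl, h⟩)
          rw [hc' j hjI, hd' j hjI, add_zero, zero_div]
      · rw [← Finset.add_sum_erase _ _ (Finset.mem_univ l)]
        simp only [if_true, zero_mul, zero_add]
        have h1 : ∑ j ∈ Finset.univ.erase l, (if j = l then 0 else (c j + d j) / (1 - (c l + d l))) * (E j x : ℚ) =
            (∑ j ∈ Finset.univ.erase l, (c j + d j) * (E j x : ℚ)) / (1 - (c l + d l)) := by
          rw [Finset.sum_div]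
          refine Finset.sum_congr rfl fun j hj => ?_
          rw [if_neg (Finset.ne_of_mem_erase hj)]
          ring
        rw [h1, eq_div_iff hpos.ne']
        have := hsum x
        linarith
    · exact mem_cone_self (Finset.mem_erase.2 ⟨hli, hl⟩)
  refine ⟨c i, hc i, fun x => ?_⟩
  have hEi : (0 : ℚ) ≤ E i x := by exact_mod_cast hE i x
  have hterm : ∀ j ∈ Finset.univ.erase i, (0 : ℚ) ≤ (c j + d j) * E j x := fun j _ =>
    mul_nonneg (add_nonneg (hc j) (hd j)) (by exact_mod_cast hE j x)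
  have hzero : ∑ j ∈ Finset.univ.erase i, (c j + d j) * (E j x : ℚ) = 0 := by
    refine le_antisymm ?_ (Finset.sum_nonneg hterm)
    have h1 := hsum x
    nlinarith [mul_le_mul_of_nonneg_right hge hEi]
  have hz : ∀ j ∈ Finset.univ.erase i, (c j + d j) * (E j x : ℚ) = 0 :=
    (Finset.sum_eq_zero_iff_of_nonneg hterm).1 hzero
  rw [ha', ← Finset.add_sum_erase _ _ (Finset.mem_univ i), Finset.sum_eq_zero, add_zero]
  intro j hj
  have h1 := hz j hj
  have h2 : (0 : ℚ) ≤ E j x := by exact_mod_cast hE j x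
  have h3 : 0 ≤ c j * (E j x : ℚ) := mul_nonneg (hc j) h2
  have h4 : 0 ≤ d j * (E j x : ℚ) := mul_nonneg (hd j) h2
  nlinarith

variable (Γ : Subgroup (Equiv.Perm C))

theorem exists_proportional (hE : ∀ i x, 0 ≤ E i x)
    (hΓ : ∀ γ ∈ Γ, ∀ i, (fun x => (E i (γ x) : ℚ)) ∈ cone E Finset.univ) {I : Finset (Fin n)} (hI : Gen E I)
    (hmin : ∀ J, J ⊂ I → ¬ Gen E J) {i : Fin n} (hi : i ∈ I) (γ : Equiv.Perm C) (hγ : γ ∈ Γ) :
    ∃ (j : Fin n) (q : ℚ), 0 < q ∧ ∀ x, (E i (γ x) : ℚ) = q * E j x := by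
  classical
  have hgen : ∀ {v : C → ℚ}, v ∈ cone E Finset.univ → v ∈ cone E I := fun hv => cone_trans (fun i _ => hI i) hv
  obtain ⟨c, hc, hc', h⟩ := hgen (hΓ γ hγ i)
  obtain ⟨x₀, hx₀⟩ := ne_zero_of_minimal hI hmin hi
  -- some coefficient contributes
  obtain ⟨j, hj⟩ : ∃ j, c j * (E j (γ⁻¹ x₀) : ℚ) ≠ 0 := by
    by_contra hcon
    push Not at hcon
    have h1 := h (γ⁻¹ x₀)
    dsimp only at h1
    rw [Finset.sum_eq_zero fun j _ => hcon j] at h1
    have h2 : γ (γ⁻¹ x₀) = x₀ := γ.apply_symm_apply x₀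
    rw [h2] at h1
    exact hx₀ (by exact_mod_cast h1)
  have hcj : c j ≠ 0 := fun h0 => hj (by rw [h0, zero_mul])
  have hcj' : 0 < c j := lt_of_le_of_ne (hc j) (Ne.symm hcj)
  -- decompose
  have hinv : ∀ l, (fun x => (E l (γ⁻¹ x) : ℚ)) ∈ cone E I := fun l => hgen (hΓ γ⁻¹ (Γ.inv_mem hγ) l)
  have ha : (fun x => c j * (E j (γ⁻¹ x) : ℚ)) ∈ cone E I := cone_smul (hinv j) (hc j)
  have hb : (fun x => ∑ l ∈ Finset.univ.erase j, c l * (E l (γ⁻¹ x) : ℚ)) ∈ cone E I :=
    cone_sum (v := fun l x => c l * (E l (γ⁻¹ x) : ℚ)) _ fun l _ => cone_smul (hinv l) (hc l)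
  obtain ⟨q, hq, hq'⟩ := extremal hE hI hmin hi ha hb (fun x => by
    rw [Finset.add_sum_erase _ (fun l => c l * (E l (γ⁻¹ x) : ℚ)) (Finset.mem_univ j)]
    have h1 := h (γ⁻¹ x)
    dsimp only at h1
    have h2 : γ (γ⁻¹ x) = x := γ.apply_symm_apply x
    rw [h2] at h1
    exact h1)
  have hq0 : q ≠ 0 := by
    rintro rfl
    have := hq' x₀
    rw [zero_mul] at this
    exact hj this
  have hqpos : 0 < q := lt_of_le_of_ne hq (Ne.symm hq0)
  refine ⟨j, c j / q, div_pos hcj' hqpos, fun x => ?_⟩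
  have h1 := hq' (γ x)
  have h2 : γ⁻¹ (γ x) = x := γ.symm_apply_apply x
  rw [h2] at h1
  rw [div_mul_eq_mul_div, eq_div_iff hq0, h1]
  ring

/-- A positive rational factor preserving integrality under all powers is `≥ 1`. -/
theorem one_le_of_pow {r : ℚ} (hr : 0 < r) {z : ℤ} (hz : z ≠ 0) (h : ∀ m : ℕ, ∃ w : ℤ, r ^ m * z = w) : 1 ≤ r := by
  by_contra hlt
  push Not at hlt
  have hz' : (0 : ℚ) < |(z : ℚ)| := abs_pos.2 (by exact_mod_cast hz)
  obtain ⟨m, hm⟩ := exists_pow_lt_of_lt_one (div_pos one_pos hz') hlt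
  obtain ⟨w, hw⟩ := h m
  have h1 : |(w : ℚ)| < 1 := by
    rw [← hw, abs_mul, abs_of_pos (pow_pos hr m)]
    rwa [lt_div_iff₀ hz'] at hm
  have h2 : w = 0 := by
    have : |w| < 1 := by exact_mod_cast h1
    exact Int.abs_lt_one_iff.1 this
  rw [h2] at hw
  have h3 : r ^ m * (z : ℚ) ≠ 0 := mul_ne_zero (pow_pos hr m).ne' (by exact_mod_cast hz)
  exact h3 (by rw [hw]; rfl)

theorem factor_le {i j : Fin n} {γ γ' : Equiv.Perm C} {q q' : ℚ} (hq : 0 < q) (hq' : 0 < q')
    (h : ∀ x, (E i (γ x) : ℚ) = q * E j x) (h' : ∀ x, (E i (γ' x) : ℚ) = q' * E j x) {x₀ : C}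
    (hx₀ : E j x₀ ≠ 0) : q ≤ q' := by
  have h1 : ∀ x, (E j ((γ⁻¹ * γ') x) : ℚ) = q' / q * E j x := by
    intro x
    have e1 := h (γ⁻¹ (γ' x))
    have e0 : γ (γ⁻¹ (γ' x)) = γ' x := γ.apply_symm_apply _
    rw [e0, h' x] at e1
    rw [Equiv.Perm.mul_apply, div_mul_eq_mul_div, eq_div_iff hq.ne', e1]
    ring
  have h2 : ∀ m : ℕ, ∀ x, (E j (((γ⁻¹ * γ') ^ m) x) : ℚ) = (q' / q) ^ m * E j x := by
    intro m
    induction m with
    | zero => intro x; simp
    | succ m ih =>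
      intro x
      rw [pow_succ, Equiv.Perm.mul_apply, ih, h1, pow_succ]
      ring
  have h3 := one_le_of_pow (div_pos hq' hq) hx₀ fun m => ⟨_, (h2 m x₀).symm⟩
  rwa [one_le_div hq] at h3

/-- **Orbits of elements of the cone are finite.** -/
theorem finite_orbit (hE : ∀ i x, 0 ≤ E i x)
    (hΓ : ∀ γ ∈ Γ, ∀ i, (fun x => (E i (γ x) : ℚ)) ∈ cone E Finset.univ) {v : C → ℚ}
    (hv : v ∈ cone E Finset.univ) : {w : C → ℚ | ∃ γ ∈ Γ, w = fun x => v (γ x)}.Finite := by
  classical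
  obtain ⟨I, hI, hmin⟩ := exists_minimal E
  -- orbits of the generators
  have hfin : ∀ i ∈ I, {w : C → ℚ | ∃ γ ∈ Γ, w = fun x => (E i (γ x) : ℚ)}.Finite := by
    intro i hi
    have hne0 : Nonempty (Fin n) := ⟨i⟩
    choose! J q hq hJ using fun (γ : Equiv.Perm C) (hγ : γ ∈ Γ) => exists_proportional Γ hE hΓ hI hmin hi γ hγ
    obtain ⟨x₀, hx₀⟩ := ne_zero_of_minimal hI hmin hi
    -- the value depends on `J γ` only
    have key : ∀ γ ∈ Γ, ∀ γ' ∈ Γ, J γ = J γ' → (fun x => (E i (γ x) : ℚ)) = fun x => (E i (γ' x) : ℚ) := by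
      intro γ hγ γ' hγ' e
      have hne : E (J γ) (γ⁻¹ x₀) ≠ 0 := by
        intro h0
        have h1 := hJ γ hγ (γ⁻¹ x₀)
        have e0 : γ (γ⁻¹ x₀) = x₀ := γ.apply_symm_apply _
        rw [e0, h0] at h1
        exact hx₀ (by simpa using h1)
      have e1 := hJ γ hγ
      have e2 := hJ γ' hγ'
      rw [← e] at e2
      have e3 : q γ = q γ' := le_antisymm (factor_le (hq γ hγ) (hq γ' hγ') e1 e2 hne)
        (factor_le (hq γ' hγ') (hq γ hγ) e2 e1 hne)
      funext x
      rw [e1, e2, e3]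
    let W := {w : C → ℚ | ∃ γ ∈ Γ, w = fun x => (E i (γ x) : ℚ)}
    have hW : ∀ w : W, ∃ γ ∈ Γ, w.1 = fun x => (E i (γ x) : ℚ) := fun w => w.2
    choose γ hγ hw using hW
    have hinj : Function.Injective (fun w : W => J (γ w)) := by
      intro w w' e
      apply Subtype.ext
      rw [hw w, hw w']
      exact key _ (hγ w) _ (hγ w') e
    exact Set.finite_coe_iff.1 (Finite.of_injective _ hinj)
  -- the general case
  obtain ⟨c, hc, hc', h⟩ := cone_trans (fun i _ => hI i) hv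
  have hpi : {f : Fin n → C → ℚ | ∀ i, f i ∈ (if i ∈ I then {w : C → ℚ | ∃ γ ∈ Γ, w = fun x => (E i (γ x) : ℚ)}
      else {fun _ => 0})}.Finite := by
    have := Set.Finite.pi (t := fun i : Fin n => (if i ∈ I then {w : C → ℚ | ∃ γ ∈ Γ, w = fun x => (E i (γ x) : ℚ)}
      else {fun _ => 0})) (fun i => by
        split_ifs with hi
        · exact hfin i hi
        · exact Set.finite_singleton _)
    refine this.subset fun f hf i _ => hf i
  refine (hpi.image fun (f : Fin n → C → ℚ) (x : C) => ∑ i, c i * f i x).subset ?_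
  rintro _ ⟨γ, hγ, rfl⟩
  refine ⟨fun i => if i ∈ I then fun x => (E i (γ x) : ℚ) else fun _ => 0, fun i => ?_, ?_⟩
  · by_cases hi : i ∈ I
    · simp only [hi, if_true]
      exact ⟨γ, hγ, rfl⟩
    · simp only [hi, if_false]
      rfl
  · funext x
    rw [h (γ x)]
    refine Finset.sum_congr rfl fun i _ => ?_
    by_cases hi : i ∈ I
    · simp only [hi, if_true]
    · rw [hc' i hi, zero_mul, zero_mul]

end K936.Cone
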