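import Groth.Agent.AutSch.K936.Piece

/-!
# Automorphisms with a given Hilbert function are points of one algebraic family, part 2
-/

set_option autoImplicit false
universe u

open CategoryTheory CategoryTheory.Limits MonoidalCategory CartesianMonoidalCategory AlgebraicGeometry Opposite CohB1

namespace K936.Piece2

open Groth.Agent.Fga Groth.Agent.Fga.QA1 Groth.Agent.Fga.HilbAsm2 Groth.Agent.Fga.HilbAsm1
  Groth.Agent.CohqB.ProjBC AutSch K936.Piece K936.Graph K936.GraphKer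

variable {k : Type u} [Field k] {n : ℕ}

/-- The Hilbert function of a closed subscheme, through a closed immersion. -/
noncomputable def hf {Y : Scheme.{u}} (f : Y ⟶ Spec (CommRingCat.of k))
    (i : Y ⟶ ProjSpaceOver n (Spec (CommRingCat.of k))) {Z : Scheme.{u}}
    (c : Z ⟶ PicF.XT f (Over.mk (𝟙 (Spec (CommRingCat.of k))))) (d : ℕ) : ℕ :=
  QT8.hilb (c ≫ pullback.fst f (𝟙 _) ≫ i ≫ fstZ n (Spec (CommRingCat.of k)))
        (c ≫ PicF.XTproj f (Over.mk (𝟙 _))) (Coh.structureModule Z) d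

theorem exists_hilb' {Y : Scheme.{u}} (f : Y ⟶ Spec (CommRingCat.of k))
    (i : Y ⟶ ProjSpaceOver n (Spec (CommRingCat.of k))) [IsClosedImmersion i]
    (hi : i ≫ ProjSpaceOver.toBase n _ = f) (F : ℕ → ℤ)
    (x₀ : FGA.HilbSet f (Over.mk (𝟙 (Spec (CommRingCat.of k))))) {Z₀ : Scheme.{u}}
    (c₀ : Z₀ ⟶ PicF.XT f (Over.mk (𝟙 (Spec (CommRingCat.of k))))) [IsClosedImmersion c₀] (hx₀ : x₀.1 = c₀.ker)
    (h₀ : ∃ D : ℕ, ∀ d, D ≤ d → (hf f i c₀ d : ℤ) = F d) :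
    ∃ (H : Over (Spec (CommRingCat.of k))) (ξ : FGA.HilbSet f H), IsNoetherian H.left ∧
      LocallyOfFiniteType H.hom ∧
      ∀ {Z : Scheme.{u}} (c : Z ⟶ PicF.XT f (Over.mk (𝟙 (Spec (CommRingCat.of k))))) [IsClosedImmersion c]
        (x : FGA.HilbSet f (Over.mk (𝟙 (Spec (CommRingCat.of k))))), x.1 = c.ker →
        (∃ D : ℕ, ∀ d, D ≤ d → (hf f i c d : ℤ) = F d) →
        ∃ g : Over.mk (𝟙 (Spec (CommRingCat.of k))) ⟶ H, FGA.hilbPull f g ξ.1 = x.1 := by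
  subst hi
  obtain ⟨D₀, hD₀⟩ := h₀
  obtain ⟨D₁, hD₁⟩ := exists_h_KX i c₀ x₀ hx₀
  obtain ⟨H, ξ, hH1, hH2, hH3⟩ := exists_hilb i F x₀ ⟨max D₀ D₁, fun d hd => by
    rw [hD₁ d (by omega), ← hD₀ d (by omega)]; rfl⟩
  refine ⟨H, ξ, hH1, hH2, fun {Z} c _ x hx ⟨D, hD⟩ => ?_⟩
  obtain ⟨D₂, hD₂⟩ := exists_h_KX i c x hx
  exact hH3 x ⟨max D D₂, fun d hd => by rw [hD₂ d (by omega), ← hD d (by omega)]; rfl⟩

variable (X : Over (Spec (CommRingCat.of k)))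

/-- The closed immersion `X ⟶ X × X × 1` given by the graph of `g`. -/
noncomputable def cg (g : X ⟶ X) : X.left ⟶ PicF.XT (X ⊗ X).hom (Over.mk (𝟙 (Spec (CommRingCat.of k)))) :=
  ((ρ_ X).inv ≫ gr (fst X (𝟙_ _) ≫ g)).left

instance [IsSeparated X.hom] (g : X ⟶ X) : IsClosedImmersion (cg X g) := by
  have h1 : IsClosedImmersion (gr (fst X (𝟙_ _) ≫ g)).left := isClosedImmersion_gr _
  rw [cg, Over.comp_left]
  infer_instance

theorem cg_ker (g : X ⟶ X) : (cg X g).ker = grI (fst X (𝟙_ _) ≫ g) := by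
  rw [cg, Over.comp_left]
  exact Scheme.Hom.ker_comp_of_isIso _ _

theorem cg_fst (g : X ⟶ X) : cg X g ≫ pullback.fst (X ⊗ X).hom (𝟙 _) = (lift (𝟙 X) g).left := by
  have h : ((ρ_ X).inv ≫ gr (fst X (𝟙_ _) ≫ g)) ≫ fst (X ⊗ X) (𝟙_ _) = lift (𝟙 X) g := by
    rw [gr]
    ext1 <;> simp
  rw [← h]
  rfl

theorem cg_proj (g : X ⟶ X) : cg X g ≫ PicF.XTproj (X ⊗ X).hom (Over.mk (𝟙 _)) = X.hom := by
  have h : ((ρ_ X).inv ≫ gr (fst X (𝟙_ _) ≫ g)) ≫ snd (X ⊗ X) (𝟙_ _) = toUnit X := toUnit_unique _ _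
  have h2 : (toUnit X).left ≫ (𝟙_ (Over (Spec (CommRingCat.of k)))).hom = X.hom := Over.w (toUnit X)
  have h3 : (𝟙_ (Over (Spec (CommRingCat.of k)))).hom = 𝟙 _ := rfl
  rw [h3] at h2
  refine Eq.trans ?_ h2
  refine Eq.trans ?_ (Category.comp_id _).symm
  rw [← h]
  rfl

theorem isAutFamily_of_isIso (g : X ⟶ X) [IsIso g] (T : Over (Spec (CommRingCat.of k))) :
    IsAutFamily (fst X T ≫ g) := by
  have h : endOf (fst X T ≫ g) = g ▷ T := by
    rw [endOf]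
    ext1 <;> simp
  rw [IsAutFamily, h]
  infer_instance

theorem hf_cg (i : (X ⊗ X).left ⟶ ProjSpaceOver n (Spec (CommRingCat.of k))) (g : X ⟶ X) (d : ℕ) :
    hf (X ⊗ X).hom i (cg X g) d = QT8.hilb ((lift (𝟙 X) g).left ≫ i ≫ fstZ n (Spec (CommRingCat.of k)))
        X.hom (Coh.structureModule X.left) d := by
  rw [hf, cg_proj, ← Category.assoc (cg X g), cg_fst]

/-- **Automorphisms with a given Hilbert function are points of one family of finite type.** -/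
theorem exists_piece [IsProper X.hom] (i : (X ⊗ X).left ⟶ ProjSpaceOver n (Spec (CommRingCat.of k))) [IsClosedImmersion i]
    (hi : i ≫ ProjSpaceOver.toBase n _ = (X ⊗ X).hom) (F : ℕ → ℤ) :
    ∃ (U : Over (Spec (CommRingCat.of k))) (ψ : X ⊗ U ⟶ X), IsNoetherian U.left ∧ LocallyOfFiniteType U.hom ∧
      IsAutFamily ψ ∧ ∀ g : X ⟶ X, IsIso g →
        (∃ D : ℕ, ∀ d : ℕ, D ≤ d → ((QT8.hilb ((lift (𝟙 X) g).left ≫ i ≫ fstZ n (Spec (CommRingCat.of k)))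
          X.hom (Coh.structureModule X.left) d : ℕ) : ℤ) = F d) →
        ∃ t : 𝟙_ (Over (Spec (CommRingCat.of k))) ⟶ U, pullFam t ψ = fst X (𝟙_ _) ≫ g := by
  by_cases H : ∃ g : X ⟶ X, IsIso g ∧ (∃ D : ℕ, ∀ d : ℕ, D ≤ d →
      ((QT8.hilb ((lift (𝟙 X) g).left ≫ i ≫ fstZ n (Spec (CommRingCat.of k)))
          X.hom (Coh.structureModule X.left) d : ℕ) : ℤ) = F d)
  · obtain ⟨g₀, hg₀, h₀⟩ := H
    have hfl : Flat X.hom := inferInstance
    let x (g : X ⟶ X) : FGA.HilbSet (X ⊗ X).hom (Over.mk (𝟙 (Spec (CommRingCat.of k)))) :=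
      ⟨grI (T := 𝟙_ _) (fst X (𝟙_ _) ≫ g), grI_mem (T := 𝟙_ _) _⟩
    obtain ⟨H, ξ, hH1, hH2, hH3⟩ := exists_hilb' (X ⊗ X).hom i hi F (x g₀) (cg X g₀) (cg_ker X g₀).symm (by
      simp only [hf_cg]; exact h₀)
    obtain ⟨U, j, hj, ψ, hψ, hU⟩ := GraphFam.exists_family H ξ
    have hUL : LocallyOfFiniteType U.hom := by
      rw [← Over.w j]; infer_instance
    have hUN : IsNoetherian U.left := by
      have h1 : IsLocallyNoetherian U.left := isLocallyNoetherian_of_isOpenImmersion j.left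
      have h2 : TopologicalSpace.NoetherianSpace U.left := j.left.isOpenEmbedding.isInducing.noetherianSpace
      exact { }
    refine ⟨U, ψ, hUN, hUL, hψ, fun g hg hD => ?_⟩
    obtain ⟨t, ht⟩ := hH3 (cg X g) (x g) (cg_ker X g).symm (by simp only [hf_cg]; exact hD)
    obtain ⟨s, -, hs⟩ := hU (𝟙_ _) (fst X (𝟙_ _) ≫ g) (isAutFamily_of_isIso X g _) t ht
    exact ⟨s, hs⟩
  · have hS : IsNoetherian (𝟙_ (Over (Spec (CommRingCat.of k)))).left :=
      inferInstanceAs (IsNoetherian (Spec (CommRingCat.of k)))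
    refine ⟨𝟙_ _, fst X (𝟙_ _), hS, inferInstanceAs (LocallyOfFiniteType (𝟙 (Spec (CommRingCat.of k)))), ?_,
      fun g hg hD => absurd ⟨g, hg, hD⟩ H⟩
    have := isAutFamily_of_isIso X (𝟙 X) (𝟙_ _)
    rwa [Category.comp_id] at this

end K936.Piece2
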