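import Groth.Agent.AutSch.K936.Embed
import Groth.Agent.AutSch.K936.Piece2
import Groth.Agent.Pic13.H11.Amp
import Groth.Agent.Pic13.H970.IntForm
import Groth.Agent.Pic13.H138.Finite
import Groth.Agent.S4276
import Groth.Agent.EtpbcA.CdFinDim

/-!
# The key lemma: automorphisms with bounded pullbacks of an ample class form finitely many algebraic families
-/

set_option autoImplicit false
universe u

open CategoryTheory CategoryTheory.Limits MonoidalCategory CartesianMonoidalCategory AlgebraicGeometry CohB1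

namespace K936.Key

open Groth.Agent.Grpsch.PicGrp Groth.Agent.Pic13.H970.IntForm Groth.Agent.Pic13.H11.Cls Groth.Agent.Pic13.H138.AlgEquiv
  Groth.Agent.Pic13.H138.BddPic Groth.Agent.Fga.QTDefs Groth.Agent.Fga.PicMon K936.Embed AutSch
  Groth.Agent.CohqB.ProjBC

variable {k : Type u} [Field k]

theorem hilb_eq {Z : Scheme.{u}} [Z.Over (Spec (CommRingCat.of k))] {n : ℕ} (g : Z ⟶ PZ n) (d : ℕ) :
    Groth.Agent.Fga.QT8.hilb g (Z ↘ Spec (CommRingCat.of k)) (Coh.structureModule Z) d =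
      h k 0 (toMC Z (pull g (o1 n) ^ d)) := by
  rw [FrameStd.hilb_eq, o1, pull_mk, ← mk_tensorPow, toMC_mk, h_mc]

theorem chi_mul_of_mem_tau0 [IsAlgClosed k] {Z : Scheme.{u}} [Z.Over (Spec (CommRingCat.of k))]
    [IsProper (Z ↘ Spec (CommRingCat.of k))] (c a : Pic Z) (ha : a ∈ tau0 k Z) :
    chi k (toMC Z (c * a)) = chi k (toMC Z c) := by
  obtain ⟨d, hd⟩ := Groth.Agent.EtpbcA.CdFinDim.exists_dim_le (Z ↘ Spec (CommRingCat.of k))
  obtain ⟨L, hL, rfl⟩ := exists_mk a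
  obtain ⟨F, hF, rfl⟩ := exists_mk c
  rw [mk_mul_mk, toMC_mk, toMC_mk, chi_unit_eq k d hd, chi_unit_eq k d hd]
  refine Groth.Agent.S4276.result k Z d hd L hL ((isTauEquivZero_iff_mem hL).mpr ha) F ?_
  exact Groth.Agent.Fga.HodgeSec.isCoh_of_isInvertible hF

/-- The dimension of the sections of large powers of an ample class is the Euler characteristic. -/
theorem exists_h_eq_chi {Z : Scheme.{u}} [Z.Over (Spec (CommRingCat.of k))]
    [IsProper (Z ↘ Spec (CommRingCat.of k))] {N : Z.Modules} (hN : CohB1.IsAmple N) :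
    ∃ p₀ : ℕ, ∀ p, p₀ ≤ p → chi k (toMC Z (mk N hN.1 ^ p)) = h k 0 (toMC Z (mk N hN.1 ^ p)) := by
  obtain ⟨p₀, hp⟩ := Groth.Agent.Pic13.H11.Amp.serre k hN (c := (1 : MC Z))
    (Groth.Agent.CurvesC.UnitCoh.isCoh_unit Z)
  refine ⟨p₀, fun p hp' => chi_eq_h_zero k fun i hi => ?_⟩
  have h1 := hp p hp' i hi
  rw [smul_one', Units.val_pow_eq_pow_val, unit_val] at h1
  rwa [map_pow, toMC_mk]

/-- **Key lemma.** -/
theorem key [IsAlgClosed k] (X : Over (Spec (CommRingCat.of k))) [IsProper X.hom] (H : X.left.Modules)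
    (hH : CohB1.IsAmple H) (S : Set (X ⟶ X)) (hS : ∀ g ∈ S, IsIso g)
    (hb : @BddPic k _ X.left ⟨X.hom⟩ {a | ∃ g ∈ S, a = pull g.left (mk H hH.1)}) :
    ∃ (ι : Type (u + 1)) (_ : Finite ι) (U : ι → Over (Spec (CommRingCat.of k))) (ψ : ∀ i, X ⊗ U i ⟶ X),
      (∀ i, IsNoetherian (U i).left ∧ LocallyOfFiniteType (U i).hom ∧ IsAutFamily (ψ i)) ∧
      ∀ g ∈ S, ∃ (i : ι) (t : 𝟙_ (Over (Spec (CommRingCat.of k))) ⟶ U i),
        pullFam t (ψ i) = fst X (𝟙_ _) ≫ g := by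
  let _ : X.left.Over (Spec (CommRingCat.of k)) := ⟨X.hom⟩
  have _ : IsProper (X.left ↘ Spec (CommRingCat.of k)) := ‹IsProper X.hom›
  have hXX : IsProper (X ⊗ X).hom := inferInstanceAs (IsProper (pullback.fst X.hom X.hom ≫ X.hom))
  let h0 : Pic X.left := mk H hH.1
  let L : (X ⊗ X).left.Modules := tensorMod ((Scheme.Modules.pullback (pullback.fst X.hom X.hom)).obj H)
    ((Scheme.Modules.pullback (pullback.snd X.hom X.hom)).obj H)
  have hL : IsAmple L := K592.AmpleProd.isAmple_fst_snd X.hom X.hom H H hH hH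
  have hLc : mk L hL.1 = pull (fst X X).left h0 * pull (snd X X).left h0 := rfl
  obtain ⟨e, m, i, he, hi, hif, hcl⟩ := exists_embedding (X ⊗ X).hom L hL
  obtain ⟨s, hs, hsS, hsA⟩ := Groth.Agent.Pic13.H138.Finite.exists_finite hb
  have hF : ∀ g ∈ S, ∀ b, AlgEq k X.left b (pull g.left h0) → ∃ D : ℕ, ∀ d : ℕ, D ≤ d →
      ((Groth.Agent.Fga.QT8.hilb ((lift (𝟙 X) g).left ≫ i ≫ fstZ m (Spec (CommRingCat.of k))) X.hom
        (Coh.structureModule X.left) d : ℕ) : ℤ) = chi k (toMC X.left ((h0 * b) ^ (e * d))) := by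
    intro g hg b hgb
    have hc : IsClosedImmersion (lift (𝟙 X) g).left := by
      have h1 := Piece2.cg_fst X g
      have h2 : IsIso (pullback.fst (X ⊗ X).hom (𝟙 (Spec (CommRingCat.of k)))) := inferInstance
      rw [← h1]
      infer_instance
    have hcs : CompactSpace X.left := QuasiCompact.compactSpace_of_compactSpace X.hom
    have hN : IsAmple ((Scheme.Modules.pullback (lift (𝟙 X) g).left).obj L) :=
      K592.AmplePull.isAmple_pullback_of_isEmbedding (lift (𝟙 X) g).left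
        (lift (𝟙 X) g).left.isClosedEmbedding.isEmbedding L hL
    have hNc : mk _ hN.1 = h0 * pull g.left h0 := by
      have h1 : mk _ hN.1 = pull (lift (𝟙 X) g).left (mk L hL.1) := (pull_mk _ _).symm
      rw [h1, hLc, map_mul, ← pull_comp, ← pull_comp, ← Over.comp_left, ← Over.comp_left, lift_fst, lift_snd]
      change pull (𝟙 _) h0 * _ = _
      rw [pull_id]
    obtain ⟨p₀, hp₀⟩ := exists_h_eq_chi (k := k) hN
    refine ⟨p₀, fun d hd => ?_⟩
    have h2 := hilb_eq (k := k) (Z := X.left)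
      ((lift (𝟙 X) g).left ≫ i ≫ fstZ m (Spec (CommRingCat.of k))) d
    have h3 : pull ((lift (𝟙 X) g).left ≫ i ≫ fstZ m (Spec (CommRingCat.of k))) (o1 m) = mk _ hN.1 ^ e := by
      rw [pull_comp, hcl, map_pow, pull_mk]
    have h4 : d ≤ e * d := Nat.le_mul_of_pos_left d he
    rw [h3, ← pow_mul] at h2
    refine (congrArg (fun z : ℕ => (z : ℤ)) h2).trans ?_
    rw [← hp₀ (e * d) (hd.trans h4), hNc]
    have h5 : (h0 * pull g.left h0) ^ (e * d) = (h0 * b) ^ (e * d) * (pull g.left h0 * b⁻¹) ^ (e * d) := by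
      rw [← mul_pow]
      congr 1
      rw [mul_assoc, mul_comm (pull g.left h0), mul_inv_cancel_left]
    rw [h5]
    refine chi_mul_of_mem_tau0 _ _ (pow_mem (alg0_le_tau0 (algEq_iff_mem.1 hgb.symm)) _)
  choose U ψ hUN hUL hψ hU using fun b : s => Piece2.exists_piece X i hif
    (fun d => chi k (toMC X.left ((h0 * b.1) ^ (e * d))))
  refine ⟨s, hs.to_subtype, U, ψ, fun b => ⟨hUN b, hUL b, hψ b⟩, fun g hg => ?_⟩
  obtain ⟨b, hb, hgb⟩ := hsA (pull g.left h0) ⟨g, hg, rfl⟩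
  obtain ⟨t, ht⟩ := hU ⟨b, hb⟩ g (hS g hg) (hF g hg b hgb)
  exact ⟨⟨b, hb⟩, t, ht⟩

end K936.Key
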