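import Groth.Agent.AutSch.K936.QC
import Groth.Agent.Sga3C.LocConn

/-!
# Points of an automorphism group scheme contained in finitely many families
-/

set_option autoImplicit false
universe u v

open CategoryTheory CategoryTheory.Limits MonoidalCategory CartesianMonoidalCategory AlgebraicGeometry

namespace K936.QCG

open AutSch K936.Fam K936.QC

variable {k : Type u} [Field k]

/-- The automorphism attached to a point. -/
noncomputable def autPt {G X : Over (Spec (CommRingCat.of k))} [GrpObj G] (a : AlgGrp.Action G X)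
    (x : 𝟙_ (Over (Spec (CommRingCat.of k))) ⟶ G) : X ⟶ X :=
  lift (toUnit X ≫ x) (𝟙 X) ≫ a.act

theorem famOf_eq {G X : Over (Spec (CommRingCat.of k))} [GrpObj G] (a : AlgGrp.Action G X)
    (x : 𝟙_ (Over (Spec (CommRingCat.of k))) ⟶ G) : famOf a x = fst X (𝟙_ _) ≫ autPt a x := by
  rw [famOf, autPt, ← Category.assoc]
  congr 1
  ext1
  · simp only [lift_fst, Category.assoc]
    rw [← Category.assoc]
    congr 1
    exact toUnit_unique _ _
  · simp

theorem isIso_autPt {G X : Over (Spec (CommRingCat.of k))} [GrpObj G] (a : AlgGrp.Action G X)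
    (x : 𝟙_ (Over (Spec (CommRingCat.of k))) ⟶ G) : IsIso (autPt a x) := by
  have h1 : IsIso (endOf (famOf a x)) := isAutFamily_famOf a x
  rw [famOf_eq] at h1
  have h2 : endOf (fst X (𝟙_ _) ≫ autPt a x) = (ρ_ X).hom ≫ autPt a x ≫ (ρ_ X).inv := by
    rw [endOf]
    ext1
    · rw [lift_fst, Category.assoc, Category.assoc]
      simp [rightUnitor_hom]
    · exact toUnit_unique _ _
  rw [h2] at h1
  have h3 : autPt a x = (ρ_ X).inv ≫ ((ρ_ X).hom ≫ autPt a x ≫ (ρ_ X).inv) ≫ (ρ_ X).hom := by simp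
  rw [h3]
  infer_instance

/-- A finite collection of families containing a set of points. -/
structure Fams {G X : Over (Spec (CommRingCat.of k))} [GrpObj G] (a : AlgGrp.Action G X)
    (P : ∀ ⦃T : Over (Spec (CommRingCat.of k))⦄, (X ⊗ T ⟶ X) → Prop)
    (S : Set (𝟙_ (Over (Spec (CommRingCat.of k))) ⟶ G)) where
  ι : Type (u + 1)
  fin : Finite ι
  U : ι → Over (Spec (CommRingCat.of k))
  ψ : ∀ i, X ⊗ U i ⟶ X
  noeth : ∀ i, IsNoetherian (U i).left
  lft : ∀ i, LocallyOfFiniteType (U i).hom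
  aut : ∀ i, IsAutFamily (ψ i)
  prop : ∀ i, P (ψ i)
  cov : ∀ x ∈ S, ∃ (i : ι) (t : 𝟙_ (Over (Spec (CommRingCat.of k))) ⟶ U i), pullFam t (ψ i) = famOf a x

variable {G X : Over (Spec (CommRingCat.of k))} [GrpObj G] {a : AlgGrp.Action G X}
    {P : ∀ ⦃T : Over (Spec (CommRingCat.of k))⦄, (X ⊗ T ⟶ X) → Prop}
    {S : Set (𝟙_ (Over (Spec (CommRingCat.of k))) ⟶ G)} (F : Fams a P S) (hG : RepresentsSub X P G a)

/-- The classifying morphism. -/
noncomputable def Fams.γ (i : F.ι) : F.U i ⟶ G := (hG.2 (F.U i) (F.ψ i) (F.aut i) (F.prop i)).choose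

theorem Fams.famOf_γ (i : F.ι) : famOf a (F.γ hG i) = F.ψ i :=
  (hG.2 (F.U i) (F.ψ i) (F.aut i) (F.prop i)).choose_spec.1

theorem Fams.exists_eq (x : 𝟙_ (Over (Spec (CommRingCat.of k))) ⟶ G) (hx : x ∈ S) :
    ∃ (i : F.ι) (t : 𝟙_ (Over (Spec (CommRingCat.of k))) ⟶ F.U i), t ≫ F.γ hG i = x := by
  obtain ⟨i, t, ht⟩ := F.cov x hx
  refine ⟨i, t, famOf_injective a hG ?_⟩
  rw [famOf_comp, F.famOf_γ hG, ht]

include F hG in
theorem Fams.exists_isCompact : ∃ K : Set G.left, IsCompact K ∧ ∀ x ∈ S, pt x ∈ K := by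
  have := F.fin
  refine ⟨⋃ i, Set.range (F.γ hG i).left, ?_, fun x hx => ?_⟩
  · refine isCompact_iUnion fun i => ?_
    have := F.noeth i
    exact isCompact_range (F.γ hG i).left.continuous
  · obtain ⟨i, t, rfl⟩ := F.exists_eq hG x hx
    exact Set.mem_iUnion.2 ⟨i, _, (pt_comp t _).symm⟩

include F hG in
theorem Fams.quasiCompact [IsAlgClosed k] [LocallyOfFiniteType G.hom] (hS : ∀ x, x ∈ S) : QuasiCompact G.hom := by
  obtain ⟨K, hK, h⟩ := F.exists_isCompact hG
  exact quasiCompact_of_points G K hK fun x => h x (hS x)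

include F hG in
theorem Fams.finite_components :
    Set.Finite {c : _root_.ConnectedComponents ↥G.left | ∃ x ∈ S, ConnectedComponents.mk (pt x) = c} := by
  have := F.fin
  have h1 : ∀ i, Finite (ConnectedComponents (F.U i).left) := fun i => by
    have := F.noeth i
    have := Groth.Agent.Sga3C.LocConn.locallyConnectedSpace_of_isLocallyNoetherian (F.U i).left
    infer_instance
  refine Set.Finite.subset (Set.finite_iUnion fun i => Set.finite_range
    (F.γ hG i).left.continuous.connectedComponentsMap) ?_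
  rintro _ ⟨x, hx, rfl⟩
  obtain ⟨i, t, rfl⟩ := F.exists_eq hG x hx
  exact Set.mem_iUnion.2 ⟨i, ConnectedComponents.mk (pt t), rfl⟩

end K936.QCG
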