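import Groth.Prelude.Def_RelProj
import Groth.Agent.AutSch.K936.Key
import Groth.Agent.AutSch.K936.QCG
import Groth.Agent.AutSch.K936.Cone
import Groth.Agent.AutSch.K936.CurvePerm
import Groth.Agent.Pic13.H969.Bridge
import Groth.Agent.S4284
import Groth.Agent.Ega3B.SerreTwist

/-!
# Bounded pullbacks of ample classes and quasi-compactness of automorphism group schemes
-/

set_option autoImplicit false
universe u

open CategoryTheory CategoryTheory.Limits MonoidalCategory CartesianMonoidalCategory AlgebraicGeometry CohB1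

namespace K936.NefCone

open Groth.Agent.Grpsch.PicGrp Groth.Agent.Pic13.H950.NumCl Groth.Agent.Pic13.H138.BddPic AutSch
  K936.CurvePerm K936.QCG

variable {k : Type u} [Field k] {X : Over (Spec (CommRingCat.of k))}

/-- A projective scheme is proper. -/
theorem isProper (hX : RelProj.IsHProjective X.hom) : IsProper X.hom := by
  obtain ⟨n, i, hi, h⟩ := hX
  rw [← h]
  have := Groth.Agent.Dix.ProjProper.isProper_toBase n (Spec (CommRingCat.of k))
  infer_instance

/-- A projective scheme carries an ample module. -/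
theorem exists_ample (hX : RelProj.IsHProjective X.hom) : ∃ H : X.left.Modules, CohB1.IsAmple H := by
  obtain ⟨n, i, hi, h⟩ := hX
  exact ⟨_, Groth.Agent.Ega3B.SerreTwist.isAmple_lineOne n i⟩

/-- Classes with bounded degrees are bounded. -/
theorem bddPic_of_dgo [IsAlgClosed k] [IsProper X.hom] (A : Set (Pic X.left))
    (h : ∀ C : Curve X.left, ∃ B : ℤ, ∀ a ∈ A, |dgo C a| ≤ B) : @BddPic k _ X.left ⟨X.hom⟩ A := by
  let _ : X.left.Over (Spec (CommRingCat.of k)) := ⟨X.hom⟩
  have : IsProper (X.left ↘ Spec (CommRingCat.of k)) := ‹IsProper X.hom›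
  obtain ⟨p, Y, ι, hY, hP⟩ := Groth.Agent.S4284.result k X.left
  let C : Fin p → Curve X.left := fun j => ⟨Y j, ι j, (hY j).1, (hY j).2.1, (hY j).2.2⟩
  let P : X.left.Modules → Prop := fun L => ∃ hL : PicF.IsInvertible L, mk L hL ∈ A
  choose B hB using h
  have hb : Pic13.IsBounded k X.left P := by
    refine (hP P fun L hL => hL.1).2 ?_
    refine ⟨∑ j, |B (C j)|, fun L hL j => ?_⟩
    obtain ⟨hL, ha⟩ := hL
    refine (hB (C j) _ ha).trans ((le_abs_self _).trans ?_)
    exact Finset.single_le_sum (f := fun j => |B (C j)|) (fun j _ => abs_nonneg _) (Finset.mem_univ j)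
  refine (Groth.Agent.Pic13.H969.Bridge.bridge k X.left P hb).mono fun a ha => ?_
  obtain ⟨L, hL, rfl⟩ := exists_mk a
  exact ⟨L, hL, ⟨hL, ha⟩, rfl⟩

/-- The degree of an ample class on a curve is positive. -/
theorem dgo_pos [IsProper X.hom] {H : X.left.Modules} (hH : CohB1.IsAmple H) (C : Curve X.left) :
    0 < dgo C (mk H hH.1) := by
  have h1 : IsProper (C.ι ≫ X.hom) := inferInstance
  have hcs : CompactSpace C.Y := QuasiCompact.compactSpace_of_compactSpace (C.ι ≫ X.hom)
  rw [dgo_mk, ← Groth.Agent.Pic13.H945.DegAmple.isAmple_iff_curveDeg_pos k (C.ι ≫ X.hom) C.dim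
    (Groth.Agent.Fdesc.LocGen.isInvertible_pullback C.ι hH.1)]
  exact K592.AmplePull.isAmple_pullback_of_isEmbedding C.ι C.ι.isClosedEmbedding.isEmbedding H hH

/-- Families containing the points of an automorphism group scheme with bounded pullbacks of an ample class. -/
theorem fams [IsAlgClosed k] [IsProper X.hom] {G : Over (Spec (CommRingCat.of k))} [GrpObj G]
    (a : AlgGrp.Action G X) {H : X.left.Modules} (hH : CohB1.IsAmple H)
    (S : Set (𝟙_ (Over (Spec (CommRingCat.of k))) ⟶ G))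
    (hb : @BddPic k _ X.left ⟨X.hom⟩ {c | ∃ x ∈ S, c = pull (autPt a x).left (mk H hH.1)}) :
    Nonempty (Fams a (fun _ _ => True) S) := by
  obtain ⟨ι, hι, U, ψ, h1, h2⟩ := Key.key X H hH (autPt a '' S) (by
    rintro _ ⟨x, -, rfl⟩
    exact isIso_autPt a x) (hb.mono (by
      rintro _ ⟨_, ⟨x, hx, rfl⟩, rfl⟩
      exact ⟨x, hx, rfl⟩))
  exact ⟨⟨ι, hι, U, ψ, fun i => (h1 i).1, fun i => (h1 i).2.1, fun i => (h1 i).2.2, fun _ => trivial, fun x hx => by
    obtain ⟨i, t, ht⟩ := h2 (autPt a x) ⟨x, hx, rfl⟩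
    exact ⟨i, t, by rw [ht, famOf_eq]⟩⟩⟩

end K936.NefCone
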