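import Groth.Agent.AutSch.K936.LowDim
import Groth.Agent.AutSch.K936.PullEff
import Groth.Agent.AutSch.K936.IntBd2
import Groth.Agent.AutSch.K936.NefCone

/-!
# Automorphisms preserving the numerical class of a big module
-/

set_option autoImplicit false
universe u

open CategoryTheory CategoryTheory.Limits MonoidalCategory CartesianMonoidalCategory AlgebraicGeometry CohB1

namespace K936.BigBd

open Groth.Agent.Grpsch.PicGrp Groth.Agent.Pic13.H950.NumCl Groth.Agent.Pic13.H138.BddPic AutSch
  K936.CurvePerm K936.QCG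

variable {k : Type u} [Field k] [IsAlgClosed k] {X : Over (Spec (CommRingCat.of k))} [IsProper X.hom]
  [IsIntegral X.left]

/-- The automorphisms preserving the numerical class of a big module move an ample class in a bounded family. -/
theorem bdd (l : Pic X.left) {A E : X.left.Modules} (hA : CohB1.IsAmple A)
    (hE : PicF.IsInvertible E) (s : Coh.structureModule X.left ⟶ E) (hs : s ≠ 0) (n : ℕ)
    (hLAE : l ^ n = mk A hA.1 * mk E hE) (S : Set (X ⟶ X)) (hS : ∀ g ∈ S, IsIso g)
    (hnum : ∀ g ∈ S, ∀ C : Curve X.left, dgo C (l * (pull g.left l)⁻¹) = 0) :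
    @BddPic k _ X.left ⟨X.hom⟩ {c | ∃ g ∈ S, c = pull g.left (mk A hA.1)} := by
  obtain ⟨d, hd⟩ := LowDim.exists_dim (X := X)
  rcases Nat.lt_or_ge 1 d with h2 | h1
  · obtain ⟨t, rfl⟩ : ∃ t, d = t + 2 := ⟨d - 2, by omega⟩
    let _ : X.left.Over (Spec (CommRingCat.of k)) := ⟨X.hom⟩
    have _ : IsProper (X.left ↘ Spec (CommRingCat.of k)) := ‹IsProper X.hom›
    have hcs : CompactSpace X.left := QuasiCompact.compactSpace_of_compactSpace X.hom
    refine (IntBd2.bddPic_parts k X.left t hd n l hA).mono ?_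
    rintro _ ⟨g, hg, rfl⟩
    have hgi := hS g hg
    have hgl : IsIso g.left := isIso_left g
    obtain ⟨τ, hτ⟩ := PullEff.exists_pull g.left hE s hs
    refine ⟨_, K592.AmplePull.isAmple_pullback_of_isEmbedding g.left g.left.isClosedEmbedding.isEmbedding A hA,
      pull g.left l, pull g.left (mk E hE), (pull_mk _ _), ?_, ⟨_, _, τ, hτ, pull_mk _ _⟩, fun C => hnum g hg C⟩
    rw [← map_pow, hLAE, map_mul]
  · refine NefCone.bddPic_of_dgo _ fun C => ?_
    have h1' : topologicalKrullDim X.left ≤ 1 := by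
      rw [hd]
      exact_mod_cast h1
    obtain ⟨B, hB⟩ := LowDim.exists_bound h1' (mk A hA.1) C
    refine ⟨B, ?_⟩
    rintro _ ⟨g, hg, rfl⟩
    exact hB g (hS g hg)

end K936.BigBd
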