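import Groth.Agent.AutSch.K936.BigBd

/-!
# Components of the automorphism group scheme preserving a big numerical class
-/

set_option autoImplicit false
universe u

namespace K936.BigMain

theorem swap_mem {Γ : Type*} [CommGroup Γ] (H : Subgroup Γ) {a b : Γ} (h : a * b⁻¹ ∈ H) : b * a⁻¹ ∈ H := by
  have := H.inv_mem h
  rwa [mul_inv, inv_inv, mul_comm] at this

open CategoryTheory MonoidalCategory CartesianMonoidalCategory AlgebraicGeometry
open AutSch

open Groth.Agent.Grpsch.PicGrp Groth.Agent.Pic13.H950.NumCl K936.CurvePerm K936.QCG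

theorem result (k : Type u) [Field k] [IsAlgClosed k]
    (X : Over (Spec (CommRingCat.of k))) [IsIntegral X.left] (hXn : Pi1.IsNormalScheme X.left)
    (hX : RelProj.IsHProjective X.hom)
    (L A E : X.left.Modules) (hL : PicF.IsInvertible L) (hA : CohB1.IsAmple A) (hE : PicF.IsInvertible E)
    (s : Coh.structureModule X.left ⟶ E) (hs : s ≠ 0)
    (n : ℕ) (hn : 0 < n) (hLAE : Nonempty (CohB1.tensorPow L n ≅ CohB1.tensorMod A E))
    (hLnef : (∀ (C : Scheme.{u}) (i : C ⟶ X.left) [IsClosedImmersion i], IsIntegral C → topologicalKrullDim ↥C = 1 →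
        0 ≤ Pic13.curveDeg k (i ≫ X.hom) ((Scheme.Modules.pullback i).obj L)))
    (G : Over (Spec (CommRingCat.of k))) [GrpObj G] [LocallyOfFiniteType G.hom] (a : AlgGrp.Action G X)
    (hG : AutSch.Represents X G a) :
    Set.Finite {c : _root_.ConnectedComponents ↥G.left | ∃ g : 𝟙_ (Over (Spec (CommRingCat.of k))) ⟶ G,
        (∀ M : X.left.Modules, PicF.IsInvertible M → Nonempty (CohB1.tensorMod L M ≅ Coh.structureModule X.left) →
          @Pic13.IsNumEquivZero k _ X.left ⟨X.hom⟩
            (CohB1.tensorMod ((Scheme.Modules.pullback (lift (toUnit X ≫ g) (𝟙 X) ≫ a.act).left).obj L) M)) ∧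
        ConnectedComponents.mk (g.left.base (IsLocalRing.closedPoint k)) = c} := by
  have hp : IsProper X.hom := NefCone.isProper hX
  let S : Set (𝟙_ (Over (Spec (CommRingCat.of k))) ⟶ G) := {g | ∀ M : X.left.Modules, PicF.IsInvertible M →
    Nonempty (CohB1.tensorMod L M ≅ Coh.structureModule X.left) →
      @Pic13.IsNumEquivZero k _ X.left ⟨X.hom⟩
        (CohB1.tensorMod ((Scheme.Modules.pullback (lift (toUnit X ≫ g) (𝟙 X) ≫ a.act).left).obj L) M)}
  have hLAE' : mk L hL ^ n = mk A hA.1 * mk E hE := by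
    rw [← mk_tensorPow, mk_mul_mk]
    exact mk_congr hLAE.some
  have hb : @Groth.Agent.Pic13.H138.BddPic.BddPic k _ X.left ⟨X.hom⟩
      {c | ∃ x ∈ S, c = pull (autPt a x).left (mk A hA.1)} := by
    refine (BigBd.bdd (mk L hL) hA hE s hs n hLAE' (autPt a '' S) ?_ ?_).mono ?_
    · rintro _ ⟨x, -, rfl⟩
      exact isIso_autPt a x
    · rintro _ ⟨x, hx, rfl⟩ C
      let _ : X.left.Over (Spec (CommRingCat.of k)) := ⟨X.hom⟩
      have _ : IsProper (X.left ↘ Spec (CommRingCat.of k)) := ‹IsProper X.hom›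
      have h1 := hx (dual L) (isInvertible_dual hL) ⟨@asIso _ _ _ _ (ev L) (isIso_ev hL)⟩
      have hM := Groth.Agent.Fdesc.LocGen.isInvertible_tensorMod
        (Groth.Agent.Fdesc.LocGen.isInvertible_pullback (autPt a x).left hL) (isInvertible_dual hL)
      have h2 := (mem_numCl_iff k X.left hM).2 h1
      have h3 : mk _ hM = pull (autPt a x).left (mk L hL) * (mk L hL)⁻¹ := rfl
      rw [h3] at h2
      exact swap_mem _ h2 C
    · rintro _ ⟨x, hx, rfl⟩
      exact ⟨_, ⟨x, hx, rfl⟩, rfl⟩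
  obtain ⟨F⟩ := NefCone.fams a hA S hb
  refine (F.finite_components hG).subset ?_
  rintro c ⟨g, hg, rfl⟩
  exact ⟨g, hg, rfl⟩

end K936.BigMain
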