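import Groth.Agent.S2422
import Groth.Agent.Dix.ContractSurf

/-!
# `O_Y = f_* O_X` for a proper birational morphism to a normal scheme
-/

set_option autoImplicit false
universe u

open CategoryTheory AlgebraicGeometry

namespace K936.Birational

theorem isIso_stalkSpecializes {Y : Scheme.{u}} {x y : Y} (h : x ⤳ y) (h' : y ⤳ x) :
    IsIso (Y.presheaf.stalkSpecializes h) := by
  refine ⟨Y.presheaf.stalkSpecializes h', ?_, ?_⟩
  · rw [TopCat.Presheaf.stalkSpecializes_comp]
    simp
  · rw [TopCat.Presheaf.stalkSpecializes_comp]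
    simp

theorem isIso_app {X Y : Scheme.{u}} [IsIntegral X] [IsIntegral Y] [IsLocallyNoetherian X] [IsLocallyNoetherian Y]
    (hY : Pi1.IsNormalScheme Y) (f : X ⟶ Y) [IsProper f] (U : Y.Opens) (hU : (U : Set Y).Nonempty)
    (hf : IsIso (f ∣_ U)) : ∀ V : Y.Opens, IsIso (f.app V) := by
  have hgU : genericPoint Y ∈ U := ((genericPoint_spec Y).mem_open_set_iff U.isOpen).2 (by simpa using hU)
  have hsub : (U : Set Y) ⊆ Set.range f := by
    intro y hy
    obtain ⟨x, hx⟩ := (f ∣_ U).surjective ⟨y, hy⟩
    refine ⟨x.1, ?_⟩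
    rw [← morphismRestrict_base_coe, hx]
  have hdense : DenseRange f := by
    have : Dense (U : Set Y) := U.isOpen.dense hU
    exact this.mono hsub
  have hgen : IsGenericPoint (f (genericPoint X)) Set.univ := by
    have h1 : IsGenericPoint (f (genericPoint X)) (closure (f '' Set.univ)) :=
      (genericPoint_spec X).image f.continuous
    rwa [Set.image_univ, hdense.closure_range] at h1
  have heq : f (genericPoint X) = genericPoint Y := hgen.eq (genericPoint_spec Y)
  have h1 : f (genericPoint X) ⤳ genericPoint Y := by rw [heq]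
  have h2 : genericPoint Y ⤳ f (genericPoint X) := by rw [heq]
  refine Groth.Agent.S2422.result hY f h1 (fun x _ => ?_)
  have hi := isIso_stalkSpecializes h1 h2
  have hj := Groth.Agent.Dix.ContractSurf.isIso_stalkMap f U (genericPoint X) (by rw [heq]; exact hgU)
  have s1 : Function.Surjective (Y.presheaf.stalkSpecializes h1).hom :=
    (ConcreteCategory.bijective_of_isIso (Y.presheaf.stalkSpecializes h1)).2
  have s2 : Function.Surjective (f.stalkMap (genericPoint X)).hom :=
    (ConcreteCategory.bijective_of_isIso (f.stalkMap (genericPoint X))).2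
  obtain ⟨z, hz⟩ := (s2.comp s1) x
  exact ⟨z, hz⟩

end K936.Birational
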