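import Groth.Agent.AutSch.K936.Fam
import Groth.Agent.AutSch.K936.Rigid
import Groth.Agent.S3567
import Groth.Agent.Pi1A.SteinEtale
import Groth.Agent.Books.AntiAffine
import Mathlib.AlgebraicGeometry.Geometrically.Basic

/-!
# Blanchard's lemma in families

`f : X ⟶ Y` with `O_Y = f_* O_X`, `X`, `Y` proper over a field.  A family of automorphisms of `X` descends along
`f` as soon as it contracts the fibres of `f`; over a group scheme `G` acting on `X`, the locus where this holds is
open.
-/

set_option autoImplicit false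
universe u

open CategoryTheory MonoidalCategory CartesianMonoidalCategory MonObj GrpObj AlgebraicGeometry

namespace K936.Blanchard

open AutSch K936.Fam

variable {k : Type u} [Field k]

local notation "Sk" => Spec (CommRingCat.of k)

/-- The condition on families of S17837: the family descends along `f`. -/
def Desc {X Y : Over (Spec (CommRingCat.of k))} (f : X ⟶ Y) (T : Over (Spec (CommRingCat.of k))) (φ : X ⊗ T ⟶ X) : Prop :=
  ∃ ψ : Y ⊗ T ⟶ Y, IsAutFamily ψ ∧ endOf φ ≫ (f ▷ T) = (f ▷ T) ≫ endOf ψ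

section

variable {X Y : Over (Spec (CommRingCat.of k))} (f : X ⟶ Y)

theorem surjective_of_isIso_app {A B : Scheme.{u}} (f : A ⟶ B) (hcl : IsClosed (Set.range f))
    (hf : ∀ U : B.Opens, IsIso (f.app U)) : Surjective f := by
  refine ⟨fun y => ?_⟩
  by_contra hy
  let U : B.Opens := ⟨(Set.range f)ᶜ, hcl.isOpen_compl⟩
  have hyU : y ∈ U := hy
  have hne : Nonempty U := ⟨⟨y, hyU⟩⟩
  have h1 : Nontrivial Γ(B, U) := inferInstance
  have h2 : f ⁻¹ᵁ U = ⊥ := by
    ext x
    simp only [TopologicalSpace.Opens.coe_bot, Set.mem_empty_iff_false, iff_false]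
    intro hx
    exact hx ⟨x, rfl⟩
  have h3 : Subsingleton Γ(A, f ⁻¹ᵁ U) := by
    rw [h2]
    exact CommRingCat.subsingleton_of_isTerminal A.sheaf.isTerminalOfEmpty
  have := hf U
  have h4 : Function.Injective (f.app U).hom := (ConcreteCategory.bijective_of_isIso (f.app U)).1
  exact not_subsingleton Γ(B, U) h4.subsingleton

theorem isIso_app_whisker [QuasiCompact f.left] [QuasiSeparated f.left] (hf : ∀ U : Y.left.Opens, IsIso (f.left.app U))
    (T : Over (Spec (CommRingCat.of k))) (U : (Y ⊗ T).left.Opens) : IsIso ((f ▷ T).left.app U) := by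
  have sq : IsPullback (fst X T).left (f ▷ T).left f.left (fst Y T).left :=
    ((Groth.Agent.Books.AntiAffine.isPullback_whiskerRight f T).map (Over.forget _)).flip
  have hfl : Flat (fst Y T).left := by
    have : (fst Y T).left = Limits.pullback.fst Y.hom T.hom := rfl
    rw [this]
    infer_instance
  exact Groth.Agent.Pi1A.SteinEtale.isIso_app_of_flat sq hf U

variable [IsProper X.hom] [IsProper Y.hom]

theorem isProper_left : IsProper f.left := by
  have h : f.left ≫ Y.hom = X.hom := Over.w f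
  have : IsProper (f.left ≫ Y.hom) := by rw [h]; infer_instance
  exact IsProper.of_comp f.left Y.hom

theorem isProper_whisker (T : Over (Spec (CommRingCat.of k))) : IsProper (f ▷ T).left :=
  Groth.Agent.Books.AntiAffine.whiskerRight_left_mem @IsProper f T (isProper_left f)

variable (hf : ∀ U : Y.left.Opens, IsIso (f.left.app U))

include hf

theorem surjective_whisker (T : Over (Spec (CommRingCat.of k))) : Surjective (f ▷ T).left := by
  have := isProper_left f
  have h1 : IsClosedMap f.left := f.left.isClosedMap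
  exact Groth.Agent.Books.AntiAffine.whiskerRight_left_mem @Surjective f T
    (surjective_of_isIso_app f.left (by rw [← Set.image_univ]; exact h1 _ isClosed_univ) hf)

theorem isIso_c (T : Over (Spec (CommRingCat.of k))) : IsIso (f ▷ T).left.c := by
  have := isProper_left f
  rw [NatTrans.isIso_iff_isIso_app]
  intro U
  exact isIso_app_whisker f hf T U.unop

theorem isQuotientMap (T : Over (Spec (CommRingCat.of k))) : Topology.IsQuotientMap (f ▷ T).left.base := by
  have := isProper_whisker f T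
  have := surjective_whisker f hf T
  exact (f ▷ T).left.isClosedMap.isQuotientMap (f ▷ T).left.continuous (f ▷ T).left.surjective

theorem epi_left (T : Over (Spec (CommRingCat.of k))) : Epi (f ▷ T).left := by
  have := surjective_whisker f hf T
  have := isIso_c f hf T
  refine ⟨fun {W} v₁ v₂ e => ?_⟩
  exact (Groth.Agent.S3567.result (f ▷ T).left (isQuotientMap f hf T) W).1 v₁ v₂ e

theorem epi_whisker (T : Over (Spec (CommRingCat.of k))) : Epi (f ▷ T) := by
  have := epi_left f hf T
  exact (Over.forget _).epi_of_epi_map (f := f ▷ T) this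

/-- Descent of a morphism over `k` contracting the fibres of `f ▷ T`. -/
theorem exists_desc {T Z : Over (Spec (CommRingCat.of k))} (h : X ⊗ T ⟶ Z)
    (hc : ∀ a b : (X ⊗ T).left, (f ▷ T).left a = (f ▷ T).left b → h.left a = h.left b) :
    ∃ ψ : Y ⊗ T ⟶ Z, f ▷ T ≫ ψ = h := by
  have := surjective_whisker f hf T
  have := isIso_c f hf T
  obtain ⟨v, hv⟩ := (Groth.Agent.S3567.result (f ▷ T).left (isQuotientMap f hf T) Z.left).2 h.left hc
  have := epi_left f hf T
  refine ⟨Over.homMk v ?_, ?_⟩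
  · rw [← cancel_epi (f ▷ T).left, ← Category.assoc, hv, Over.w, Over.w]
  · ext1
    exact hv

/-- If an automorphism family and its inverse contract the fibres of `f`, the family descends. -/
theorem desc_of_contr {T : Over (Spec (CommRingCat.of k))} {φ φ' : X ⊗ T ⟶ X} (h12 : endOf φ ≫ endOf φ' = 𝟙 _)
    (h21 : endOf φ' ≫ endOf φ = 𝟙 _)
    (hc : ∀ a b : (X ⊗ T).left, (f ▷ T).left a = (f ▷ T).left b →
      (endOf φ ≫ f ▷ T).left a = (endOf φ ≫ f ▷ T).left b)
    (hc' : ∀ a b : (X ⊗ T).left, (f ▷ T).left a = (f ▷ T).left b →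
      (endOf φ' ≫ f ▷ T).left a = (endOf φ' ≫ f ▷ T).left b) : Desc f T φ := by
  obtain ⟨ψ, hψ⟩ := exists_desc f hf _ hc
  obtain ⟨ψ', hψ'⟩ := exists_desc f hf _ hc'
  have := epi_whisker f hf T
  have hs : ψ ≫ snd Y T = snd Y T := by
    rw [← cancel_epi (f ▷ T), ← Category.assoc, hψ]
    simp
  have e1 : ψ ≫ ψ' = 𝟙 _ := by
    rw [← cancel_epi (f ▷ T), ← Category.assoc, hψ, Category.assoc, hψ', ← Category.assoc, h12]
    simp
  have e2 : ψ' ≫ ψ = 𝟙 _ := by
    rw [← cancel_epi (f ▷ T), ← Category.assoc, hψ', Category.assoc, hψ, ← Category.assoc, h21]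
    simp
  have hi : IsIso ψ := ⟨ψ', e1, e2⟩
  refine ⟨ψ ≫ fst Y T, ?_, ?_⟩
  · rw [IsAutFamily, ← eq_endOf ψ hs]
    exact hi
  · rw [← eq_endOf ψ hs, hψ]

omit hf [IsProper X.hom] [IsProper Y.hom] in
/-- A descending family contracts the fibres. -/
theorem contr_of_desc {T : Over (Spec (CommRingCat.of k))} {φ : X ⊗ T ⟶ X} (h : Desc f T φ)
    (a b : (X ⊗ T).left) (hab : (f ▷ T).left a = (f ▷ T).left b) :
    (endOf φ ≫ f ▷ T).left a = (endOf φ ≫ f ▷ T).left b := by
  obtain ⟨ψ, -, hψ⟩ := h
  rw [hψ, Over.comp_left, Scheme.Hom.comp_apply, Scheme.Hom.comp_apply, hab]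

omit hf [IsProper X.hom] [IsProper Y.hom] in
/-- The inverse of a descending family descends. -/
theorem desc_inv {T : Over (Spec (CommRingCat.of k))} {φ φ' : X ⊗ T ⟶ X} (_h12 : endOf φ ≫ endOf φ' = 𝟙 _)
    (h21 : endOf φ' ≫ endOf φ = 𝟙 _) (h : Desc f T φ) : Desc f T φ' := by
  obtain ⟨ψ, hi, hψ⟩ := h
  have hi' : IsIso (endOf ψ) := hi
  have hs : inv (endOf ψ) ≫ snd Y T = snd Y T := by
    rw [IsIso.inv_comp_eq]; simp
  refine ⟨inv (endOf ψ) ≫ fst Y T, ?_, ?_⟩
  · rw [IsAutFamily, ← eq_endOf _ hs]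
    infer_instance
  · rw [← eq_endOf _ hs, IsIso.eq_comp_inv, Category.assoc, ← hψ, ← Category.assoc, h21, Category.id_comp]

omit hf [IsProper X.hom] [IsProper Y.hom] in
/-- `Desc` is stable under pull-back of families. -/
theorem Desc.pull {T T' : Over (Spec (CommRingCat.of k))} (u : T' ⟶ T) {φ : X ⊗ T ⟶ X} (h : Desc f T φ) :
    Desc f T' (pullFam u φ) := by
  obtain ⟨ψ, hi, hψ⟩ := h
  have hi' : IsIso (endOf ψ) := hi
  refine ⟨pullFam u ψ, ?_, ?_⟩
  · have hs : inv (endOf ψ) ≫ snd Y T = snd Y T := by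
      rw [IsIso.inv_comp_eq]; simp
    have key : ∀ a b : Y ⊗ T ⟶ Y, endOf (pullFam u a) ≫ pullFam u b = pullFam u (endOf a ≫ b) := by
      intro a b
      have h1 : pullFam u b = (Y ◁ u) ≫ b := rfl
      rw [h1, ← Category.assoc, whiskerLeft_endOf, Category.assoc]
      rfl
    have hfst : pullFam u (fst Y T) = fst Y T' := by simp [pullFam]
    have e1 : endOf (pullFam u ψ) ≫ endOf (pullFam u (inv (endOf ψ) ≫ fst Y T)) = 𝟙 _ := by
      ext1
      · rw [Category.assoc, endOf_fst, key, IsIso.hom_inv_id_assoc, hfst, Category.id_comp]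
      · simp
    have e2 : endOf (pullFam u (inv (endOf ψ) ≫ fst Y T)) ≫ endOf (pullFam u ψ) = 𝟙 _ := by
      ext1
      · rw [Category.assoc, endOf_fst, key, ← eq_endOf _ hs, IsIso.inv_comp_eq _ |>.2 (endOf_fst ψ).symm, hfst,
          Category.id_comp]
      · simp
    exact ⟨_, e1, e2⟩
  · have h1 : endOf φ ≫ (f ▷ T) ≫ fst Y T = (f ▷ T) ≫ endOf ψ ≫ fst Y T := by
      rw [← Category.assoc, hψ, Category.assoc]
    ext1
    · rw [endOf_fst] at h1
      simp only [Category.assoc, whiskerRight_fst, endOf_fst, endOf_fst_assoc, pullFam] at h1 ⊢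
      rw [h1, whisker_exchange_assoc]
    · simp

end

end K936.Blanchard
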