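import Groth.Agent.AutSch.K936.Blanchard

/-!
# The open subgroup scheme of automorphisms descending along a fibration
-/

set_option autoImplicit false
universe u

open CategoryTheory MonoidalCategory CartesianMonoidalCategory MonObj GrpObj AlgebraicGeometry

namespace K936.BlanchardOpen

open AutSch K936.Fam K936.Blanchard

variable {k : Type u} [Field k] {X Y G : Over (Spec (CommRingCat.of k))} (f : X ⟶ Y) [IsProper X.hom]
  [IsProper Y.hom] [GrpObj G] (a : AlgGrp.Action G X)

/-- The points of `Y ⊗ G` whose fibre in `X ⊗ G` is contracted by the family of `g : G ⟶ G`. -/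
def E (g : G ⟶ G) : Set (Y ⊗ G).left :=
  {y | ∀ p q : (X ⊗ G).left, (f ▷ G).left p = y → (f ▷ G).left q = y →
    (endOf (famOf a g) ≫ f ▷ G).left p = (endOf (famOf a g) ≫ f ▷ G).left q}

theorem isOpen_E (hf : ∀ U : Y.left.Opens, IsIso (f.left.app U)) (g : G ⟶ G) : IsOpen (E f a g) := by
  have := isProper_left f
  have := surjective_whisker f hf G
  have := isProper_whisker f G
  exact K936.Rigid.isOpen_contracted (f ▷ G).left (f ▷ G).left.isClosedMap
    (isIso_app_whisker f hf G) (endOf (famOf a g) ≫ f ▷ G).left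

/-- The points of `G` over which the universal family and its inverse contract the fibres of `f`. -/
def U (hf : ∀ U : Y.left.Opens, IsIso (f.left.app U)) : G.left.Opens where
  carrier := ((snd Y G).left '' (E f a (𝟙 G) ∩ E f a (𝟙 G)⁻¹)ᶜ)ᶜ
  is_open' := by
    have h : IsProper (snd Y G).left := by
      have : (snd Y G).left = Limits.pullback.snd Y.hom G.hom := rfl
      rw [this]
      infer_instance
    exact ((snd Y G).left.isClosedMap _
      ((isOpen_E f a hf _).inter (isOpen_E f a hf _)).isClosed_compl).isOpen_compl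

variable (hf : ∀ U : Y.left.Opens, IsIso (f.left.app U))

theorem mem_U_iff (x : G.left) : x ∈ U f a hf ↔
    ∀ y : (Y ⊗ G).left, (snd Y G).left y = x → y ∈ E f a (𝟙 G) ∧ y ∈ E f a (𝟙 G)⁻¹ := by
  constructor
  · intro hx y hy
    by_contra hn
    exact hx ⟨y, hn, hy⟩
  · rintro h ⟨y, hn, hy⟩
    exact hn (h y hy)

/-- Over an open subscheme of `G` inside `U`, the family contracts the fibres. -/
theorem contr_of_range_le {T : Over (Spec (CommRingCat.of k))} (i : T ⟶ G) [IsOpenImmersion i.left]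
    (h : ∀ t : T.left, i.left t ∈ U f a hf) (g : G ⟶ G)
    (hg : ∀ y : (Y ⊗ G).left, (snd Y G).left y ∈ U f a hf → y ∈ E f a g)
    (p q : (X ⊗ T).left) (hpq : (f ▷ T).left p = (f ▷ T).left q) :
    (endOf (famOf a (i ≫ g)) ≫ f ▷ T).left p = (endOf (famOf a (i ≫ g)) ≫ f ▷ T).left q := by
  have hinj : Function.Injective (Y ◁ i).left := by
    have : IsOpenImmersion (Y ◁ i).left :=
      Groth.Agent.Books.AntiAffine.whiskerLeft_left_mem @IsOpenImmersion i Y inferInstance
    exact (Y ◁ i).left.isOpenEmbedding.injective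
  apply hinj
  have e : (endOf (famOf a (i ≫ g)) ≫ f ▷ T) ≫ (Y ◁ i) = (X ◁ i) ≫ endOf (famOf a g) ≫ f ▷ G := by
    rw [Category.assoc, ← whisker_exchange, ← Category.assoc, famOf_comp, whiskerLeft_endOf, Category.assoc]
  have e' : ∀ x : (X ⊗ T).left, (Y ◁ i).left ((endOf (famOf a (i ≫ g)) ≫ f ▷ T).left x) =
      (endOf (famOf a g) ≫ f ▷ G).left ((X ◁ i).left x) := by
    intro x
    rw [← Scheme.Hom.comp_apply, ← Over.comp_left, e, Over.comp_left, Scheme.Hom.comp_apply]
  rw [e', e']
  have e2 : ∀ x : (X ⊗ T).left, (f ▷ G).left ((X ◁ i).left x) = (Y ◁ i).left ((f ▷ T).left x) := by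
    intro x
    rw [← Scheme.Hom.comp_apply, ← Over.comp_left, whisker_exchange, Over.comp_left, Scheme.Hom.comp_apply]
  refine hg ((f ▷ G).left ((X ◁ i).left p)) ?_ _ _ rfl ?_
  · rw [e2]
    have : (snd Y G).left ((Y ◁ i).left ((f ▷ T).left p)) = i.left ((snd Y T).left ((f ▷ T).left p)) := by
      rw [← Scheme.Hom.comp_apply, ← Over.comp_left, whiskerLeft_snd, Over.comp_left, Scheme.Hom.comp_apply]
    rw [this]
    exact h _
  · rw [e2, e2, hpq]

/-- Over `U`, the universal family descends. -/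
theorem desc_of_range_le {T : Over (Spec (CommRingCat.of k))} (i : T ⟶ G) [IsOpenImmersion i.left]
    (h : ∀ t : T.left, i.left t ∈ U f a hf) : Desc f T (famOf a i) := by
  have h1 := contr_of_range_le f a hf i h (𝟙 G) (fun y hy => ((mem_U_iff f a hf _).1 hy y rfl).1)
  have h2 := contr_of_range_le f a hf i h (𝟙 G)⁻¹ (fun y hy => ((mem_U_iff f a hf _).1 hy y rfl).2)
  have e : i ≫ (𝟙 G)⁻¹ = i⁻¹ := by rw [GrpObj.comp_inv, Category.comp_id]
  rw [Category.comp_id] at h1
  rw [e] at h2
  exact desc_of_contr f hf (autOf a i).hom_inv_id (autOf a i).inv_hom_id h1 h2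

omit [IsProper X.hom] [IsProper Y.hom] in
/-- If the family of `g ≫ γ` descends, the points of `Y ⊗ G` over the image of `g` are in `E γ`. -/
theorem mem_E_of_desc {T : Over (Spec (CommRingCat.of k))} (g : T ⟶ G) (γ : G ⟶ G)
    (h : Desc f T (famOf a (g ≫ γ))) (t : T.left) (y : (Y ⊗ G).left) (hy : (snd Y G).left y = g.left t) :
    y ∈ E f a γ := by
  have sq1 : IsPullback (Y ◁ g).left (snd Y T).left (snd Y G).left g.left :=
    (Groth.Agent.Books.AntiAffine.isPullback_whiskerLeft g Y).map (Over.forget _)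
  obtain ⟨y', hy1, hy2⟩ := Scheme.exists_preimage_of_isPullback sq1 y t hy
  have sq2 : IsPullback (X ◁ g).left (f ▷ T).left (f ▷ G).left (Y ◁ g).left := by
    have h1 : IsPullback (f ▷ T) (fst X T) (fst Y T) f := Groth.Agent.Books.AntiAffine.isPullback_whiskerRight f T
    have h2 : IsPullback (f ▷ G) (fst X G) (fst Y G) f := Groth.Agent.Books.AntiAffine.isPullback_whiskerRight f G
    have h3 : IsPullback (X ◁ g) (f ▷ T) (f ▷ G) (Y ◁ g) := by
      refine (IsPullback.of_bot (v₂₁ := fst X G) (v₂₂ := fst Y G) (h₃₁ := f) ?_ (whisker_exchange _ _).symm h2).flip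
      rw [whiskerLeft_fst, whiskerLeft_fst]
      exact h1
    exact h3.map (Over.forget _)
  have e' : ∀ x : (X ⊗ T).left, (Y ◁ g).left ((endOf (famOf a (g ≫ γ)) ≫ f ▷ T).left x) =
      (endOf (famOf a γ) ≫ f ▷ G).left ((X ◁ g).left x) := by
    intro x
    have e : (endOf (famOf a (g ≫ γ)) ≫ f ▷ T) ≫ (Y ◁ g) = (X ◁ g) ≫ endOf (famOf a γ) ≫ f ▷ G := by
      rw [Category.assoc, ← whisker_exchange, ← Category.assoc, famOf_comp, whiskerLeft_endOf, Category.assoc]
    rw [← Scheme.Hom.comp_apply, ← Over.comp_left, e, Over.comp_left, Scheme.Hom.comp_apply]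
  intro p q hp hq
  obtain ⟨p', hp1, hp2⟩ := Scheme.exists_preimage_of_isPullback sq2 p y' (hp.trans hy1.symm)
  obtain ⟨q', hq1, hq2⟩ := Scheme.exists_preimage_of_isPullback sq2 q y' (hq.trans hy1.symm)
  have hp1' : (X ◁ g).left p' = p := hp1
  have hq1' : (X ◁ g).left q' = q := hq1
  rw [← hp1', ← hq1', ← e', ← e', contr_of_desc f h p' q' (hp2.trans hq2.symm)]

/-- If the family of `g` descends, `g` factors through `U`. -/
theorem range_le_of_desc {T : Over (Spec (CommRingCat.of k))} (g : T ⟶ G) (h : Desc f T (famOf a g)) (t : T.left) :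
    g.left t ∈ U f a hf := by
  rw [mem_U_iff]
  intro y hy
  refine ⟨mem_E_of_desc f a g (𝟙 G) (by rwa [Category.comp_id]) t y hy,
    mem_E_of_desc f a g (𝟙 G)⁻¹ ?_ t y hy⟩
  have e : g ≫ (𝟙 G)⁻¹ = g⁻¹ := by rw [GrpObj.comp_inv, Category.comp_id]
  rw [e]
  exact desc_inv f (autOf a g).hom_inv_id (autOf a g).inv_hom_id h

/-- The open subscheme as an object over `k`. -/
noncomputable def GU : Over (Spec (CommRingCat.of k)) := Over.mk ((U f a hf).ι ≫ G.hom)

/-- Its inclusion. -/
noncomputable def incl : GU f a hf ⟶ G := Over.homMk (U f a hf).ι rfl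

instance : IsOpenImmersion (incl f a hf).left := inferInstanceAs (IsOpenImmersion (U f a hf).ι)

theorem incl_mem (t : (GU f a hf).left) : (incl f a hf).left t ∈ U f a hf := t.2

theorem desc_incl : Desc f (GU f a hf) (famOf a (incl f a hf)) := desc_of_range_le f a hf _ (incl_mem f a hf)

theorem exists_lift {T : Over (Spec (CommRingCat.of k))} (g : T ⟶ G) (h : Desc f T (famOf a g)) :
    ∃ g' : T ⟶ GU f a hf, g' ≫ incl f a hf = g := by
  have hr : Set.range g.left ⊆ Set.range (U f a hf).ι := by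
    rintro _ ⟨t, rfl⟩
    rw [Scheme.Opens.range_ι]
    exact range_le_of_desc f a hf g h t
  let j : T.left ⟶ (U f a hf).toScheme := IsOpenImmersion.lift (U f a hf).ι g.left hr
  have hj : j ≫ (U f a hf).ι = g.left := IsOpenImmersion.lift_fac _ _ _
  refine ⟨Over.homMk j ?_, ?_⟩
  · change j ≫ (U f a hf).ι ≫ G.hom = T.hom
    rw [← Category.assoc, hj, Over.w]
  · ext1
    exact hj

instance : Mono (incl f a hf) := by
  have : Mono (incl f a hf).left := inferInstance
  exact (Over.forget _).mono_of_mono_map (f := incl f a hf) this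

end K936.BlanchardOpen
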