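import Groth.Agent.AutSch.K936.DualX

/-!
# Derivations of `O_X` and morphisms `X × Spec k[ε] ⟶ X`
-/

set_option autoImplicit false
set_option linter.dupNamespace false
universe u

open CategoryTheory CategoryTheory.Limits AlgebraicGeometry TopologicalSpace Opposite

namespace K936.DF

open K936.DualX K936.Perturb

/-- Additive derivations of `O_X` commuting with restriction. -/
structure DF (X : Scheme.{u}) where
  /-- the maps -/
  d : ∀ U : X.Opens, Γ(X, U) →+ Γ(X, U)
  leib : ∀ (U : X.Opens) (s t : Γ(X, U)), d U (s * t) = s * d U t + t * d U s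
  nat : ∀ {U V : X.Opens} (h : V ≤ U) (s : Γ(X, U)),
    d V (X.presheaf.map (homOfLE h).op s) = X.presheaf.map (homOfLE h).op (d U s)

/-- The opposite derivation. -/
def DF.neg {X : Scheme.{u}} (D : DF X) : DF X where
  d U := -D.d U
  leib U s t := by
    simp only [AddMonoidHom.neg_apply, D.leib]
    ring
  nat {U V} h s := by
    simp only [AddMonoidHom.neg_apply, D.nat h, map_neg]

variable {k : Type u} [Field k] {X Y : Scheme.{u}} {f : X ⟶ Spec (CommRingCat.of k)} (p : Y ⟶ X)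
  (q : Y ⟶ Spec (CommRingCat.of (DualNumber k)))

/-- The perturbation of `p` attached to a derivation. -/
noncomputable def DF.pert (D : DF X) : Pert p where
  N U :=
    { toFun := fun s => p.app U (D.d U s) * eps p q U
      map_zero' := by simp
      map_add' := fun s t => by simp only [map_add]; ring }
  mul_zero U s t := by
    have := eps_mul_eps p q U
    change p.app U (D.d U s) * eps p q U * (p.app U (D.d U t) * eps p q U) = 0
    linear_combination (p.app U (D.d U s) * p.app U (D.d U t)) * this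
  leib U s t := by
    change p.app U (D.d U (s * t)) * eps p q U = p.app U s * (p.app U (D.d U t) * eps p q U) +
      p.app U t * (p.app U (D.d U s) * eps p q U)
    rw [D.leib, map_add, map_mul, map_mul]
    ring
  nat {U V} h s := by
    change p.app V (D.d V (X.presheaf.map (homOfLE h).op s)) * eps p q V =
      Y.presheaf.map (homOfLE (p.preimage_mono h)).op (p.app U (D.d U s) * eps p q U)
    rw [D.nat h, map_mul, map_eps p q h]
    congr 1
    exact congr(($(p.naturality (homOfLE h).op)).hom (D.d U s))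

/-- The morphism `s ↦ s + ε D s`. -/
noncomputable def DF.hom (D : DF X) : Y ⟶ X := (D.pert p q).hom

theorem DF.hom_app (D : DF X) (U : X.Opens) (s : Γ(X, U)) :
    (D.hom p q).app U s = p.app U s + p.app U (D.d U s) * eps p q U := rfl

theorem DF.hom_base (D : DF X) : (D.hom p q).base = p.base := rfl

theorem ext_appLE {Z W : Scheme.{u}} (f g : Z ⟶ W) (hb : f.base = g.base)
    (h : ∀ (U : W.Opens) (V : Z.Opens) (e : V ≤ f ⁻¹ᵁ U) (e' : V ≤ g ⁻¹ᵁ U), f.appLE U V e = g.appLE U V e') :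
    f = g := by
  refine Scheme.Hom.ext hb (fun U => ?_)
  have h1 : ∀ (i : f ⁻¹ᵁ U = g ⁻¹ᵁ U), f.app U ≫ Z.presheaf.map (eqToHom i.symm).op = g.app U := by
    intro i
    rw [← Scheme.Hom.appLE_eq_app (f := f), Scheme.Hom.appLE_map, h U _ _ le_rfl, Scheme.Hom.appLE_eq_app]
  exact h1 (by
    have : (Opens.map f.base).obj U = (Opens.map g.base).obj U := by rw [hb]
    exact this)

/-- The functions on `V` given by a morphism to `Spec A`. -/
noncomputable def fnMap {A : CommRingCat.{u}} {Z : Scheme.{u}} (g : Z ⟶ Spec A) (V : Z.Opens) : A ⟶ Γ(Z, V) :=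
  (Scheme.ΓSpecIso A).inv ≫ g.appTop ≫ Z.presheaf.map (homOfLE le_top).op

theorem fnMap_comp {A : CommRingCat.{u}} {Z W : Scheme.{u}} (i : Z ⟶ W) (g : W ⟶ Spec A) (U : W.Opens)
    (V : Z.Opens) (h : V ≤ i ⁻¹ᵁ U) : fnMap (i ≫ g) V = fnMap g U ≫ i.appLE U V h := by
  rw [fnMap, fnMap, Category.assoc, Category.assoc, Scheme.Hom.comp_appTop, Category.assoc,
    Scheme.Hom.map_appLE]
  rfl

theorem fnMap_SpecMap {A B : CommRingCat.{u}} {Z : Scheme.{u}} (g : Z ⟶ Spec B) (φ : A ⟶ B) (V : Z.Opens) :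
    fnMap (g ≫ Spec.map φ) V = φ ≫ fnMap g V := by
  rw [fnMap, fnMap, Scheme.Hom.comp_appTop, Category.assoc, Scheme.ΓSpecIso_inv_naturality_assoc]

theorem epsMap_eq (U : X.Opens) : epsMap p q U = fnMap q (p ⁻¹ᵁ U) := rfl

variable {p q}

/-- `ε` restricts to zero. -/
theorem appLE_eps {Z : Scheme.{u}} (i : Z ⟶ Y) (r : Z ⟶ Spec (CommRingCat.of k))
    (hi : i ≫ q = r ≫ Spec.map (CommRingCat.ofHom (TrivSqZeroExt.fstHom k k k).toRingHom)) (U : X.Opens)
    (V : Z.Opens) (e1 : V ≤ i ⁻¹ᵁ (p ⁻¹ᵁ U)) : i.appLE (p ⁻¹ᵁ U) V e1 (eps p q U) = 0 := by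
  have h1 : epsMap p q U ≫ i.appLE (p ⁻¹ᵁ U) V e1 =
      CommRingCat.ofHom (TrivSqZeroExt.fstHom k k k).toRingHom ≫ fnMap r V := by
    rw [epsMap_eq, ← fnMap_comp, hi, fnMap_SpecMap]
  have h2 := congr(($h1).hom DualNumber.eps)
  have h3 : (CommRingCat.ofHom (TrivSqZeroExt.fstHom k k k).toRingHom ≫ fnMap r V).hom DualNumber.eps = 0 := by
    change (fnMap r V).hom (TrivSqZeroExt.fst (DualNumber.eps : DualNumber k)) = 0
    rw [DualNumber.fst_eps, map_zero]
  rw [h3] at h2
  exact h2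

/-- Composition with a morphism killing `ε`. -/
theorem DF.comp_hom (D : DF X) {Z : Scheme.{u}} (i : Z ⟶ Y) (r : Z ⟶ Spec (CommRingCat.of k))
    (hi : i ≫ q = r ≫ Spec.map (CommRingCat.ofHom (TrivSqZeroExt.fstHom k k k).toRingHom)) :
    i ≫ D.hom p q = i ≫ p := by
  refine ext_appLE _ _ rfl (fun U V e e' => ?_)
  have e1 : V ≤ i ⁻¹ᵁ (p ⁻¹ᵁ U) := e'
  have heps := appLE_eps i r hi U V e1
  rw [Scheme.Hom.comp_appLE, Scheme.Hom.comp_appLE]
  ext s
  have h5 : ((D.hom p q).app U ≫ i.appLE ((D.hom p q) ⁻¹ᵁ U) V e).hom s =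
    i.appLE (p ⁻¹ᵁ U) V e1 (p.app U s + p.app U (D.d U s) * eps p q U) := rfl
  have h6 : (p.app U ≫ i.appLE (p ⁻¹ᵁ U) V e').hom s = i.appLE (p ⁻¹ᵁ U) V e1 (p.app U s) := rfl
  rw [h5, h6, map_add, map_mul, heps, mul_zero, add_zero]

/-- The morphisms attached to `D` and `-D` are inverse to each other. -/
theorem DF.comp_neg (D : DF X) (e : Y ⟶ Y) (he1 : e ≫ p = D.hom p q) (he2 : e ≫ q = q)
    (hinj : Function.Injective p) : e ≫ D.neg.hom p q = p := by
  have heb : ∀ y, e y = y := by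
    intro y
    apply hinj
    rw [← Scheme.Hom.comp_apply, he1]
    rfl
  have hb : (e ≫ D.neg.hom p q).base = p.base := by
    ext y
    change p (e y) = p y
    rw [heb]
  refine ext_appLE _ _ hb (fun U V h h' => ?_)
  have hle : V ≤ e ⁻¹ᵁ (p ⁻¹ᵁ U) := h
  have hle' : V ≤ p ⁻¹ᵁ U := h'
  have h2 : ∀ s, e.appLE (p ⁻¹ᵁ U) V hle (p.app U s) =
      Y.presheaf.map (homOfLE hle').op (p.app U s + p.app U (D.d U s) * eps p q U) := by
    intro s
    have h3 : p.app U ≫ e.appLE (p ⁻¹ᵁ U) V hle = (e ≫ p).appLE U V hle := by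
      rw [Scheme.Hom.comp_appLE]
    have h4 : (e ≫ p).appLE U V hle = (D.hom p q).app U ≫ Y.presheaf.map (homOfLE hle').op := by
      have : ∀ (g : Y ⟶ X) (_ : g = D.hom p q) (h), g.appLE U V h =
          (D.hom p q).app U ≫ Y.presheaf.map (homOfLE hle').op := by
        rintro g rfl h
        rfl
      exact this _ he1 _
    exact congr(($(h3.trans h4)).hom s)
  have h3 : e.appLE (p ⁻¹ᵁ U) V hle (eps p q U) = Y.presheaf.map (homOfLE hle').op (eps p q U) := by
    have h4 : epsMap p q U ≫ e.appLE (p ⁻¹ᵁ U) V hle = epsMap p q U ≫ Y.presheaf.map (homOfLE hle').op := by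
      rw [epsMap_eq, ← fnMap_comp, he2, fnMap, fnMap, Category.assoc, Category.assoc]
      rw [← Functor.map_comp]
      rfl
    exact congr(($h4).hom DualNumber.eps)
  rw [Scheme.Hom.comp_appLE]
  ext s
  have h5 : ((D.neg.hom p q).app U ≫ e.appLE ((D.neg.hom p q) ⁻¹ᵁ U) V h).hom s =
      e.appLE (p ⁻¹ᵁ U) V hle (p.app U s + p.app U (-(D.d U s)) * eps p q U) := rfl
  have h6 : (p.appLE U V h').hom s = Y.presheaf.map (homOfLE hle').op (p.app U s) := rfl
  rw [h5, h6, map_neg, map_add, map_mul, map_neg, h2, h2, h3]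
  rw [← sub_eq_zero]
  have h7 := congr(Y.presheaf.map (homOfLE hle').op $(eps_mul_eps p q U))
  rw [map_mul, map_zero] at h7
  rw [map_add, map_add, map_mul, map_mul]
  linear_combination (-(Y.presheaf.map (homOfLE hle').op (p.app U (D.d U (D.d U s))))) * h7

end K936.DF
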