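import Groth.Agent.AutSch.K936.DF
import Groth.Agent.AutSch.K936.Fam
import Groth.Agent.Grpsch.AbTangent
import Groth.Agent.Books.AntiAffine
import Groth.Prelude.Def_Omega3
import Mathlib.RingTheory.DualNumber

/-!
# Derivations of `O_X` are families of automorphisms over `k[ε]`
-/

set_option autoImplicit false
universe u

open CategoryTheory CategoryTheory.Limits MonoidalCategory CartesianMonoidalCategory MonObj GrpObj AlgebraicGeometry
open TopologicalSpace Opposite

namespace K936.DerFam

open K936.DF K936.DualX AutSch Groth.Agent.Grpsch.AbTangent Groth.Agent.Books.AntiAffine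

/-- A derivation of `O_X` as a family of additive maps. -/
noncomputable def toDF {X Y : Scheme.{u}} {f : X ⟶ Y} (D : OmegaSh.Der f (Coh.structureModule X)) : DF X where
  d U := (OmegaSh.fnSect X U).comp (D.app U)
  leib U s t := D.d_mul (X := op U) s t
  nat h s := D.d_map (homOfLE h).op s

theorem toDF_d {X Y : Scheme.{u}} {f : X ⟶ Y} (D : OmegaSh.Der f (Coh.structureModule X)) (U : X.Opens)
    (s : Γ(X, U)) : (toDF D).d U s = D.app U s := rfl

/-- A family of additive maps satisfying the Leibniz rule as a derivation of `O_X`. -/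
noncomputable def ofDF {X Y : Scheme.{u}} {f : X ⟶ Y} (D : DF X)
    (h : ∀ (V : Y.Opens) (c : Γ(Y, V)), D.d (f ⁻¹ᵁ V) (f.app V c) = 0) :
    OmegaSh.Der f (Coh.structureModule X) where
  d {U} := D.d U.unop
  d_mul {U} s t := D.leib U.unop s t
  d_map {U V} i s := by
    have h1 : i = (homOfLE (leOfHom i.unop)).op := Subsingleton.elim _ _
    rw [h1]
    exact D.nat (leOfHom i.unop) s
  d_app {V} c := h V.unop c

theorem ofDF_app {X Y : Scheme.{u}} {f : X ⟶ Y} (D : DF X)
    (h : ∀ (V : Y.Opens) (c : Γ(Y, V)), D.d (f ⁻¹ᵁ V) (f.app V c) = 0) (U : X.Opens)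
    (s : Γ(X, U)) : (ofDF D h).app U s = D.d U s := rfl

variable {k : Type u} [Field k] {X : Over (Spec (CommRingCat.of k))}

/-- The product with the spectrum of the dual numbers. -/
theorem sq (X : Over (Spec (CommRingCat.of k))) :
    IsPullback (fst X (specT (K := k) k)).left (snd X (specT (K := k) k)).left X.hom
      (Spec.map (CommRingCat.ofHom (algebraMap k (DualNumber k)))) :=
  IsPullback.of_hasPullback _ _

theorem surjective_specT0 : Surjective (specT0 (K := k) k).left := by
  have h1 : ∀ x : PrimeSpectrum (TrivSqZeroExt k k), x ∈ Set.range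
      (PrimeSpectrum.comap (TrivSqZeroExt.fstHom k k k).toRingHom) := by
    intro x
    rw [range_comap_of_surjective _ _ (TrivSqZeroExt.fst_surjective)]
    rw [PrimeSpectrum.mem_zeroLocus]
    intro a ha
    have h2 : a.fst = 0 := ha
    have h3 : IsNilpotent a := by
      rw [TrivSqZeroExt.isNilpotent_iff_isNilpotent_fst, h2]
      exact IsNilpotent.zero
    exact nilpotent_iff_mem_prime.1 h3 x.asIdeal x.isPrime
  exact ⟨fun x => h1 x⟩

instance surjective_whisker (X : Over (Spec (CommRingCat.of k))) : Surjective (X ◁ specT0 (K := k) k).left :=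
  whiskerLeft_left_mem @Surjective _ _ surjective_specT0

theorem whisker_fst (X : Over (Spec (CommRingCat.of k))) :
    (X ◁ specT0 (K := k) k).left ≫ (fst X (specT (K := k) k)).left = (fst X (𝟙_ _)).left := by
  rw [← Over.comp_left, whiskerLeft_fst]

theorem whisker_snd (X : Over (Spec (CommRingCat.of k))) :
    (X ◁ specT0 (K := k) k).left ≫ (snd X (specT (K := k) k)).left = (snd X (𝟙_ _)).left ≫
      Spec.map (CommRingCat.ofHom (TrivSqZeroExt.fstHom k k k).toRingHom) := by
  rw [← Over.comp_left, whiskerLeft_snd]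
  rfl

instance isIso_fst (X : Over (Spec (CommRingCat.of k))) :
    IsIso (fst X (𝟙_ (Over (Spec (CommRingCat.of k))))).left := by
  have : fst X (𝟙_ (Over (Spec (CommRingCat.of k)))) = (ρ_ X).hom := rfl
  rw [this]
  infer_instance

theorem injective_fst (X : Over (Spec (CommRingCat.of k))) :
    Function.Injective (fst X (specT (K := k) k)).left := by
  intro x y h
  obtain ⟨x', rfl⟩ := (surjective_whisker X).surj x
  obtain ⟨y', rfl⟩ := (surjective_whisker X).surj y
  have h1 : (fst X (𝟙_ _)).left x' = (fst X (𝟙_ _)).left y' := by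
    rw [← whisker_fst, Scheme.Hom.comp_apply, Scheme.Hom.comp_apply]
    exact h
  have h2 : x' = y' := (fst X (𝟙_ (Over (Spec (CommRingCat.of k))))).left.homeomorph.injective h1
  rw [h2]

/-- The derivation kills constants. -/
def Kills {X : Over (Spec (CommRingCat.of k))} (D : DF X.left) : Prop :=
  ∀ c, D.d ⊤ (X.hom.appTop c) = 0

theorem Kills.neg {D : DF X.left} (h : Kills D) : Kills D.neg := by
  intro c
  change -(D.d ⊤ _) = 0
  rw [h c, neg_zero]

/-- The family attached to a derivation. -/
noncomputable def fam (D : DF X.left) (h : Kills D) : X ⊗ specT (K := k) k ⟶ X :=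
  Over.homMk (D.hom (fst X (specT (K := k) k)).left (snd X (specT (K := k) k)).left) (by
    have h1 : (X ⊗ specT (K := k) k).hom = (fst X (specT (K := k) k)).left ≫ X.hom := rfl
    rw [h1]
    refine ext_of_isAffine ?_
    rw [Scheme.Hom.comp_appTop, Scheme.Hom.comp_appTop]
    ext c
    have h2 : (D.hom (fst X (specT (K := k) k)).left (snd X (specT (K := k) k)).left).appTop (X.hom.appTop c) =
      ((fst X (specT (K := k) k)).left.app ⊤ (X.hom.appTop c) +
      (fst X (specT (K := k) k)).left.app ⊤ (D.d ⊤ (X.hom.appTop c)) *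
        eps (fst X (specT (K := k) k)).left (snd X (specT (K := k) k)).left ⊤ :) := rfl
    rw [h c, map_zero, zero_mul, add_zero] at h2
    exact h2)

theorem fam_left (D : DF X.left) (h : Kills D) :
    (fam D h).left = D.hom (fst X (specT (K := k) k)).left (snd X (specT (K := k) k)).left := rfl

theorem whisker_fam (D : DF X.left) (h : Kills D) : (X ◁ specT0 k) ≫ fam D h = fst X (𝟙_ _) := by
  ext1
  rw [Over.comp_left, fam_left, DF.comp_hom D _ (snd X (𝟙_ _)).left (whisker_snd X), whisker_fst]

theorem endOf_fam_comp (D : DF X.left) (h : Kills D) (h' : Kills D.neg) :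
    endOf (fam D h) ≫ endOf (fam D.neg h') = 𝟙 _ := by
  have h1 : endOf (fam D h) ≫ fam D.neg h' = fst X _ := by
    ext1
    rw [Over.comp_left, fam_left]
    refine DF.comp_neg D _ ?_ ?_ (injective_fst X)
    · rw [← Over.comp_left, endOf_fst]; rfl
    · rw [← Over.comp_left, endOf_snd]
  ext1
  · rw [Category.assoc, endOf_fst, h1, Category.id_comp]
  · rw [Category.assoc, endOf_snd, endOf_snd, Category.id_comp]

theorem neg_neg (D : DF X.left) : D.neg.neg = D := by
  cases D
  simp [DF.neg]

theorem isAutFamily_fam (D : DF X.left) (h : Kills D) : IsAutFamily (fam D h) := by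
  refine ⟨endOf (fam D.neg h.neg), endOf_fam_comp D h h.neg, ?_⟩
  have := endOf_fam_comp D.neg h.neg h.neg.neg
  have h3 : fam D.neg.neg h.neg.neg = fam D h := by
    congr 1
    exact neg_neg D
  rw [h3] at this
  exact this

theorem eq_zero_of_fam_eq [IsLocallyNoetherian X.left] [CompactSpace X.left] (D : DF X.left) (h : Kills D)
    (e : fam D h = fst X _) (U : X.left.Opens) (s : Γ(X.left, U)) : D.d U s = 0 := by
  have h1 : (fam D h).left = (fst X (specT (K := k) k)).left := by rw [e]
  rw [fam_left] at h1
  have h2 := Scheme.Hom.congr_app h1 U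
  have h3 := congr(($h2).hom s)
  have h4 : (D.hom (fst X (specT (K := k) k)).left (snd X (specT (K := k) k)).left).app U s =
    (fst X (specT (K := k) k)).left.app U s := by
    refine h3.trans ?_
    have : ∀ (i : (fst X (specT (K := k) k)).left ⁻¹ᵁ U = (fst X (specT (K := k) k)).left ⁻¹ᵁ U),
      ((fst X (specT (K := k) k)).left.app U ≫ (X ⊗ specT (K := k) k).left.presheaf.map (eqToHom i).op) =
      (fst X (specT (K := k) k)).left.app U := by
      intro i
      simp
    exact congr(($(this rfl)).hom s)
  rw [DF.hom_app] at h4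
  have h5 := (bijective (sq X) U).1 (a₁ := (s, D.d U s)) (a₂ := (s, 0)) (by
    simp only [map_zero, zero_mul, add_zero]
    exact h4)
  exact congrArg Prod.snd h5

end K936.DerFam
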