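import Groth.Agent.AutSch.K936.Perturb
import Groth.Agent.Fga.DualPushout
import Mathlib.AlgebraicGeometry.Morphisms.Flat
import Mathlib.AlgebraicGeometry.Noetherian

/-!
# Sections of `X × Spec k[ε]`
-/

set_option autoImplicit false
universe u

open CategoryTheory CategoryTheory.Limits AlgebraicGeometry TopologicalSpace Opposite

namespace K936.DualX

variable {k : Type u} [Field k] {X Y : Scheme.{u}} {f : X ⟶ Spec (CommRingCat.of k)} (p : Y ⟶ X)
  (q : Y ⟶ Spec (CommRingCat.of (DualNumber k)))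

/-- The ring map `k[ε] → O(p⁻¹U)`. -/
noncomputable def epsMap (U : X.Opens) : CommRingCat.of (DualNumber k) ⟶ Γ(Y, p ⁻¹ᵁ U) :=
  (Scheme.ΓSpecIso (CommRingCat.of (DualNumber k))).inv ≫ q.appLE ⊤ (p ⁻¹ᵁ U) le_top

/-- The function `ε` on `p⁻¹U`. -/
noncomputable def eps (U : X.Opens) : Γ(Y, p ⁻¹ᵁ U) := (epsMap p q U).hom DualNumber.eps

theorem eps_mul_eps (U : X.Opens) : eps p q U * eps p q U = 0 := by
  rw [eps, ← map_mul, DualNumber.eps_mul_eps, map_zero]

theorem map_eps {U V : X.Opens} (h : V ≤ U) :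
    Y.presheaf.map (homOfLE (p.preimage_mono h)).op (eps p q U) = eps p q V := by
  have : epsMap p q U ≫ Y.presheaf.map (homOfLE (p.preimage_mono h)).op = epsMap p q V := by
    rw [epsMap, epsMap, Category.assoc, Scheme.Hom.appLE_map]
  rw [eps, eps, ← this]
  rfl

variable {p q}

/-- The ring of sections over `p⁻¹U` is `O(U)[ε]`. -/
theorem bijective [CompactSpace X] [IsLocallyNoetherian X]
    (sq : IsPullback p q f (Spec.map (CommRingCat.ofHom (algebraMap k (DualNumber k))))) (U : X.Opens) :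
    Function.Bijective (fun x : Γ(X, U) × Γ(X, U) => p.app U x.1 + p.app U x.2 * eps p q U) := by
  have hN : IsNoetherian X := ⟨⟩
  have hU1 : IsCompact (U : Set X) := NoetherianSpace.isCompact _
  have hU2 : IsQuasiSeparated (U : Set X) := by
    intro V W _ _ _ _ _ _
    exact NoetherianSpace.isCompact _
  have hfl : Flat (Spec.map (CommRingCat.ofHom (algebraMap k (DualNumber k)))) := by
    rw [Flat.SpecMap_iff]
    exact RingHom.flat_algebraMap_iff.2 (Module.Flat.of_free (R := k) (M := DualNumber k))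
  have hUY : p ⁻¹ᵁ U = p ⁻¹ᵁ U ⊓ q ⁻¹ᵁ ⊤ := by simp
  have h1 := isIso_pushoutSection_of_isQuasiSeparated_of_flat_right (US := ⊤) (UT := ⊤) (UX := U)
    (UY := p ⁻¹ᵁ U) sq le_top le_top hUY (isAffineOpen_top _) (isAffineOpen_top _) hU1 hU2
  have h2 := (isIso_pushoutSection_iff sq le_top le_top hUY).mp h1
  have h3 : IsPushout ((Scheme.ΓSpecIso (CommRingCat.of k)).inv ≫ f.appLE ⊤ U le_top)
      (CommRingCat.ofHom (algebraMap k (DualNumber k))) (p.app U) (epsMap p q U) := by
    refine h2.of_iso (Scheme.ΓSpecIso (CommRingCat.of k)) (Iso.refl _)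
      (Scheme.ΓSpecIso (CommRingCat.of (DualNumber k))) (Iso.refl _) ?_ ?_ ?_ ?_
    · simp
    · have := Scheme.ΓSpecIso_naturality (CommRingCat.ofHom (algebraMap k (DualNumber k)))
      rw [← this]
      congr 1
    · simp [Scheme.Hom.appLE_eq_app]
    · simp [epsMap]
  exact Groth.Agent.Fga.DualPushout.dual_bijective k _ _ _ h3

end K936.DualX
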