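import Groth.Agent.AutSch.K936.TwN
import Groth.Agent.Fdesc.LocGenPullback

/-!
# The standard frame of the pullback of `O(1)`
-/

set_option autoImplicit false
universe u

open CategoryTheory CategoryTheory.Limits AlgebraicGeometry Opposite

namespace K936.FrameStd

open Groth.Agent.Fga.QTDefs Groth.Agent.Fga.QT8 Groth.Agent.Fdesc.LocGen Groth.Agent.CurvesC.ProjSpaceBasic K936.TwN

variable {n : ℕ} {Z : Scheme.{u}}

/-- The coordinates as generators. -/
noncomputable def ce (i : Fin (n + 1)) : Γ(Twist.twistProjSpace n (ULift.{u} ℤ) 1, Dp n (ULift.{u} ℤ) i) :=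
  sec (T n (ULift.{u} ℤ) i) (Dp n (ULift.{u} ℤ) i)

theorem isGen_ce (i : Fin (n + 1)) : IsGen (ce.{u} (n := n) i) := fun V h => isGen_T n (ULift.{u} ℤ) i V h

theorem ce_glue (i k : Fin (n + 1)) :
    res _ (inf_le_right : Dp n (ULift.{u} ℤ) i ⊓ Dp n (ULift.{u} ℤ) k ≤ Dp n (ULift.{u} ℤ) k) (ce k) =
      ores (inf_le_left : Dp n (ULift.{u} ℤ) i ⊓ Dp n (ULift.{u} ℤ) k ≤ Dp n (ULift.{u} ℤ) i)
        (ratio n (ULift.{u} ℤ) i k) •
      res _ (inf_le_left : Dp n (ULift.{u} ℤ) i ⊓ Dp n (ULift.{u} ℤ) k ≤ Dp n (ULift.{u} ℤ) i) (ce i) := by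
  rw [ce, ce, res_sec, ← res_smul]
  have h : ratio n (ULift.{u} ℤ) i k • sec (T n (ULift.{u} ℤ) i) (Dp n (ULift.{u} ℤ) i) =
    sec (T n (ULift.{u} ℤ) k) (Dp n (ULift.{u} ℤ) i) := ratio_smul n (ULift.{u} ℤ) i k
  rw [h, res_sec]

/-- **The standard frame.** -/
theorem isFrame_std (g : Z ⟶ PZ n) :
    IsFrame g (N := (Scheme.Modules.pullback g).obj (Twist.twistProjSpace n (ULift.{u} ℤ) 1))
      (fun i => pullSec g (ce i)) where
  gen i := (isGen_ce i).pullSec g
  glue i k := by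
    have h := congrArg (pullSec g) (ce_glue (n := n) i k)
    rw [pullSec_smul, ← res_pullSec, ← res_pullSec] at h
    have h2 : (g.app (Dp n (ULift.{u} ℤ) i ⊓ Dp n (ULift.{u} ℤ) k))
        (ores (inf_le_left : Dp n (ULift.{u} ℤ) i ⊓ Dp n (ULift.{u} ℤ) k ≤ Dp n (ULift.{u} ℤ) i)
          (ratio n (ULift.{u} ℤ) i k)) = resR (inf_le_left : V g i ⊓ V g k ≤ V g i) (y g i k) :=
      congr(($(g.naturality (homOfLE (inf_le_left :
        Dp n (ULift.{u} ℤ) i ⊓ Dp n (ULift.{u} ℤ) k ≤ Dp n (ULift.{u} ℤ) i)).op)).hom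
          (ratio n (ULift.{u} ℤ) i k))
    rw [h2] at h
    exact h

/-- The Hilbert function of the structure sheaf with respect to `g` is the dimension of the sections of the powers
of `g^* O(1)`. -/
theorem hilb_eq {k : Type u} [Field k] [Z.Over (Spec (CommRingCat.of k))] (g : Z ⟶ PZ n) (d : ℕ) :
    hilb g (Z ↘ Spec (CommRingCat.of k)) (Coh.structureModule Z) d =
      Module.finrank k (Coh.HH Z (CohB1.tensorPow
        ((Scheme.Modules.pullback g).obj (Twist.twistProjSpace n (ULift.{u} ℤ) 1)) d) 0) :=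
  finrank_TwSec (isFrame_std g) d

end K936.FrameStd
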