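import Groth.Agent.S2330
import Groth.Agent.Props.K592.AmpleProd
import Groth.Agent.AutSch.K936.FrameStd
import Groth.Agent.Grpsch.PicGrp
import Groth.Agent.CohqB.ProjBC
import Groth.Agent.Dix.ProjProper

/-!
# Projective embeddings given by powers of an ample module
-/

set_option autoImplicit false
universe u

open CategoryTheory CategoryTheory.Limits AlgebraicGeometry Opposite CohB1

namespace K936.Embed

open Groth.Agent.CohqB.ProjBC Groth.Agent.Grpsch.PicGrp

theorem isInvertible_O1 (n : ℕ) : PicF.IsInvertible (Twist.twistProjSpace n (ULift.{u} ℤ) 1) := by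
  rw [Groth.Agent.Fdesc.LocGen.isInvertible_iff]
  intro x
  have h : x ∈ ⨆ i, Groth.Agent.CurvesC.ProjSpaceBasic.Dp n (ULift.{u} ℤ) i := by
    rw [Groth.Agent.CurvesC.ProjSpaceBasic.iSup_Dp]; trivial
  obtain ⟨i, hi⟩ := TopologicalSpace.Opens.mem_iSup.1 h
  exact ⟨_, _, hi, FrameStd.isGen_ce i⟩

/-- The class of `O(1)`. -/
noncomputable def o1 (n : ℕ) : Pic (CohB1.ProjSpace n (ULift.{u} ℤ)) :=
  mk (Twist.twistProjSpace n (ULift.{u} ℤ) 1) (isInvertible_O1 n)

variable {k : Type u} [Field k] {Z : Scheme.{u}}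

/-- Embeddings by powers of an ample module. -/
theorem exists_embedding (f : Z ⟶ Spec (CommRingCat.of k)) [IsProper f] (L : Z.Modules) (hL : CohB1.IsAmple L) :
    ∃ (e m : ℕ) (i : Z ⟶ ProjSpaceOver m (Spec (CommRingCat.of k))), 0 < e ∧ IsClosedImmersion i ∧
      i ≫ ProjSpaceOver.toBase m _ = f ∧ pull (i ≫ fstZ m _) (o1 m) = mk L hL.1 ^ e := by
  obtain ⟨e, he, m, i, hi, hif, ⟨φ⟩⟩ := (Groth.Agent.S2330.result f L hL.1).1.1 hL
  have hp : IsProper (i ≫ ProjSpaceOver.toBase m (Spec (CommRingCat.of k))) := by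
    have : i ≫ ProjSpaceOver.toBase m (Spec (CommRingCat.of k)) = f := hif
    rw [this]; infer_instance
  have hpp := Groth.Agent.Dix.ProjProper.isProper_toBase m (Spec (CommRingCat.of k))
  have hip : IsProper i := IsProper.of_comp i (ProjSpaceOver.toBase m (Spec (CommRingCat.of k)))
  have hc : IsClosedImmersion i := .of_isPreimmersion i i.isClosedMap.isClosed_range
  refine ⟨e, m, i, he, hc, hif, ?_⟩
  rw [o1, ← mk_tensorPow, pull_comp, pull_mk, pull_mk]
  exact mk_congr φ.symm

end K936.Embed
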