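import Groth.Agent.AutSch.K936.StabQC
import Groth.Agent.AutSch.K238.AffineAct
import Groth.Agent.Vancyc.H878.OmegaRank
import Groth.Agent.Vancyc.H878.RelOmega
import Groth.Agent.Krr.H487.PullExt
import Groth.Agent.Sga67.TensorOps
import Groth.Agent.Krr.H463.DualLam
import Groth.Prelude.Def_Canon

/-!
# The automorphism group scheme of a Fano variety
-/

set_option autoImplicit false
universe u

open CategoryTheory CategoryTheory.Limits MonoidalCategory CartesianMonoidalCategory AlgebraicGeometry
open AutSch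

namespace K936.Fano

open Groth.Agent.Grpsch.PicGrp K936.StabQC K936.QCG

variable {k : Type u} [Field k] {X : Over (Spec (CommRingCat.of k))}

/-- The canonical module is preserved by automorphisms. -/
theorem nonempty_iso [IsSeparated X.hom] (d : ℕ) [SmoothOfRelativeDimension d X.hom] {ω : X.left.Modules}
    (hω : Canon.IsTopDiff X.hom d ω) (g : X ⟶ X) [IsIso g] :
    Nonempty ((Scheme.Modules.pullback g.left).obj ω ≅ ω) := by
  have hg : IsIso g.left := K936.CurvePerm.isIso_left g
  have H : IsPullback g.left X.hom X.hom (𝟙 _) := IsPullback.of_horiz_isIso ⟨by rw [Over.w, Category.comp_id]⟩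
  have h1 : FlatMod.IsFinLocFree (Omega.sheaf X.hom) :=
    Groth.Agent.Krr.H463.DualLam.isFinLocFree_of_rank
      (Groth.Agent.Vancyc.H878.OmegaRank.isFinLocFreeOfRank_omega d X.hom)
  exact Groth.Agent.Sga67.TensorOps.nonempty_iso_of_isExtPow (Groth.Agent.Vancyc.H878.RelOmega.omegaBC H)
    (Groth.Agent.Krr.H487.PullExt.isExtPow_pullback g.left h1 hω) hω

theorem isInvertible [IsSeparated X.hom] (d : ℕ) [SmoothOfRelativeDimension d X.hom] {ω : X.left.Modules}
    (hω : Canon.IsTopDiff X.hom d ω) : PicF.IsInvertible ω :=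
  Groth.Agent.Ega2.QCohLocal.isFinLocFreeOfRank_one_iff.1 (Groth.Agent.Krr.H463.DualLam.isFinLocFreeOfRank_top
    (Groth.Agent.Vancyc.H878.OmegaRank.isFinLocFreeOfRank_omega d X.hom) hω)

/-- The class of an inverse of the canonical module is preserved by automorphisms. -/
theorem pull_eq [IsSeparated X.hom] (d : ℕ) [SmoothOfRelativeDimension d X.hom] {ω ω' : X.left.Modules}
    (hω : Canon.IsTopDiff X.hom d ω)
    (hω' : Nonempty (CohB1.tensorMod ω ω' ≅ Coh.structureModule X.left)) (hi : PicF.IsInvertible ω')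
    (g : X ⟶ X) [IsIso g] : pull g.left (mk ω' hi) = mk ω' hi := by
  have h1 := isInvertible d hω
  have h2 : mk ω h1 * mk ω' hi = 1 := by
    rw [mk_mul_mk, mk_eq_one_iff]
    exact hω'
  have h3 : pull g.left (mk ω h1) = mk ω h1 := by
    rw [pull_mk, mk_eq_iff]
    exact nonempty_iso d hω g
  have h4 : mk ω' hi = (mk ω h1)⁻¹ := (inv_eq_of_mul_eq_one_right h2).symm
  rw [h4, map_inv, h3]

/-- The closed subscheme where a family preserves the class. -/
theorem exists_closed' [IsAlgClosed k] [IsProper X.hom] [IsIntegral X.left] (l : Pic X.left)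
    {U : Over (Spec (CommRingCat.of k))} [IsLocallyNoetherian U.left] (ψ : X ⊗ U ⟶ X) :
    ∃ (V : Over (Spec (CommRingCat.of k))) (j : V ⟶ U), IsClosedImmersion j.left ∧
      ∀ (T : Over (Spec (CommRingCat.of k))) (t : T ⟶ U), IsLocallyNoetherian T.left →
        (Stab l (pullFam t ψ) ↔ ∃ t' : T ⟶ V, t' ≫ j = t) := by
  have hgi : GeometricallyIntegral X.hom := Groth.Agent.Pic13.H167.NumExt.geometricallyIntegral_of_isIntegral k X.hom
  have h1 : IsProper (pullback.snd X.hom U.hom) := inferInstance
  have h2 : Flat (pullback.snd X.hom U.hom) := inferInstance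
  have h3 : GeometricallyIntegral (pullback.snd X.hom U.hom) := inferInstance
  let c : Pic (pullback X.hom U.hom) := pull ψ.left l * (pull (fst X U).left l)⁻¹
  obtain ⟨N, hN, hNc⟩ := exists_mk c
  obtain ⟨Z, ι, hι, hZ⟩ := Groth.Agent.S19476.result (pullback.snd X.hom U.hom) N
    (Groth.Agent.Ega2.QCohLocal.isFinLocFreeOfRank_one_iff.2 hN)
  -- translation of the condition
  have key : ∀ (T : Over (Spec (CommRingCat.of k))) (t : T ⟶ U), Stab l (pullFam t ψ) ↔
      ∃ M : T.left.Modules, FlatMod.IsFinLocFreeOfRank 1 M ∧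
        Nonempty ((Scheme.Modules.pullback (pullback.fst (pullback.snd X.hom U.hom) t.left)).obj N ≅
          (Scheme.Modules.pullback (pullback.snd (pullback.snd X.hom U.hom) t.left)).obj M) := by
    intro T t
    have hsq : IsPullback (X ◁ t).left (snd X T).left (pullback.snd X.hom U.hom) t.left := by
      have h4 : IsPullback ((X ◁ t).left ≫ (fst X U).left) (snd X T).left X.hom (t.left ≫ U.hom) := by
        rw [← Over.comp_left, whiskerLeft_fst, Over.w t]
        exact IsPullback.of_hasPullback X.hom T.hom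
      have h5 : (X ◁ t).left ≫ (snd X U).left = (snd X T).left ≫ t.left := by
        rw [← Over.comp_left, ← Over.comp_left, whiskerLeft_snd]
      exact IsPullback.of_right h4 h5 (IsPullback.of_hasPullback X.hom U.hom)
    let e := hsq.isoPullback
    have he1 : e.hom ≫ pullback.fst _ _ = (X ◁ t).left := hsq.isoPullback_hom_fst
    have he2 : e.hom ≫ pullback.snd _ _ = (snd X T).left := hsq.isoPullback_hom_snd
    have hc : pull (X ◁ t).left c = pull (pullFam t ψ).left l * (pull (fst X T).left l)⁻¹ := by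
      have h5 : (X ◁ t).left ≫ (fst X U).left = (fst X T).left := by
        rw [← Over.comp_left, whiskerLeft_fst]
      rw [map_mul, map_inv, ← pull_comp, ← pull_comp, h5]
      rfl
    have hS : Stab l (pullFam t ψ) ↔ ∃ m : Pic T.left, pull (X ◁ t).left c = pull (snd X T).left m := by
      refine exists_congr fun m => ?_
      rw [hc, pull_endOf, mul_inv_eq_iff_eq_mul, mul_comm]
    rw [hS]
    have hinj : Function.Injective (pull e.hom) := by
      intro x y hxy
      have := congrArg (pull e.inv) hxy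
      rwa [← pull_comp, ← pull_comp, e.inv_hom_id, pull_id, pull_id] at this
    constructor
    · rintro ⟨m, hm⟩
      obtain ⟨M, hM, rfl⟩ := exists_mk m
      refine ⟨M, Groth.Agent.Ega2.QCohLocal.isFinLocFreeOfRank_one_iff.2 hM, ?_⟩
      refine (mk_eq_iff (Groth.Agent.Fdesc.LocGen.isInvertible_pullback _ hN)
        (Groth.Agent.Fdesc.LocGen.isInvertible_pullback _ hM)).1 ?_
      change pull (pullback.fst (pullback.snd X.hom U.hom) t.left) (Groth.Agent.Grpsch.PicGrp.mk N hN) =
        pull (pullback.snd (pullback.snd X.hom U.hom) t.left) (Groth.Agent.Grpsch.PicGrp.mk M hM)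
      apply hinj
      rw [← pull_comp, ← pull_comp, he1, he2, ← hNc, hm]
    · rintro ⟨M, hM, hi⟩
      have hM' := Groth.Agent.Ega2.QCohLocal.isFinLocFreeOfRank_one_iff.1 hM
      refine ⟨mk M hM', ?_⟩
      have hi' : pull (pullback.fst (pullback.snd X.hom U.hom) t.left) (Groth.Agent.Grpsch.PicGrp.mk N hN) =
          pull (pullback.snd (pullback.snd X.hom U.hom) t.left) (Groth.Agent.Grpsch.PicGrp.mk M hM') :=
        (mk_eq_iff (Groth.Agent.Fdesc.LocGen.isInvertible_pullback _ hN)
          (Groth.Agent.Fdesc.LocGen.isInvertible_pullback _ hM')).2 hi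
      rw [hNc, ← he1, ← he2, pull_comp, pull_comp, hi']
  let V : Over (Spec (CommRingCat.of k)) := Over.mk (ι ≫ U.hom)
  let j : V ⟶ U := Over.homMk ι rfl
  refine ⟨V, j, hι, fun T t hT => ?_⟩
  rw [key, ← hZ _ _ hT]
  constructor
  · rintro ⟨u, hu⟩
    refine ⟨Over.homMk u ?_, ?_⟩
    · change u ≫ ι ≫ U.hom = T.hom
      rw [← Category.assoc, hu, Over.w]
    · ext1
      exact hu
  · rintro ⟨t', rfl⟩
    exact ⟨t'.left, rfl⟩

/-- A class preserved by the rational points is preserved by the families parametrised by reduced schemes. -/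
theorem stab_of_points [IsAlgClosed k] [IsProper X.hom] [IsIntegral X.left] (l : Pic X.left)
    {T : Over (Spec (CommRingCat.of k))} [IsReduced T.left] [LocallyOfFiniteType T.hom]
    (φ : X ⊗ T ⟶ X)
    (h : ∀ t : 𝟙_ (Over (Spec (CommRingCat.of k))) ⟶ T, Stab l (pullFam t φ)) : Stab l φ := by
  have hN : IsLocallyNoetherian T.left := LocallyOfFiniteType.isLocallyNoetherian T.hom
  obtain ⟨V, j, h1, h2⟩ := exists_closed' l φ
  have h3 : Surjective j.left := by
    have hJ : JacobsonSpace T.left := LocallyOfFiniteType.jacobsonSpace T.hom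
    constructor
    rw [← Set.range_eq_univ]
    have h4 : Set.range j.left = closure (Set.range j.left) :=
      j.left.isClosedEmbedding.isClosed_range.closure_eq.symm
    rw [h4]
    refine Set.eq_univ_of_univ_subset ((closure_closedPoints (X := T.left)).symm.subset.trans
      (closure_mono fun x hx => ?_))
    obtain ⟨p, rfl⟩ := K238.AffineAct.exists_pt x hx
    have hN' : IsLocallyNoetherian (𝟙_ (Over (Spec (CommRingCat.of k)))).left := by
      change IsLocallyNoetherian (Spec (CommRingCat.of k))
      infer_instance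
    obtain ⟨t', rfl⟩ := (h2 _ p hN').1 (h p)
    exact ⟨_, rfl⟩
  have h5 : IsIso j.left := isIso_of_isClosedImmersion_of_surjective j.left
  have h6 : IsIso j := by
    have : IsIso ((Over.forget _).map j) := h5
    exact isIso_of_reflects_iso j (Over.forget _)
  have h7 := (h2 T (𝟙 T) hN).2 ⟨inv j, IsIso.inv_hom_id j⟩
  rwa [pullFam_id] at h7

/-- **The automorphism group scheme of a Fano variety is affine and of finite type.** -/
theorem result (k : Type u) [Field k] [IsAlgClosed k]
    (X : Over (Spec (CommRingCat.of k))) [IsIntegral X.left] (hX : RelProj.IsHProjective X.hom)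
    (d : ℕ) [SmoothOfRelativeDimension d X.hom]
    (ω ω' : X.left.Modules) (hω : Canon.IsTopDiff X.hom d ω)
    (hω' : Nonempty (CohB1.tensorMod ω ω' ≅ Coh.structureModule X.left)) (hFano : CohB1.IsAmple ω')
    (G : Over (Spec (CommRingCat.of k))) [GrpObj G] [LocallyOfFiniteType G.hom] (a : AlgGrp.Action G X)
    (hG : AutSch.Represents X G a) :
    IsAffine G.left ∧ QuasiCompact G.hom := by
  have hp : IsProper X.hom := NefCone.isProper hX
  have hfix : ∀ x : 𝟙_ (Over (Spec (CommRingCat.of k))) ⟶ G, pull (autPt a x).left (mk ω' hFano.1) = mk ω' hFano.1 :=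
    fun x => by
      have := isIso_autPt a x
      exact pull_eq d hω hω' hFano.1 _
  have hb : @Groth.Agent.Pic13.H138.BddPic.BddPic k _ X.left ⟨X.hom⟩
      {c | ∃ x ∈ (Set.univ : Set (𝟙_ (Over (Spec (CommRingCat.of k))) ⟶ G)),
        c = pull (autPt a x).left (mk ω' hFano.1)} := by
    refine NefCone.bddPic_of_dgo _ fun C => ⟨|K936.CurvePerm.dgo C (mk ω' hFano.1)|, ?_⟩
    rintro _ ⟨x, -, rfl⟩
    rw [hfix]
  obtain ⟨F⟩ := NefCone.fams a hFano Set.univ hb
  have hqc : QuasiCompact G.hom := F.quasiCompact hG fun x => Set.mem_univ x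
  refine ⟨?_, hqc⟩
  refine K238.AffineAct.isAffine_of_action X hFano Groth.Agent.Fdesc.LocGen.isInvertible_structureModule (𝟙 _) ?_ (mk ω' hFano.1) 1 ?_ G a
    (fun T g h e => K936.Fam.famOf_injective a hG e) (fun T _ _ _ g => ?_)
  · refine K936.PullEff.ne_zero_of_mem_genLocus _ (x := genericPoint X.left) ?_
    have h : (⊤ : X.left.Opens) ≤ CohB1.genLocus _ (𝟙 (Coh.structureModule X.left)) := by
      rw [Groth.Agent.Fdesc.LocGen.le_genLocus_iff]
      exact Groth.Agent.Fdesc.LocGen.isGen_one ⊤
    exact h trivial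
  · rw [pow_one]
    exact (mul_one _).symm
  · refine stab_of_points _ _ fun t => ?_
    rw [← famOf_comp, famOf_eq]
    have := isIso_autPt a (t ≫ g)
    exact ⟨1, by rw [pull_endOf, map_one, mul_one, Over.comp_left, pull_comp, hfix]⟩

end K936.Fano
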