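import Groth.Agent.MorSch.K921.IsoLocus
import Groth.Agent.Fga.HilbClosed
import Groth.Agent.Fga.HilbFun
import Groth.Agent.AutSch.K936.Fam

/-!
# Graphs of families of endomorphisms as points of the Hilbert functor of `X × X`
-/

set_option autoImplicit false
universe u v w

open CategoryTheory CategoryTheory.Limits MonoidalCategory CartesianMonoidalCategory AlgebraicGeometry

namespace K936.Graph

open AutSch

section Cart

theorem isPullback_whisker {C : Type u} [Category.{v} C] [CartesianMonoidalCategory C] {Y X : C} (p : Y ⟶ X)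
    {T T' : C} (g : T' ⟶ T) : IsPullback (Y ◁ g) (p ▷ T') (p ▷ T) (X ◁ g) := by
  refine ⟨⟨by rw [whisker_exchange]⟩, ⟨PullbackCone.IsLimit.mk _
    (fun s => lift (s.fst ≫ fst _ _) (s.snd ≫ snd _ _)) ?_ ?_ ?_⟩⟩
  · intro s
    have := congr($(s.condition) ≫ snd _ _)
    simp only [Category.assoc, whiskerRight_snd, whiskerLeft_snd] at this
    ext1
    · simp
    · simpa using this.symm
  · intro s
    have := congr($(s.condition) ≫ fst _ _)
    simp only [Category.assoc, whiskerRight_fst, whiskerLeft_fst] at this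
    ext1
    · simpa using this
    · simp
  · intro s m h1 h2
    have e2 := congr($h2 ≫ snd _ _)
    simp only [Category.assoc, whiskerRight_snd] at e2
    ext1
    · simp [← h1]
    · simpa using e2

variable {S : Scheme.{u}} {X : Over S}

/-- The graph of a family. -/
noncomputable def gr {T : Over S} (φ : X ⊗ T ⟶ X) : X ⊗ T ⟶ (X ⊗ X) ⊗ T := lift (lift (fst X T) φ) (snd X T)

/-- The first projection. -/
noncomputable def rho (X T : Over S) : (X ⊗ X) ⊗ T ⟶ X ⊗ T := fst X X ▷ T

/-- The second projection. -/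
noncomputable def pr2 (X T : Over S) : (X ⊗ X) ⊗ T ⟶ X := fst (X ⊗ X) T ≫ snd X X

theorem gr_rho {T : Over S} (φ : X ⊗ T ⟶ X) : gr φ ≫ rho X T = 𝟙 _ := by
  rw [gr, rho]
  ext1 <;> simp

theorem gr_pr2 {T : Over S} (φ : X ⊗ T ⟶ X) : gr φ ≫ pr2 X T = φ := by
  rw [gr, pr2]
  simp

theorem hom_ext' {W T : Over S} {a b : W ⟶ (X ⊗ X) ⊗ T} (h1 : a ≫ rho X T = b ≫ rho X T)
    (h2 : a ≫ pr2 X T = b ≫ pr2 X T) : a = b := by
  have e1 := congr($h1 ≫ fst X T)
  have e2 := congr($h1 ≫ snd X T)
  simp only [rho, Category.assoc, whiskerRight_fst, whiskerRight_snd] at e1 e2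
  simp only [pr2] at h2
  ext1
  · ext1
    · simpa using e1
    · simpa using h2
  · exact e2

theorem isPullback_rho {T T' : Over S} (g : T' ⟶ T) :
    IsPullback ((X ⊗ X) ◁ g) (rho X T') (rho X T) (X ◁ g) := isPullback_whisker (fst X X) g

theorem whisker_pr2 {T T' : Over S} (g : T' ⟶ T) : ((X ⊗ X) ◁ g) ≫ pr2 X T = pr2 X T' := by
  rw [pr2, ← Category.assoc, whiskerLeft_fst, pr2]

theorem isPullback_gr {T T' : Over S} (g : T' ⟶ T) (φ : X ⊗ T ⟶ X) :
    IsPullback (X ◁ g) (gr (pullFam g φ)) (gr φ) ((X ⊗ X) ◁ g) := by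
  refine IsPullback.of_bot ?_ ?_ (isPullback_rho g)
  · rw [gr_rho, gr_rho]
    exact IsPullback.of_vert_isIso ⟨by rw [Category.comp_id, Category.id_comp]⟩
  · apply hom_ext'
    · rw [Category.assoc, gr_rho, Category.comp_id, Category.assoc, (isPullback_rho g).w, ← Category.assoc,
        gr_rho, Category.id_comp]
    · rw [Category.assoc, gr_pr2, Category.assoc, whisker_pr2, gr_pr2, pullFam]

end Cart

end K936.Graph
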