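import Groth.Agent.AutSch.K936.GraphKer

/-!
# The family of automorphisms over an open subscheme of the base of a flat family in `X × X`
-/

set_option autoImplicit false
universe u

open CategoryTheory CategoryTheory.Limits MonoidalCategory CartesianMonoidalCategory AlgebraicGeometry

namespace K936.GraphFam

open AutSch K936.Graph K936.GraphKer Groth.Agent.Books.AntiAffine K936.Fam

variable {S : Scheme.{u}} {X : Over S}

/-- Factor a morphism through an open subscheme. -/
theorem exists_lift_opens {H T : Over S} (L : H.left.Opens) (g : T ⟶ H)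
    (h : Set.range g.left ⊆ (L : Set H.left)) :
    ∃ t : T ⟶ Over.mk (L.ι ≫ H.hom), t ≫ (Over.homMk L.ι rfl : Over.mk (L.ι ≫ H.hom) ⟶ H) = g := by
  have h1 : Set.range g.left ⊆ Set.range L.ι := by simpa using h
  refine ⟨Over.homMk (IsOpenImmersion.lift L.ι g.left h1) ?_, ?_⟩
  · change IsOpenImmersion.lift L.ι g.left h1 ≫ L.ι ≫ H.hom = T.hom
    rw [← Category.assoc, IsOpenImmersion.lift_fac, Over.w]
  · ext1
    exact IsOpenImmersion.lift_fac _ _ _

theorem isPullback_endOf {T T' : Over S} (g : T' ⟶ T) (φ : X ⊗ T ⟶ X) :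
    IsPullback (X ◁ g) (endOf (pullFam g φ)) (endOf φ) (X ◁ g) := by
  refine IsPullback.of_bot ?_ (whiskerLeft_endOf g φ).symm (isPullback_whiskerLeft g X)
  rw [endOf_snd, endOf_snd]
  exact isPullback_whiskerLeft g X

section

variable [IsProper X.hom] [Flat X.hom]

instance (T : Over S) : IsProper (snd X T).left := inferInstanceAs (IsProper (pullback.snd X.hom T.hom))
instance (T : Over S) : Flat (snd X T).left := inferInstanceAs (Flat (pullback.snd X.hom T.hom))

/-- The automorphism locus. -/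
theorem isAutFamily_pull_iff {H T : Over S} [IsLocallyNoetherian H.left] (φ : X ⊗ H ⟶ X) (g : T ⟶ H) :
    IsAutFamily (pullFam g φ) ↔
      Set.range g.left ⊆ (K921.IsoLocus.locus (endOf φ).left (snd X H).left : Set H.left) := by
  have h1 := (isPullback_endOf g φ).map (Over.forget S)
  have h2 := (isPullback_whiskerLeft g X).map (Over.forget S)
  have h3 := K921.IsoLocus.isIso_baseChange_iff (endOf φ).left (snd X H).left (snd X H).left
    (by rw [← Over.comp_left, endOf_snd]) h1 h2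
  refine Iff.trans ?_ h3
  constructor
  · intro h
    have : IsIso (endOf (pullFam g φ)) := h
    exact inferInstanceAs (IsIso ((Over.forget S).map (endOf (pullFam g φ))))
  · intro h
    exact isIso_of_reflects_iso (endOf (pullFam g φ)) (Over.forget S)

omit [Flat X.hom] in
/-- The graph locus. -/
theorem isIso_rho_iff {H T : Over S} [IsLocallyNoetherian H.left] (ξ : FGA.HilbSet (X ⊗ X).hom H) (g : T ⟶ H) :
    IsIso ((FGA.hilbPull (X ⊗ X).hom g ξ.1).subschemeι ≫ (rho X T).left) ↔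
      Set.range g.left ⊆ (K921.IsoLocus.locus (ξ.1.subschemeι ≫ (rho X H).left) (snd X H).left : Set H.left) := by
  have hp : IsProper (ξ.1.subschemeι ≫ PicF.XTproj (X ⊗ X).hom H) := ξ.2.1
  have hfl : Flat (ξ.1.subschemeι ≫ PicF.XTproj (X ⊗ X).hom H) := ξ.2.2
  have h1 := (isPullback_rho (X := X) g).map (Over.forget S)
  have h2 := (isPullback_whiskerLeft g X).map (Over.forget S)
  rw [Groth.Agent.Fga.HilbFun.hilbPull_eq_comap, XTmap_eq]
  have h3 := Groth.Agent.Fga.RelCart.isPullback_comap ξ.1 ((X ⊗ X) ◁ g).left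
  have h4 := h3.flip.paste_vert h1
  exact K921.IsoLocus.isIso_baseChange_iff (ξ.1.subschemeι ≫ (rho X H).left)
    (ξ.1.subschemeι ≫ PicF.XTproj (X ⊗ X).hom H) (snd X H).left
    (by rw [Category.assoc, rho_snd]) h4 h2

omit [IsProper X.hom] [Flat X.hom] in
theorem exists_graph {U : Over S} (W : (PicF.XT (X ⊗ X).hom U).IdealSheafData)
    (h : IsIso (W.subschemeι ≫ (rho X U).left)) : ∃ ψ : X ⊗ U ⟶ X, grI ψ = W := by
  let σ : X ⊗ U ⟶ (X ⊗ X) ⊗ U := Over.homMk (inv (W.subschemeι ≫ (rho X U).left) ≫ W.subschemeι) (by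
    rw [← Over.w (rho X U)]
    have : (inv (W.subschemeι ≫ (rho X U).left) ≫ W.subschemeι) ≫ (rho X U).left = 𝟙 _ := by
      rw [Category.assoc, IsIso.inv_hom_id]
    rw [← Category.assoc, this, Category.id_comp])
  have hσ : σ ≫ rho X U = 𝟙 _ := by
    apply Over.OverMorphism.ext
    change (inv (W.subschemeι ≫ (rho X U).left) ≫ W.subschemeι) ≫ (rho X U).left = 𝟙 _
    rw [Category.assoc, IsIso.inv_hom_id]
  refine ⟨σ ≫ pr2 X U, ?_⟩
  have h1 : gr (σ ≫ pr2 X U) = σ := by
    apply hom_ext'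
    · rw [gr_rho, hσ]
    · rw [gr_pr2]
  rw [grI, h1]
  change (inv (W.subschemeι ≫ (rho X U).left) ≫ W.subschemeι).ker = W
  rw [Scheme.Hom.ker_comp_of_isIso, Scheme.IdealSheafData.ker_subschemeι]

/-- **The universal automorphism family in a flat family of subschemes of `X × X`.** -/
theorem exists_family (H : Over S) [IsLocallyNoetherian H.left] (ξ : FGA.HilbSet (X ⊗ X).hom H) :
    ∃ (U : Over S) (j : U ⟶ H) (_ : IsOpenImmersion j.left) (ψ : X ⊗ U ⟶ X), IsAutFamily ψ ∧
      ∀ (T : Over S) (φ : X ⊗ T ⟶ X), IsAutFamily φ → ∀ g : T ⟶ H,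
        FGA.hilbPull (X ⊗ X).hom g ξ.1 = grI φ → ∃ t : T ⟶ U, t ≫ j = g ∧ pullFam t ψ = φ := by
  let L1 : H.left.Opens := K921.IsoLocus.locus (ξ.1.subschemeι ≫ (rho X H).left) (snd X H).left
  let U1 : Over S := Over.mk (L1.ι ≫ H.hom)
  let j1 : U1 ⟶ H := Over.homMk L1.ι rfl
  have hU1 : IsLocallyNoetherian U1.left := isLocallyNoetherian_of_isOpenImmersion L1.ι
  have h1 : IsIso ((FGA.hilbPull (X ⊗ X).hom j1 ξ.1).subschemeι ≫ (rho X U1).left) := by
    rw [isIso_rho_iff ξ j1]
    exact (Scheme.Opens.range_ι L1).subset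
  obtain ⟨ψ1, hψ1⟩ := exists_graph _ h1
  let L2 : U1.left.Opens := K921.IsoLocus.locus (endOf ψ1).left (snd X U1).left
  let U : Over S := Over.mk (L2.ι ≫ U1.hom)
  let j2 : U ⟶ U1 := Over.homMk L2.ι rfl
  have h2 : IsAutFamily (pullFam j2 ψ1) := by
    rw [isAutFamily_pull_iff]
    exact (Scheme.Opens.range_ι L2).subset
  have ho : IsOpenImmersion (j2 ≫ j1).left := by
    change IsOpenImmersion (L2.ι ≫ L1.ι)
    infer_instance
  refine ⟨U, j2 ≫ j1, ho, pullFam j2 ψ1, h2, fun T φ hφ g hg => ?_⟩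
  have h3 : Set.range g.left ⊆ (L1 : Set H.left) := by
    rw [← isIso_rho_iff ξ g, hg]
    exact isIso_rho φ
  obtain ⟨t1, ht1⟩ := exists_lift_opens L1 g h3
  have ht1' : t1 ≫ j1 = g := ht1
  have h4 : pullFam t1 ψ1 = φ := by
    apply grI_injective
    rw [← ker_pull, hψ1, ← Groth.Agent.Fga.HilbFun.hilbPull_comp, ht1', hg]
  have h5 : Set.range t1.left ⊆ (L2 : Set U1.left) := by
    rw [← isAutFamily_pull_iff, h4]
    exact hφ
  obtain ⟨t, ht⟩ := exists_lift_opens L2 t1 h5
  have ht' : t ≫ j2 = t1 := ht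
  refine ⟨t, by rw [← Category.assoc, ht', ht1'], ?_⟩
  rw [← pullFam_comp, ht', h4]

end

end K936.GraphFam
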