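import Groth.Agent.AutSch.K936.Graph
import Groth.Agent.Books.AntiAffine

/-!
# The ideal of the graph of a family
-/

set_option autoImplicit false
universe u

open CategoryTheory CategoryTheory.Limits MonoidalCategory CartesianMonoidalCategory AlgebraicGeometry

namespace K936.GraphKer

open AutSch K936.Graph Groth.Agent.Books.AntiAffine

variable {S : Scheme.{u}} {X : Over S}

/-- The ideal of the graph. -/
noncomputable def grI {T : Over S} (φ : X ⊗ T ⟶ X) : (PicF.XT (X ⊗ X).hom T).IdealSheafData :=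
  Scheme.Hom.ker (gr φ).left

theorem XTmap_eq' {Y T T' : Over S} (g : T' ⟶ T) : PicF.XTmap Y.hom g = (Y ◁ g).left := by
  apply pullback.hom_ext
  · have h1 : (Y ◁ g).left ≫ (fst Y T).left = (fst Y T').left := by
      rw [← Over.comp_left, whiskerLeft_fst]
    refine Eq.trans ?_ h1.symm
    rw [PicF.XTmap, pullback.map, pullback.lift_fst, Category.comp_id]
    rfl
  · have h1 : (Y ◁ g).left ≫ (snd Y T).left = (snd Y T').left ≫ g.left := by
      rw [← Over.comp_left, whiskerLeft_snd, Over.comp_left]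
    refine Eq.trans ?_ h1.symm
    rw [PicF.XTmap, pullback.map, pullback.lift_snd]
    rfl

theorem XTmap_eq {T T' : Over S} (g : T' ⟶ T) : PicF.XTmap (X ⊗ X).hom g = ((X ⊗ X) ◁ g).left :=
  XTmap_eq' (Y := X ⊗ X) g

theorem isClosedImmersion_gr [IsSeparated X.hom] {T : Over S} (φ : X ⊗ T ⟶ X) :
    IsClosedImmersion (gr φ).left := by
  have h1 : IsSeparated (rho X T).left :=
    whiskerRight_left_mem @IsSeparated (fst X X) T (inferInstanceAs (IsSeparated (pullback.fst X.hom X.hom)))
  have h2 : IsClosedImmersion ((gr φ).left ≫ (rho X T).left) := by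
    rw [← Over.comp_left, gr_rho]
    infer_instance
  exact IsClosedImmersion.of_comp (gr φ).left (rho X T).left

theorem ker_pull [IsSeparated X.hom] {T T' : Over S} (g : T' ⟶ T) (φ : X ⊗ T ⟶ X) :
    FGA.hilbPull (X ⊗ X).hom g (grI φ) = grI (pullFam g φ) := by
  rw [Groth.Agent.Fga.HilbFun.hilbPull_eq_comap, XTmap_eq]
  have h0 : IsClosedImmersion ((Over.forget S).map (gr φ)) := isClosedImmersion_gr φ
  exact (Groth.Agent.Fga.HilbClosed.ker_of_isPullback ((isPullback_gr g φ).map (Over.forget _))).symm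

theorem grI_injective [IsSeparated X.hom] {T : Over S} {φ ψ : X ⊗ T ⟶ X} (h : grI φ = grI ψ) : φ = ψ := by
  have h0 := isClosedImmersion_gr φ
  have h1 := isClosedImmersion_gr ψ
  have h2 := IsClosedImmersion.lift_fac (gr ψ).left (gr φ).left h.ge
  have h3 : IsClosedImmersion.lift (gr ψ).left (gr φ).left h.ge = 𝟙 _ := by
    have := congr($h2 ≫ (rho X T).left)
    rw [Category.assoc, ← Over.comp_left, ← Over.comp_left, gr_rho, gr_rho] at this
    simpa using this
  rw [h3, Category.id_comp] at h2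
  have h4 : gr ψ = gr φ := Over.OverMorphism.ext h2
  rw [← gr_pr2 φ, ← gr_pr2 ψ, h4]

theorem isIso_rho [IsSeparated X.hom] {T : Over S} (φ : X ⊗ T ⟶ X) :
    IsIso ((grI φ).subschemeι ≫ (rho X T).left) := by
  have h0 := isClosedImmersion_gr φ
  have h1 : (gr φ).left.toImage ≫ (grI φ).subschemeι = (gr φ).left :=
    (gr φ).left.toImage_imageι
  have h3 : IsIso (gr φ).left.toImage := inferInstance
  have h4 : (gr φ).left.toImage ≫ ((grI φ).subschemeι ≫ (rho X T).left) = 𝟙 _ := by
    rw [← Category.assoc, h1, ← Over.comp_left, gr_rho]; rfl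
  have h5 : IsIso ((gr φ).left.toImage ≫ ((grI φ).subschemeι ≫ (rho X T).left)) := h4 ▸ inferInstance
  exact @IsIso.of_isIso_comp_left _ _ _ _ _ _ _ h3 h5

theorem rho_snd (X T : Over S) : (rho X T).left ≫ (snd X T).left = PicF.XTproj (X ⊗ X).hom T := by
  rw [← Over.comp_left, rho, whiskerRight_snd]
  rfl

theorem grI_mem [IsProper X.hom] [Flat X.hom] {T : Over S} (φ : X ⊗ T ⟶ X) :
    IsProper ((grI φ).subschemeι ≫ PicF.XTproj (X ⊗ X).hom T) ∧
      Flat ((grI φ).subschemeι ≫ PicF.XTproj (X ⊗ X).hom T) := by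
  have h1 := isIso_rho φ
  have h2 : (grI φ).subschemeι ≫ PicF.XTproj (X ⊗ X).hom T =
      ((grI φ).subschemeι ≫ (rho X T).left) ≫ (snd X T).left := by
    rw [Category.assoc, rho_snd]
  rw [h2]
  have h3 : IsProper (snd X T).left := inferInstanceAs (IsProper (pullback.snd X.hom T.hom))
  have h4 : Flat (snd X T).left := inferInstanceAs (Flat (pullback.snd X.hom T.hom))
  exact ⟨inferInstance, inferInstance⟩

end K936.GraphKer
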