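import Groth.Agent.Fga.QD1Hilb
import Groth.Agent.Fga.QT8Tw

/-!
# The homogeneous ideal of a closed subscheme of projective space through its charts
-/

set_option autoImplicit false
universe u

open CategoryTheory CategoryTheory.Limits AlgebraicGeometry MvPolynomial HomogeneousLocalization CohB1
open Groth.Agent.CohqB.ProjBC

namespace K936.HilbK

open Groth.Agent.Fga Groth.Agent.Fga.QD1Alg Groth.Agent.Fga.QD1Sch Groth.Agent.Fga.QD1Hilb Groth.Agent.Fga.QTDefs
open Groth.Agent.Fga.QT4b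

/-- Sections over `D_+(f)` pulled back to `Spec (A_f)₀` (as in `Lefpen.H705.ChartPoly`). -/
theorem awayToSection_awayι {B : Type*} {σ : Type*} [CommRing B] [SetLike σ B]
    [AddSubgroupClass σ B] (𝒜 : ℕ → σ) [GradedRing 𝒜] {f : B} {m : ℕ} (f_deg : f ∈ 𝒜 m)
    (hm : 0 < m) :
    Proj.awayToSection 𝒜 f ≫ (Proj.awayι 𝒜 f f_deg hm).appLE (Proj.basicOpen 𝒜 f) ⊤
      (by rw [← Proj.opensRange_awayι 𝒜 f f_deg hm, Scheme.Hom.preimage_opensRange]) =
      (Scheme.ΓSpecIso (CommRingCat.of (Away 𝒜 f))).inv := by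
  let e := Proj.basicOpenIsoSpec 𝒜 f f_deg hm
  have h1 : e.hom.app ⊤ = _ := Proj.basicOpenToSpec_app_top 𝒜 f
  have h3 : (Proj.awayι 𝒜 f f_deg hm).appLE (Proj.basicOpen 𝒜 f) ⊤
      (by rw [← Proj.opensRange_awayι 𝒜 f f_deg hm, Scheme.Hom.preimage_opensRange]) =
      (Proj.basicOpen 𝒜 f).topIso.inv ≫ e.inv.appTop := by
    have h4 := Scheme.Hom.appLE_comp_appLE e.inv (Proj.basicOpen 𝒜 f).ι
      (Proj.basicOpen 𝒜 f) ⊤ ⊤ (by rw [Scheme.Opens.ι_preimage_self]) le_top
    refine h4.symm.trans ?_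
    congr 1
  have h5 : Proj.awayToSection 𝒜 f ≫ (Proj.basicOpen 𝒜 f).topIso.inv =
      (Scheme.ΓSpecIso (CommRingCat.of (Away 𝒜 f))).inv ≫ e.hom.appTop := by
    rw [Iso.eq_inv_comp]
    exact h1.symm
  rw [h3, ← Category.assoc, h5, Category.assoc, ← Scheme.Hom.comp_appTop, Iso.inv_hom_id]
  simp

variable {A : Type u} [CommRing A] {n : ℕ}

theorem V_chart (i : Fin (n + 1)) : V (chartι (A := A) n i ≫ pmap (zHom A) n) i = ⊤ := by
  have h1 : chartι (A := A) n i ≫ pmap (zHom A) n = Spec.map (CommRingCat.ofHom (cmap (zHom A) i)) ≫ chartι n i :=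
    chartι_pmap (zHom A) i
  rw [V, h1, Scheme.Hom.comp_preimage]
  have h2 : (chartι (A := ULift.{u} ℤ) n i) ⁻¹ᵁ (Groth.Agent.CurvesC.ProjSpaceBasic.Dp n (ULift.{u} ℤ) i) = ⊤ := by
    have h3 : Groth.Agent.CurvesC.ProjSpaceBasic.Dp n (ULift.{u} ℤ) i = (chartι (A := ULift.{u} ℤ) n i).opensRange :=
      (Proj.opensRange_awayι _ _ _ _).symm
    rw [h3, Scheme.Hom.preimage_opensRange]
  rw [h2]
  rfl

/-- Functions on the chart. -/
noncomputable def fn (i : Fin (n + 1)) : Rc n A i →+* Γ(Spec (CommRingCat.of (Rc n A i)), V (chartι (A := A) n i ≫ pmap (zHom A) n) i) :=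
  ((Spec (CommRingCat.of (Rc n A i))).presheaf.map (homOfLE le_top).op).hom.comp
    (Scheme.ΓSpecIso (CommRingCat.of (Rc n A i))).inv.hom

theorem ev_chart_C (i : Fin (n + 1)) (a : A) :
    QTDefs.coeff (chartι (A := A) n i ≫ ProjSpace.toSpec n A) (V (chartι (A := A) n i ≫ pmap (zHom A) n) i) a =
      fn i (chartHom n i (C a)) := by
  have h1 : chartHom n i (C a) = awayAlg n (X i) a := by simp [chartHom, awayAlg]
  rw [h1, QTDefs.coeff, fn, chartι_toSpec, RingHom.comp_apply, RingHom.comp_apply, RingHom.comp_apply]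
  exact congrArg ((Spec (CommRingCat.of (Rc n A i))).presheaf.map (homOfLE le_top).op).hom
    congr(($(Scheme.ΓSpecIso_inv_naturality (CommRingCat.ofHom (awayAlg n (X i) : A →+* Rc n A i)))).hom a).symm

theorem ev_chart_X (i k : Fin (n + 1)) :
    y (chartι (A := A) n i ≫ pmap (zHom A) n) i k = fn i (chartHom n i (X k)) := by
  have key : ∀ (g : Spec (CommRingCat.of (Rc n A i)) ⟶ PZ n)
      (_ : g = Spec.map (CommRingCat.ofHom (cmap (zHom A) i)) ≫ chartι n i)
      (W : (Spec (CommRingCat.of (Rc n A i))).Opens)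
      (hW : W ≤ g ⁻¹ᵁ (Groth.Agent.CurvesC.ProjSpaceBasic.Dp n (ULift.{u} ℤ) i)),
      (g.appLE _ W hW).hom (Groth.Agent.CurvesC.ProjSpaceBasic.ratio n (ULift.{u} ℤ) i k) =
        ((Spec (CommRingCat.of (Rc n A i))).presheaf.map (homOfLE (le_top : W ≤ ⊤)).op).hom
          ((Scheme.ΓSpecIso (CommRingCat.of (Rc n A i))).inv.hom (chartHom n i (X k))) := by
    rintro g rfl W hW
    have hle : (⊤ : (Spec (CommRingCat.of (Rc n (ULift.{u} ℤ) i))).Opens) ≤
        (chartι n i) ⁻¹ᵁ (Groth.Agent.CurvesC.ProjSpaceBasic.Dp n (ULift.{u} ℤ) i) := by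
      have h3 : Groth.Agent.CurvesC.ProjSpaceBasic.Dp n (ULift.{u} ℤ) i =
          (chartι (A := ULift.{u} ℤ) n i).opensRange := (Proj.opensRange_awayι _ _ _ _).symm
      rw [h3, Scheme.Hom.preimage_opensRange]
    have h1 := Scheme.Hom.appLE_comp_appLE (Spec.map (CommRingCat.ofHom (cmap (zHom A) i)))
      (chartι (A := ULift.{u} ℤ) n i) (Groth.Agent.CurvesC.ProjSpaceBasic.Dp n (ULift.{u} ℤ) i) ⊤ W hle le_top
    rw [← h1]
    have h2 : (chartι (A := ULift.{u} ℤ) n i).appLE (Groth.Agent.CurvesC.ProjSpaceBasic.Dp n (ULift.{u} ℤ) i) ⊤ hle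
        (Groth.Agent.CurvesC.ProjSpaceBasic.ratio n (ULift.{u} ℤ) i k) =
        (Scheme.ΓSpecIso (CommRingCat.of (Rc n (ULift.{u} ℤ) i))).inv (chartHom n i (X k)) := by
      have h3 := awayToSection_awayι (polyGrading n (ULift.{u} ℤ)) (X_mem (A := ULift.{u} ℤ) n i) one_pos
      have h4 := congr(($h3).hom (chartHom n i (X k)))
      have h5 : chartHom n i (X k) = rat n i k := by
        rw [chartHom, coe_eval₂Hom, eval₂_X]
      rw [h5] at h4 ⊢
      exact h4
    rw [CommRingCat.comp_apply]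
    refine (congrArg _ h2).trans ?_
    have h6 := congr(($(Scheme.ΓSpecIso_inv_naturality (CommRingCat.ofHom (cmap (zHom A) i)))).hom
      (chartHom n i (X k)))
    have h7 : cmap (zHom A) i (chartHom n i (X k)) = chartHom n i (X k) := by
      rw [cmap_chartHom, MvPolynomial.map_X]
    have h8 : (Spec.map (CommRingCat.ofHom (cmap (zHom A) i))).appTop
        ((Scheme.ΓSpecIso (CommRingCat.of (Rc n (ULift.{u} ℤ) i))).inv (chartHom n i (X k))) =
        (Scheme.ΓSpecIso (CommRingCat.of (Rc n A i))).inv (chartHom n i (X k)) := by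
      rw [← h7]
      exact h6.symm
    rw [← h8]
    rfl
  have h := key (chartι (A := A) n i ≫ pmap (zHom A) n) (chartι_pmap (zHom A) i)
    (V (chartι (A := A) n i ≫ pmap (zHom A) n) i) le_rfl
  have h0 : (chartι (A := A) n i ≫ pmap (zHom A) n).appLE
      (Groth.Agent.CurvesC.ProjSpaceBasic.Dp n (ULift.{u} ℤ) i)
      (V (chartι (A := A) n i ≫ pmap (zHom A) n) i) le_rfl =
      (chartι (A := A) n i ≫ pmap (zHom A) n).app _ := Scheme.Hom.appLE_eq_app _
  exact congr(($h0).hom (Groth.Agent.CurvesC.ProjSpaceBasic.ratio n (ULift.{u} ℤ) i k)).symm.trans h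

theorem ev_chart (i : Fin (n + 1)) :
    ev (chartι (A := A) n i ≫ pmap (zHom A) n) (chartι (A := A) n i ≫ ProjSpace.toSpec n A) i =
      (fn i).comp (chartHom n i) := by
  apply MvPolynomial.ringHom_ext
  · intro a
    rw [ev_C]
    exact ev_chart_C i a
  · intro k
    rw [ev_X]
    exact ev_chart_X i k

end K936.HilbK
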