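import Groth.Agent.AutSch.K936.HilbK
import Groth.Agent.Fga.QA2
import Groth.Agent.Fga.HilbClosed
import Groth.Agent.Fdesc.LocGen

/-!
# The Hilbert function of the homogeneous ideal of a closed subscheme of projective space
-/

set_option autoImplicit false
universe u

open CategoryTheory CategoryTheory.Limits AlgebraicGeometry MvPolynomial HomogeneousLocalization CohB1
open Groth.Agent.CohqB.ProjBC

namespace K936.HilbK2

open Groth.Agent.Fga Groth.Agent.Fga.QD1Alg Groth.Agent.Fga.QD1Sch Groth.Agent.Fga.QD1Hilb Groth.Agent.Fga.QTDefs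
open Groth.Agent.Fga.QT4b K936.HilbK

theorem mem_toI {R : Type u} [CommRing R] (I : (Spec (CommRingCat.of R)).IdealSheafData) (r : R) :
    r ∈ toI I ↔ (Scheme.ΓSpecIso (CommRingCat.of R)).inv.hom r ∈ I.ideal ⟨⊤, isAffineOpen_top _⟩ := by
  rw [toI, Groth.Agent.Divis.IdealComap.map_eq_comap_of_iso]
  rfl

theorem mem_toI_ker {R : Type u} [CommRing R] {W : Scheme.{u}} (b : W ⟶ Spec (CommRingCat.of R)) [QuasiCompact b]
    (r : R) : r ∈ toI b.ker ↔ (b.app ⊤).hom ((Scheme.ΓSpecIso (CommRingCat.of R)).inv.hom r) = 0 := by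
  rw [mem_toI, Scheme.Hom.ker_apply, RingHom.mem_ker]

theorem app_res_eq_zero_iff {W Y : Scheme.{u}} (b : W ⟶ Y) (V : Y.Opens) (hV : V = ⊤) (x : Γ(Y, ⊤)) :
    (b.app V).hom ((Y.presheaf.map (homOfLE (le_top : V ≤ ⊤)).op).hom x) = 0 ↔ (b.app ⊤).hom x = 0 := by
  subst hV
  have : (homOfLE (le_top : (⊤ : Y.Opens) ≤ ⊤)).op = 𝟙 _ := rfl
  rw [this, Y.presheaf.map_id]
  rfl

variable {A : Type u} [CommRing A] {n : ℕ} {Z : Scheme.{u}}

theorem mem_chI_ker (c : Z ⟶ ProjSpace n A) [IsClosedImmersion c] (i : Fin (n + 1)) (f : P n A) :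
    chartHom n i f ∈ chI c.ker i ↔ ev (c ≫ pmap (zHom A) n) (c ≫ ProjSpace.toSpec n A) i f = 0 := by
  let a := pullback.fst c (chartι (A := A) n i)
  let b := pullback.snd c (chartι (A := A) n i)
  have hab : a ≫ c = b ≫ chartι n i := pullback.condition
  have h1 : c.ker.comap (chartι n i) = b.ker :=
    (HilbClosed.ker_of_isPullback (IsPullback.of_hasPullback c (chartι (A := A) n i))).symm
  rw [chI, h1, mem_toI_ker]
  rw [← app_res_eq_zero_iff b _ (V_chart (A := A) i)]
  change (b.app _).hom (fn i (chartHom n i f)) = 0 ↔ _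
  have h2 := ev_comp n b (chartι (A := A) n i ≫ pmap (zHom A) n) (chartι (A := A) n i ≫ ProjSpace.toSpec n A) i
  have h3 := ev_comp n a (c ≫ pmap (zHom A) n) (c ≫ ProjSpace.toSpec n A) i
  have h4 : (b.app _).hom (fn i (chartHom n i f)) =
      ev (b ≫ chartι (A := A) n i ≫ pmap (zHom A) n) (b ≫ chartι (A := A) n i ≫ ProjSpace.toSpec n A) i f := by
    rw [h2, ev_chart]
    rfl
  rw [h4]
  have h5 : ∀ (g : pullback c (chartι (A := A) n i) ⟶ PZ n) (q : pullback c (chartι (A := A) n i) ⟶ _)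
      (_ : g = a ≫ c ≫ pmap (zHom A) n) (_ : q = a ≫ c ≫ ProjSpace.toSpec n A),
      ev g q i f = 0 ↔ (a.app (V (c ≫ pmap (zHom A) n) i)).hom
        (ev (c ≫ pmap (zHom A) n) (c ≫ ProjSpace.toSpec n A) i f) = 0 := by
    rintro g q rfl rfl
    rw [h3]
    rfl
  refine (h5 _ _ (by rw [← Category.assoc, ← hab, Category.assoc])
    (by rw [← Category.assoc, ← hab, Category.assoc])).trans ?_
  have hV : V (c ≫ pmap (zHom A) n) i ≤ a.opensRange := by
    have e1 : a.opensRange = c ⁻¹ᵁ (chartι (A := A) n i).opensRange := by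
      apply TopologicalSpace.Opens.ext
      change Set.range a = c ⁻¹' (Set.range (chartι (A := A) n i))
      exact Scheme.Pullback.range_fst c (chartι (A := A) n i)
    rw [e1, V, Scheme.Hom.comp_preimage]
    apply c.preimage_mono
    have e2 : Groth.Agent.CurvesC.ProjSpaceBasic.Dp n (ULift.{u} ℤ) i =
        Proj.basicOpen (polyGrading n (ULift.{u} ℤ)) (X i) := rfl
    have e3 : (chartι (A := A) n i).opensRange = Proj.basicOpen (polyGrading n A) (X i) :=
      Proj.opensRange_awayι _ _ _ _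
    rw [e2, e3]
    refine le_of_eq ((Proj.map_preimage_basicOpen _ _ _).trans ?_)
    congr 1
    simp
  have h6 := Scheme.Hom.isIso_app a _ hV
  exact map_eq_zero_iff _ (ConcreteCategory.bijective_of_isIso (a.app _)).1

variable {S : Scheme.{u}}

/-- The trivial generating system. -/
noncomputable def trivSys (g : Z ⟶ PZ n) : GenSys g (Coh.structureModule Z) Unit 0 where
  e _ _ := Groth.Agent.Fdesc.LocGen.one _
  glue i k _ := by
    rw [pow_zero, one_smul]
    exact (Groth.Agent.Fdesc.LocGen.res_one _).trans (Groth.Agent.Fdesc.LocGen.res_one _).symm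

theorem gen_trivSys (g : Z ⟶ PZ n) : (trivSys g).Gen := by
  intro i
  rw [eq_top_iff]
  intro x _
  have h1 : x = (show Γ(Z, V g i) from x) • (trivSys g).e i () :=
    (Groth.Agent.Fdesc.LocGen.ofFun_eq_smul (show Γ(Z, V g i) from x))
  rw [h1]
  exact Submodule.smul_mem _ _ (Submodule.subset_span ⟨(), rfl⟩)

theorem sg_trivSys_eq_zero_iff (g : Z ⟶ PZ n) (q : Z ⟶ Spec (CommRingCat.of A)) (i : Fin (n + 1))
    (w : QA0.W (Fin (n + 1)) Unit A) : sg g q (trivSys g) i w = 0 ↔ ev g q i (w ()) = 0 := by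
  rw [sg_apply, Fintype.sum_unique]
  have h1 : ev g q i (w ()) • (trivSys g).e i () =
    Groth.Agent.Fdesc.LocGen.ofFun (ev g q i (w ())) := (Groth.Agent.Fdesc.LocGen.ofFun_eq_smul _).symm
  refine Iff.trans (Eq.congr h1 rfl) ?_
  exact Iff.rfl

/-- The homogeneous submodule of a closed subscheme of projective space. -/
theorem toW_hI_ker (c : Z ⟶ ProjSpace n A) [IsClosedImmersion c] :
    toW (hI c.ker) = grSub (c ≫ pmap (zHom A) n) (c ≫ ProjSpace.toSpec n A)
      (trivSys (c ≫ pmap (zHom A) n)) ⊥ := by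
  ext w
  rw [mem_toW, mem_grSub]
  have h1 : w () ∈ hI c.ker ↔ ∀ d, homogeneousComponent d (w ()) ∈ hI c.ker := by
    constructor
    · exact fun h d => isHom_hI c.ker _ h d
    · intro h
      rw [← sum_homogeneousComponent (w ())]
      exact Ideal.sum_mem _ fun d _ => h d
  rw [h1]
  refine forall_congr' fun d => ?_
  rw [hI, mem_glob_of_homogeneous (homogeneousComponent_isHomogeneous d (w ()))]
  refine forall_congr' fun i => ?_
  rw [mem_chI_ker, QT8.mem_secSub_bot, sg_trivSys_eq_zero_iff]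
  rfl

end K936.HilbK2
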