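import Groth.Agent.AutSch.K936.HilbK2
import Groth.Agent.Fga.QT5
import Groth.Agent.Fga.QG1
import Groth.Agent.CurvesC.UnitCoh

/-!
# The Hilbert function of the homogeneous ideal of a closed subscheme of projective space, part 2
-/

set_option autoImplicit false
universe u

open CategoryTheory CategoryTheory.Limits AlgebraicGeometry MvPolynomial HomogeneousLocalization CohB1
open Groth.Agent.CohqB.ProjBC

namespace K936.HilbK3

open Groth.Agent.Fga Groth.Agent.Fga.QD1Alg Groth.Agent.Fga.QD1Sch Groth.Agent.Fga.QD1Hilb Groth.Agent.Fga.QTDefs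
open Groth.Agent.Fga.QT4b K936.HilbK K936.HilbK2

variable {n : ℕ} {Z S : Scheme.{u}}

theorem toPA_eq {A : Type u} [CommRing A] (c : Z ⟶ ProjSpace n A) :
    toPA (c ≫ pmap (zHom A) n) (c ≫ ProjSpace.toSpec n A) = c ≫ (projSpaceOverIso n A).inv := by
  refine (isPullback_fstZ n (Spec (CommRingCat.of A))).hom_ext ?_ ?_
  · refine (pullback.lift_fst _ _ _).trans ?_
    refine Eq.trans ?_ (Category.assoc _ _ _).symm
    exact congrArg (fun z => c ≫ z) (projSpaceOverIso_inv_fstZ A).symm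
  · refine (pullback.lift_snd _ _ _).trans ?_
    refine Eq.trans ?_ (Category.assoc _ _ _).symm
    exact congrArg (fun z => c ≫ z) (projSpaceOverIso_inv_toBase n A).symm

theorem K_ker {A : Type u} [CommRing A] (t : Spec (CommRingCat.of A) ⟶ S)
    (c : Z ⟶ PicF.XT (ProjSpaceOver.toBase n S) (Over.mk t)) [IsClosedImmersion c] :
    QD1Hilb.K t c.ker = toW (hI (c ≫ (xt n t).inv).ker) := by
  rw [QD1Hilb.K]
  congr 2
  have h : IsPullback (𝟙 Z) (c ≫ (xt n t).inv) c (xt n t).hom :=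
    IsPullback.of_horiz_isIso ⟨by simp⟩
  exact (HilbClosed.ker_of_isPullback h).symm

variable {k : Type u} [Field k]

theorem exists_h_eq (c : Z ⟶ ProjSpace n k) [IsClosedImmersion c] : ∃ D : ℕ, ∀ d : ℕ, D ≤ d →
    QA1.h (toW (hI c.ker)) d =
      QT8.hilb (c ≫ pmap (zHom k) n) (c ≫ ProjSpace.toSpec n k) (Coh.structureModule Z) d := by
  rw [toW_hI_ker c]
  have h0 : IsClosedImmersion (toPA (c ≫ pmap (zHom k) n) (c ≫ ProjSpace.toSpec n k)) := by
    rw [toPA_eq]; infer_instance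
  have hQ : Coh.IsQCoh (Coh.structureModule Z) := Groth.Agent.CurvesC.UnitCoh.isQCoh_unit Z
  have h1 : QA0.IsHom (grSub (c ≫ pmap (zHom k) n) (c ≫ ProjSpace.toSpec n k)
      (trivSys (c ≫ pmap (zHom k) n)) ⊥) := by
    rw [← toW_hI_ker c]; exact isHom_toW.2 (isHom_hI _)
  have h2 : QA0.IsSat (grSub (c ≫ pmap (zHom k) n) (c ≫ ProjSpace.toSpec n k)
      (trivSys (c ≫ pmap (zHom k) n)) ⊥) := by
    rw [← toW_hI_ker c]; exact isSat_toW.2 (isSat_hI _)
  obtain ⟨Φ, -, -, h3⟩ := QA2.field_main h1 h2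
  refine ⟨QA1.bd (Fintype.card (Fin (n + 1))) Φ, fun d hd => ?_⟩
  exact (QT8.hilb_eq_of_H1 (trivSys (c ≫ pmap (zHom k) n)) hQ (gen_trivSys _) (h3 d hd).2.2).symm

end K936.HilbK3
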