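import Groth.Agent.Pic13.H970.Assembly
import Groth.Agent.Pic13.H11.Amp
import Groth.Agent.Fga.HodgeCore
import Groth.Agent.Fga.IntAdd
import Groth.Agent.S4277
import Groth.Agent.S4276
import Groth.Agent.Pic13.H950.NumCl

/-!
# Intersection numbers of effective, ample and numerically trivial classes
-/

set_option autoImplicit false
universe u

open CategoryTheory CategoryTheory.Limits AlgebraicGeometry

namespace K936.IntBd

open Groth.Agent.Fga.PicMon Groth.Agent.Fga.AltSum Groth.Agent.Grpsch.PicGrp Groth.Agent.Pic13.H970.IntForm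
  Groth.Agent.Fga Groth.Agent.Pic13.H138.AlgEquiv Groth.Agent.Pic13.H950.NumCl

variable (k : Type u) [Field k] (X : Scheme.{u}) [X.Over (Spec (CommRingCat.of k))]
  [IsProper (X ↘ Spec (CommRingCat.of k))]

theorem le_of_lt_succ {x : WithBot ℕ∞} {r : ℕ} (h : x < ((r + 1 : ℕ) : WithBot ℕ∞)) : x ≤ (r : WithBot ℕ∞) := by
  induction x with
  | bot => exact bot_le
  | coe a =>
    have h1 : a < ((r + 1 : ℕ) : ℕ∞) := by exact_mod_cast h
    have h2 : a ≤ (r : ℕ∞) := by
      rw [Nat.cast_add, Nat.cast_one] at h1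
      exact Order.le_of_lt_add_one h1
    exact_mod_cast h2

/-- `(E · A^r) ≥ 0` for `E` effective and `A` ample. -/
theorem eff_nonneg [IsIntegral X] {r : ℕ} (hdim : topologicalKrullDim X = ((r + 1 : ℕ) : WithBot ℕ∞))
    {E A : X.Modules} (hE : PicF.IsInvertible E) (σ : Coh.structureModule X ⟶ E) (hσ : σ ≠ 0)
    (hA : CohB1.IsAmple A) :
    0 ≤ I k X (r + 1) (Coh.structureModule X)
      (Fin.cons (mk E hE)⁻¹ (fun _ : Fin r => (mk A hA.1)⁻¹) : Fin (r + 1) → Pic X) := by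
  have := IntAdd.isNoetherian k X
  obtain ⟨S, hS, ⟨e1⟩, ⟨e2⟩, hC, hη⟩ := HodgeCore.exists_ses hE (isInvertible_dual hE) σ hσ
  have e3 : S.X₂ ≅ Coh.structureModule X := e2 ≪≫ @asIso _ _ _ _ (ev E) (isIso_ev hE)
  have hO : Coh.IsCoh (Coh.structureModule X) := Groth.Agent.CurvesC.UnitCoh.isCoh_unit X
  have hdE : Coh.IsCoh (dual E) := HodgeSec.isCoh_of_isInvertible (isInvertible_dual hE)
  have h1 : Coh.IsCoh S.X₁ := Groth.Agent.Sga67.CohBasic.isCoh_of_iso e1.symm hdE
  have h2 : Coh.IsCoh S.X₂ := Groth.Agent.Sga67.CohBasic.isCoh_of_iso e3.symm hO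
  have hadd := IntAdd.isAdd_intNum k X (r + 1) hdim.le (fun _ : Fin r => dual A)
    (fun _ => isInvertible_dual hA.1) S hS h1 h2 hC
  dsimp only at hadd
  have hI : I k X (r + 1) (Coh.structureModule X)
      (Fin.cons (mk E hE)⁻¹ (fun _ : Fin r => (mk A hA.1)⁻¹) : Fin (r + 1) → Pic X) =
      FGA.intNum k X (r + 1) (fun _ : Fin r => dual A) S.X₃ := by
    have h3 := I_cons_mk k X (r + 1) (Coh.structureModule X) (isInvertible_dual hE)
      (fun _ : Fin r => (mk A hA.1)⁻¹)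
    refine h3.trans ?_
    have e : (fun _ : Fin r => (mk A hA.1)⁻¹) = fun _ => mk (dual A) (isInvertible_dual hA.1) := rfl
    rw [e, ← intNum_eq, ← intNum_eq, intNum_iso k X (r + 1) _ (Groth.Agent.Ega2.Tens.runit (dual E)),
      ← intNum_iso k X (r + 1) _ e1, ← intNum_iso k X (r + 1) _ e3, hadd]
    ring
  rw [hI]
  have hlt : topologicalKrullDim (CohB1.support S.X₃) < ((r + 1 : ℕ) : WithBot ℕ∞) :=
    Groth.Agent.Pic13.H11.Amp.dim_lt_of_generic (c := mc S.X₃) hC hη hdim.le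
  rcases (le_of_lt_succ hlt).lt_or_eq with h | h
  · rw [Groth.Agent.S3231.result k X (r + 1) hdim.le _ (fun _ => isInvertible_dual hA.1) _ hC h]
  · have h4 := I_pos k X (r + 1) hdim.le S.X₃ hC (fun _ : Fin r => A) (fun _ => hA) (fun _ => hA.1) h
    rw [intNum_eq k X (r + 1) S.X₃ _ (fun _ => isInvertible_dual hA.1)]
    exact h4.le

/-- Numerically trivial classes do not change intersection numbers. -/
theorem I_cons_numCl [IsAlgClosed k] (d : ℕ) (hd : topologicalKrullDim X ≤ d) {r : ℕ} {a : Pic X}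
    (ha : a ∈ numCl k X) (c : Fin r → Pic X) :
    I k X d (Coh.structureModule X) (Fin.cons a c : Fin (r + 1) → Pic X) = 0 := by
  refine I_cons_eq_zero_of_chi k X d _ c fun x => ?_
  obtain ⟨L, hL, rfl⟩ := exists_mk a
  obtain ⟨M, hM, rfl⟩ := exists_mk x
  rw [toMC_mk, toMC_mk, ← mc_tensor, chiCl_mc, chiCl_mc]
  have h1 : Pic13.IsTauEquivZero k X L := Groth.Agent.S4277.result k X L hL ((mem_numCl_iff k X hL).1 ha)
  have h2 := Groth.Agent.S4276.result k X d hd L hL h1 M (HodgeSec.isCoh_of_isInvertible hM)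
  have e1 : CohB1.tensorMod (CohB1.tensorMod L M) (Coh.structureModule X) ≅ CohB1.tensorMod M L :=
    Groth.Agent.Ega2.Tens.runit _ ≪≫ Groth.Agent.Ega2.Tens.swap _ _
  have e2 : CohB1.tensorMod M (Coh.structureModule X) ≅ M := Groth.Agent.Ega2.Tens.runit _
  rw [EulerIso.eulerCharLE_congr k e1, EulerIso.eulerCharLE_congr k e2, h2]

/-- The ample parts of the classes numerically equivalent to `L`. -/
def Parts (n : ℕ) (l : Pic X) : Set (Pic X) :=
  {β | ∃ (B : X.Modules) (hB : CohB1.IsAmple B) (μ γ : Pic X), β = mk B hB.1 ∧ μ ^ n = β * γ ∧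
    (∃ (F : X.Modules) (hF : PicF.IsInvertible F) (τ : Coh.structureModule X ⟶ F), τ ≠ 0 ∧ γ = mk F hF) ∧
    l * μ⁻¹ ∈ numCl k X}

theorem cons_inv {r : ℕ} {B A : X.Modules} (hB : PicF.IsInvertible B) (hA : PicF.IsInvertible A)
    (h : ∀ i, PicF.IsInvertible ((Fin.cons B (fun _ => A) : Fin (r + 1) → X.Modules) i)) :
    (fun i => (mk ((Fin.cons B (fun _ => A) : Fin (r + 1) → X.Modules) i) (h i))⁻¹) =
      (Fin.cons (mk B hB)⁻¹ (fun _ => (mk A hA)⁻¹) : Fin (r + 1) → Pic X) := by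
  funext i
  cases i using Fin.cases with
  | zero => rfl
  | succ i => rfl

theorem cons_ample {r : ℕ} {B A : X.Modules} (hB : CohB1.IsAmple B) (hA : CohB1.IsAmple A) (i : Fin (r + 1)) :
    CohB1.IsAmple ((Fin.cons B (fun _ => A) : Fin (r + 1) → X.Modules) i) := by
  cases i using Fin.cases with
  | zero => exact hB
  | succ i => exact hA

theorem support_unit : topologicalKrullDim (CohB1.support (Coh.structureModule X)) = topologicalKrullDim X := by
  rw [Groth.Agent.Pic13.H970.Assembly.support_unit]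
  exact IsHomeomorph.topologicalKrullDim_eq _ (Homeomorph.Set.univ X).isHomeomorph

theorem parts_le [IsAlgClosed k] [IsIntegral X] {r : ℕ} (hdim : topologicalKrullDim X = ((r + 1 : ℕ) : WithBot ℕ∞))
    (n : ℕ) (l : Pic X) {A : X.Modules} (hA : CohB1.IsAmple A) {β : Pic X} (hβ : β ∈ Parts k X n l) :
    0 < I k X (r + 1) (Coh.structureModule X)
      (Fin.cons β⁻¹ (fun _ : Fin r => (mk A hA.1)⁻¹) : Fin (r + 1) → Pic X) ∧
    I k X (r + 1) (Coh.structureModule X)
      (Fin.cons β⁻¹ (fun _ : Fin r => (mk A hA.1)⁻¹) : Fin (r + 1) → Pic X) ≤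
      I k X (r + 1) (Coh.structureModule X)
        (Fin.cons (l ^ n)⁻¹ (fun _ : Fin r => (mk A hA.1)⁻¹) : Fin (r + 1) → Pic X) := by
  obtain ⟨B, hB, μ, γ, rfl, hμ, ⟨F, hF, τ, hτ, rfl⟩, hn⟩ := hβ
  have hO : Coh.IsCoh (Coh.structureModule X) := Groth.Agent.CurvesC.UnitCoh.isCoh_unit X
  have hsup : topologicalKrullDim (CohB1.support (Coh.structureModule X)) = ((r + 1 : ℕ) : WithBot ℕ∞) := by
    rw [support_unit, hdim]
  constructor
  · have h1 := I_pos k X (r + 1) hdim.le _ hO (Fin.cons B (fun _ => A) : Fin (r + 1) → X.Modules)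
      (cons_ample X hB hA) (fun i => (cons_ample X hB hA i).1) hsup
    rwa [cons_inv X hB.1 hA.1] at h1
  · have h2 := eff_nonneg k X hdim hF τ hτ hA
    have h3 : (l ^ n)⁻¹ = ((l * μ⁻¹) ^ n)⁻¹ * ((mk B hB.1)⁻¹ * (mk F hF)⁻¹) := by
      rw [← mul_inv, ← mul_inv, ← hμ, ← mul_pow]
      congr 2
      rw [inv_mul_cancel_right]
    rw [h3, I_cons_mul k X (r + 1) hdim.le _ hO _ _ _ hsup.le,
      I_cons_mul k X (r + 1) hdim.le _ hO _ _ _ hsup.le,
      I_cons_numCl k X (r + 1) hdim.le (inv_mem (pow_mem hn n))]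
    linarith

theorem sq_pos [IsIntegral X] {r : ℕ} (hdim : topologicalKrullDim X = ((r + 2 : ℕ) : WithBot ℕ∞))
    {A B : X.Modules} (hA : CohB1.IsAmple A) (hB : CohB1.IsAmple B) :
    0 < I k X (r + 2) (Coh.structureModule X) (Fin.cons (mk B hB.1)⁻¹
      (Fin.cons (mk B hB.1)⁻¹ (fun _ : Fin r => (mk A hA.1)⁻¹) : Fin (r + 1) → Pic X) : Fin (r + 2) → Pic X) := by
  have hO : Coh.IsCoh (Coh.structureModule X) := Groth.Agent.CurvesC.UnitCoh.isCoh_unit X
  have hsup : topologicalKrullDim (CohB1.support (Coh.structureModule X)) = ((r + 2 : ℕ) : WithBot ℕ∞) := by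
    rw [support_unit, hdim]
  have hamp : ∀ i, CohB1.IsAmple ((Fin.cons B (Fin.cons B (fun _ => A) : Fin (r + 1) → X.Modules) :
      Fin (r + 2) → X.Modules) i) := by
    intro i
    cases i using Fin.cases with
    | zero => exact hB
    | succ i => exact cons_ample X hB hA i
  have h1 := I_pos k X (r + 2) hdim.le _ hO _ hamp (fun i => (hamp i).1) hsup
  have h2 : (fun i => (mk ((Fin.cons B (Fin.cons B (fun _ => A) : Fin (r + 1) → X.Modules) :
      Fin (r + 2) → X.Modules) i) (hamp i).1)⁻¹) = (Fin.cons (mk B hB.1)⁻¹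
      (Fin.cons (mk B hB.1)⁻¹ (fun _ : Fin r => (mk A hA.1)⁻¹) : Fin (r + 1) → Pic X) : Fin (r + 2) → Pic X) := by
    funext i
    cases i using Fin.cases with
    | zero => rfl
    | succ i =>
      cases i using Fin.cases with
      | zero => rfl
      | succ i => rfl
  rwa [h2] at h1

end K936.IntBd
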