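import Groth.Agent.AutSch.K936.CurvePerm
import Groth.Agent.Pic13.H967.DegBaseChange
import Groth.Agent.S10839
import Groth.Agent.EtpbcA.CdFinDim

/-!
# Degrees on schemes of dimension at most one
-/

set_option autoImplicit false
universe u

open CategoryTheory CategoryTheory.Limits MonoidalCategory CartesianMonoidalCategory AlgebraicGeometry

namespace K936.LowDim

open Groth.Agent.Grpsch.PicGrp Groth.Agent.Pic13.H950.NumCl K936.CurvePerm

variable {k : Type u} [Field k] {X : Over (Spec (CommRingCat.of k))} [IsProper X.hom] [IsIntegral X.left]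

theorem exists_nat {x : WithBot ℕ∞} (h0 : 0 ≤ x) {d : ℕ} (hd : x ≤ d) : ∃ m : ℕ, x = m := by
  induction x with
  | bot => exact absurd h0 (by decide)
  | coe a =>
    have h1 : a ≤ (d : ℕ∞) := by exact_mod_cast hd
    obtain ⟨m, rfl⟩ := ENat.ne_top_iff_exists.1 (ne_top_of_le_ne_top (ENat.natCast_ne_top d) h1)
    exact ⟨m, rfl⟩

omit [IsProper X.hom] in
theorem exists_dim [LocallyOfFiniteType X.hom] [QuasiCompact X.hom] : ∃ d : ℕ, topologicalKrullDim X.left = d := by
  obtain ⟨n, hn⟩ := Groth.Agent.EtpbcA.CdFinDim.exists_dim_le X.hom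
  have hne : Nonempty (TopologicalSpace.IrreducibleCloseds X.left) :=
    ⟨⟨Set.univ, IrreducibleSpace.isIrreducible_univ _, isClosed_univ⟩⟩
  exact exists_nat Order.krullDim_nonneg hn

omit [IsProper X.hom] in
/-- In dimension at most one all curves are isomorphic to `X`. -/
theorem isIso_ι (h : topologicalKrullDim X.left ≤ 1) (C : Curve X.left) : IsIso C.ι := by
  have h1 : topologicalKrullDim C.Y ≤ topologicalKrullDim X.left :=
    C.ι.isClosedEmbedding.isInducing.topologicalKrullDim_le
  have h2 : topologicalKrullDim X.left = 1 := le_antisymm h (C.dim ▸ h1)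
  refine Groth.Agent.S10839.result C.ι ?_ (h2.trans C.dim.symm)
  rw [h2]
  exact ne_of_beq_false rfl

theorem dgo_eq (h : topologicalKrullDim X.left ≤ 1) (C : Curve X.left) {L : X.left.Modules}
    (hL : PicF.IsInvertible L) : dgo C (mk L hL) = Pic13.curveDeg k X.hom L := by
  have := isIso_ι h C
  rw [dgo_mk]
  refine Groth.Agent.Pic13.H967.DegBaseChange.curveDeg_pullback k X.hom k (C.ι ≫ X.hom) C.ι (𝟙 _) ?_ L
    (Groth.Agent.Etcore.DegZero.isCoh hL).1
  exact IsPullback.of_horiz_isIso ⟨by rw [Category.comp_id]⟩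

/-- In dimension at most one the degrees of the pullbacks of a class are bounded. -/
theorem exists_bound (h : topologicalKrullDim X.left ≤ 1) (a : Pic X.left) (C : Curve X.left) :
    ∃ B : ℤ, ∀ g : X ⟶ X, IsIso g → |dgo C (pull g.left a)| ≤ B := by
  obtain ⟨L, hL, rfl⟩ := exists_mk a
  refine ⟨|Pic13.curveDeg k X.hom L|, fun g hg => ?_⟩
  rw [dgo_pull, dgo_eq h]

end K936.LowDim
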