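import Groth.Agent.AutSch.K936.NefCone

/-!
# Varieties with rational polyhedral nef cone have quasi-compact automorphism group scheme
-/

set_option autoImplicit false
universe u
open CategoryTheory MonoidalCategory CartesianMonoidalCategory MonObj GrpObj AlgebraicGeometry
open AutSch

namespace K936.NefMain

open Groth.Agent.Grpsch.PicGrp Groth.Agent.Pic13.H950.NumCl K936.CurvePerm K936.QCG

theorem result (k : Type u) [Field k] [IsAlgClosed k]
    (X : Over (Spec (CommRingCat.of k))) [IsIntegral X.left] (hX : RelProj.IsHProjective X.hom)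
    (n : ℕ) (E : Fin n → X.left.Modules) (hE : ∀ i, PicF.IsInvertible (E i))
    (hEnef : ∀ i, (∀ (C : Scheme.{u}) (cl : C ⟶ X.left) [IsClosedImmersion cl], IsIntegral C → topologicalKrullDim ↥C = 1 →
        0 ≤ Pic13.curveDeg k (cl ≫ X.hom) ((Scheme.Modules.pullback cl).obj (E i))))
    (hgen : ∀ L : X.left.Modules, PicF.IsInvertible L → (∀ (C : Scheme.{u}) (cl : C ⟶ X.left) [IsClosedImmersion cl], IsIntegral C → topologicalKrullDim ↥C = 1 →
        0 ≤ Pic13.curveDeg k (cl ≫ X.hom) ((Scheme.Modules.pullback cl).obj L)) →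
      ∃ (m : ℕ) (c : Fin n → ℕ), 0 < m ∧
        ∀ (C : Scheme.{u}) (cl : C ⟶ X.left) [IsClosedImmersion cl], IsIntegral C → topologicalKrullDim ↥C = 1 →
          (m : ℤ) * Pic13.curveDeg k (cl ≫ X.hom) ((Scheme.Modules.pullback cl).obj L) =
            ∑ i, (c i : ℤ) * Pic13.curveDeg k (cl ≫ X.hom) ((Scheme.Modules.pullback cl).obj (E i)))
    (G : Over (Spec (CommRingCat.of k))) [GrpObj G] [LocallyOfFiniteType G.hom] (a : AlgGrp.Action G X)
    (hG : AutSch.Represents X G a) :
    QuasiCompact G.hom := by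
  have hp : IsProper X.hom := NefCone.isProper hX
  obtain ⟨H, hH⟩ := NefCone.exists_ample hX
  -- degrees as functions on curves
  let D : Fin n → Curve X.left → ℤ := fun i C => dgo C (mk (E i) (hE i))
  have hD : ∀ i C, 0 ≤ D i C := fun i C => hEnef i C.Y C.ι C.integral C.dim
  have hcone : ∀ c : Pic X.left, (∀ C, 0 ≤ dgo C c) → (fun C => (dgo C c : ℚ)) ∈ Cone.cone D Finset.univ := by
    intro c hc
    obtain ⟨L, hL, rfl⟩ := exists_mk c
    obtain ⟨m, e, hm, h⟩ := hgen L hL (fun C cl _ hC hd => hc ⟨C, cl, inferInstance, hC, hd⟩)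
    refine ⟨fun i => (e i : ℚ) / m, fun i => by positivity, fun i hi => absurd (Finset.mem_univ i) hi, fun C => ?_⟩
    have h1 := h C.Y C.ι C.integral C.dim
    have h2 : (m : ℚ) * (dgo C (mk L hL) : ℚ) = ∑ i, (e i : ℚ) * (D i C : ℚ) := by exact_mod_cast h1
    have hm' : (m : ℚ) ≠ 0 := by exact_mod_cast hm.ne'
    have h3 : ∑ i, (e i : ℚ) / m * (D i C : ℚ) = (∑ i, (e i : ℚ) * (D i C : ℚ)) / m := by
      rw [Finset.sum_div]
      exact Finset.sum_congr rfl fun i _ => by ring
    rw [h3, ← h2]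
    field_simp
  -- finiteness of the orbit
  have hfin := Cone.finite_orbit (permG X) hD (by
    rintro _ ⟨g, rfl⟩ i
    have h1 := hcone (pull g.hom.left (mk (E i) (hE i))) (fun C => by
      rw [dgo_pull]
      exact hD i _)
    have h2 : (fun C => (dgo C (pull g.hom.left (mk (E i) (hE i))) : ℚ)) = fun C => (D i (permC g C) : ℚ) := by
      funext C
      rw [dgo_pull]
      rfl
    rwa [h2] at h1) (hcone (mk H hH.1) fun C => (NefCone.dgo_pos hH C).le)
  have hb : ∀ C : Curve X.left, ∃ B : ℤ, ∀ c ∈ {c : Pic X.left | ∃ x ∈ (Set.univ :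
      Set (𝟙_ (Over (Spec (CommRingCat.of k))) ⟶ G)), c = pull (autPt a x).left (mk H hH.1)}, |dgo C c| ≤ B := by
    intro C
    obtain ⟨q, hq⟩ := (hfin.image fun w : Curve X.left → ℚ => |w C|).bddAbove
    refine ⟨⌈q⌉, ?_⟩
    rintro _ ⟨x, -, rfl⟩
    have hi : IsIso (autPt a x) := isIso_autPt a x
    have h1 : |((dgo C (pull (autPt a x).left (mk H hH.1)) : ℤ) : ℚ)| ≤ q := by
      refine hq ⟨_, ⟨permC (asIso (autPt a x)), ⟨_, rfl⟩, rfl⟩, ?_⟩
      dsimp only
      rw [dgo_pull]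
      rfl
    have h2 := h1.trans (Int.le_ceil q)
    exact_mod_cast h2
  obtain ⟨F⟩ := NefCone.fams a hH Set.univ (NefCone.bddPic_of_dgo _ hb)
  exact F.quasiCompact hG fun x => Set.mem_univ x

end K936.NefMain
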