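import Mathlib.AlgebraicGeometry.Scheme

/-!
# Perturbing a morphism of schemes by a square zero derivation
-/

set_option autoImplicit false
universe u

open CategoryTheory AlgebraicGeometry TopologicalSpace Opposite

namespace K936.Perturb

variable {Z X : Scheme.{u}} (p : Z ⟶ X)

/-- A family of additive maps `N : O_X(U) → O_Z(p⁻¹ U)` such that `p + N` is a ring homomorphism. -/
structure Pert where
  /-- the maps -/
  N : ∀ U : X.Opens, Γ(X, U) →+ Γ(Z, p ⁻¹ᵁ U)
  mul_zero : ∀ (U : X.Opens) (s t : Γ(X, U)), N U s * N U t = 0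
  leib : ∀ (U : X.Opens) (s t : Γ(X, U)), N U (s * t) = p.app U s * N U t + p.app U t * N U s
  nat : ∀ {U V : X.Opens} (h : V ≤ U) (s : Γ(X, U)),
    N V (X.presheaf.map (homOfLE h).op s) = Z.presheaf.map (homOfLE (p.preimage_mono h)).op (N U s)

variable {p} (P : Pert p)

theorem Pert.one (U : X.Opens) : P.N U 1 = 0 := by
  have h := P.leib U 1 1
  have h1 : p.app U 1 = 1 := map_one (p.app U).hom
  rw [mul_one, h1, one_mul] at h
  simpa using h

/-- `p + N` on sections. -/
def Pert.ringHom (U : X.Opens) : Γ(X, U) →+* Γ(Z, p ⁻¹ᵁ U) where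
  toFun s := p.app U s + P.N U s
  map_one' := by rw [P.one, map_one, add_zero]
  map_mul' s t := by
    rw [P.leib, map_mul]
    linear_combination -P.mul_zero U s t
  map_zero' := by simp
  map_add' s t := by
    rw [map_add, map_add]; ring

theorem Pert.ringHom_apply (U : X.Opens) (s : Γ(X, U)) : P.ringHom U s = p.app U s + P.N U s := rfl

/-- The perturbed sheaf map. -/
def Pert.c : X.presheaf ⟶ (TopCat.Presheaf.pushforward _ p.base).obj Z.presheaf where
  app U := CommRingCat.ofHom (P.ringHom U.unop)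
  naturality U V i := by
    ext s
    have h1 : i = (homOfLE (leOfHom i.unop)).op := Subsingleton.elim _ _
    change P.ringHom V.unop (X.presheaf.map i s) = _
    rw [Pert.ringHom_apply, h1, P.nat (leOfHom i.unop) s]
    have h2 := congr(($(p.naturality (homOfLE (leOfHom i.unop)).op)).hom s)
    have h3 : p.app V.unop (X.presheaf.map (homOfLE (leOfHom i.unop)).op s) =
      Z.presheaf.map ((Opens.map p.base).map (homOfLE (leOfHom i.unop))).op (p.app U.unop s) := h2
    rw [h3]
    change _ = Z.presheaf.map _ (P.ringHom U.unop s)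
    rw [Pert.ringHom_apply, map_add]
    rfl

/-- The perturbed morphism of presheafed spaces. -/
def Pert.psh : Z.toPresheafedSpace ⟶ X.toPresheafedSpace where
  base := p.base
  c := P.c

theorem Pert.isUnit_ringHom (U : X.Opens) (s : Γ(X, U)) : IsUnit (P.ringHom U s) → IsUnit (p.app U s) := by
  intro h
  have h1 : IsNilpotent (P.N U s) := ⟨2, by rw [pow_two, P.mul_zero]⟩
  have h2 : p.app U s = P.ringHom U s - P.N U s := by rw [Pert.ringHom_apply]; ring
  rw [h2]
  rw [sub_eq_add_neg]
  exact (IsNilpotent.isUnit_add_left_of_commute (h1.neg) h (Commute.all _ _))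


theorem Pert.stalkMap_isLocalHom (z : Z) : IsLocalHom (PresheafedSpace.Hom.stalkMap P.psh z).hom := by
  refine ⟨fun a ha => ?_⟩
  obtain ⟨U, hU, s, rfl⟩ := X.presheaf.exists_germ_eq a
  have h1 : (PresheafedSpace.Hom.stalkMap P.psh z).hom (X.presheaf.germ U _ hU s) =
      Z.presheaf.germ (p ⁻¹ᵁ U) z hU (P.ringHom U s) :=
    PresheafedSpace.stalkMap_germ_apply P.psh U z hU s
  rw [h1] at ha
  have h2 : IsNilpotent (P.N U s) := ⟨2, by rw [pow_two, P.mul_zero]⟩
  have h3 : IsUnit (Z.presheaf.germ (p ⁻¹ᵁ U) z hU (p.app U s)) := by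
    have h4 : p.app U s = P.ringHom U s + -(P.N U s) := by rw [Pert.ringHom_apply]; ring
    rw [h4, map_add]
    exact IsNilpotent.isUnit_add_left_of_commute ((h2.neg).map (Z.presheaf.germ (p ⁻¹ᵁ U) z hU).hom) ha
      (Commute.all _ _)
  have h5 : (p.stalkMap z).hom (X.presheaf.germ U (p z) hU s) = Z.presheaf.germ (p ⁻¹ᵁ U) z hU (p.app U s) :=
    Scheme.Hom.germ_stalkMap_apply p U z hU s
  rw [← h5] at h3
  exact (isUnit_map_iff (p.stalkMap z).hom _).1 h3

/-- The perturbed morphism. -/
def Pert.hom : Z ⟶ X := ⟨⟨P.psh, fun z => P.stalkMap_isLocalHom z⟩⟩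

theorem Pert.hom_base : P.hom.base = p.base := rfl

theorem Pert.hom_preimage (U : X.Opens) : P.hom ⁻¹ᵁ U = p ⁻¹ᵁ U := rfl

theorem Pert.hom_app (U : X.Opens) (s : Γ(X, U)) : P.hom.app U s = p.app U s + P.N U s := rfl

end K936.Perturb
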