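import Groth.Agent.Fga.HilbAsm2
import Groth.Agent.Fga.RepQMain
import Groth.Agent.Fga.QG1
import Groth.Agent.AutSch.K936.HilbK3
import Groth.Agent.AutSch.K936.GraphFam

/-!
# Automorphisms with a given Hilbert function are points of one algebraic family
-/

set_option autoImplicit false
universe u

open CategoryTheory CategoryTheory.Limits AlgebraicGeometry Opposite CohB1

namespace K936.Piece

open Groth.Agent.Fga Groth.Agent.Fga.HilbAsm2 Groth.Agent.Fga.HilbAsm1 Groth.Agent.Fga.HilbFun Groth.Agent.Fga.QA0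
  Groth.Agent.Fga.QA1 Groth.Agent.Fga.NoethRep Groth.Agent.Picfga.OverRep Groth.Agent.Fga.HilbClosed
  Groth.Agent.Fga.QD1Sch Groth.Agent.Fga.QD1Hilb Groth.Agent.CohqB.ProjBC Groth.Agent.Fga.QD1Alg

variable {k : Type u} [Field k] {n : ℕ} {Y : Scheme.{u}}

/-- The part of the Hilbert scheme with a given Hilbert function. -/
theorem exists_hilb (i : Y ⟶ ProjSpaceOver n (Spec (CommRingCat.of k))) [IsClosedImmersion i] (F : ℕ → ℤ)
    (x₀ : FGA.HilbSet (fX i) (Over.mk (𝟙 (Spec (CommRingCat.of k)))))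
    (h₀ : ∃ D : ℕ, ∀ d, D ≤ d → (h (KX i (𝟙 _) (toH _ x₀)) d : ℤ) = F d) :
    ∃ (H : Over (Spec (CommRingCat.of k))) (ξ : FGA.HilbSet (fX i) H), IsNoetherian H.left ∧
      LocallyOfFiniteType H.hom ∧
      ∀ x : FGA.HilbSet (fX i) (Over.mk (𝟙 (Spec (CommRingCat.of k)))),
        (∃ D : ℕ, ∀ d, D ≤ d → (h (KX i (𝟙 _) (toH _ x)) d : ℤ) = F d) →
        ∃ g : Over.mk (𝟙 (Spec (CommRingCat.of k))) ⟶ H, FGA.hilbPull (fX i) g ξ.1 = x.1 := by
  obtain ⟨D₀, hD₀⟩ := h₀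
  have hq := KX_isQuotPt i (𝟙 _) (toH _ x₀)
  obtain ⟨Φ, hΦ, ⟨D₁, hD₁⟩, -⟩ := QA2.field_main hq.isHom hq.isSat
  rw [Fintype.card_fin] at hΦ
  obtain ⟨P, r, N, c, hc⟩ := RepQMain.exists_repQ.{u} (Fin (n + 1)) Unit Φ (by rwa [Fintype.card_fin])
  obtain ⟨H, ξ, c', hr, hc', hc''⟩ := exists_nrep_X i hΦ r c
  have hL : LocallyOfFiniteType H.hom := by
    rw [← hc'']; infer_instance
  have hC : QuasiCompact H.hom := by
    rw [← hc'']; infer_instance
  have hN : IsLocallyNoetherian H.left := hr.noeth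
  have hcs : CompactSpace H.left := QuasiCompact.compactSpace_of_compactSpace H.hom
  refine ⟨H, ξ.1, { }, hL, fun x hx => ?_⟩
  obtain ⟨D, hD⟩ := hx
  have hF : Fib (QX i Φ) (Over.mk (𝟙 (Spec (CommRingCat.of k)))) (toH _ x) := by
    rw [fibX_iff i Φ (B := CommRingCat.of k) (𝟙 _) (toH _ x)]
    intro k' _ φ
    refine ⟨max D (max D₀ D₁), fun d hd => ?_⟩
    rw [QG1.h_bcSat φ (KX_isQuotPt i (𝟙 _) (toH _ x)).isSat]
    have e1 := hD d (by omega)
    have e2 := hD₀ d (by omega)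
    have e3 := hD₁ d (by omega)
    rw [e1, ← e2, e3]
  have hT : IsLocallyNoetherian (Over.mk (𝟙 (Spec (CommRingCat.of k)))).left :=
    inferInstanceAs (IsLocallyNoetherian (Spec (CommRingCat.of k)))
  obtain ⟨g, hg, -⟩ := hr.univ (Over.mk (𝟙 (Spec (CommRingCat.of k)))) ⟨toH _ x, hF⟩
  exact ⟨g, congrArg (fun z => idl _ (Subtype.val z)) hg⟩

theorem xt_inv_pmap : (xt n (𝟙 (Spec (CommRingCat.of k)))).inv ≫ pmap (zHom k) n =
    pullback.fst (ProjSpaceOver.toBase n (Spec (CommRingCat.of k))) (𝟙 _) ≫ fstZ n (Spec (CommRingCat.of k)) := by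
  rw [Iso.inv_comp_eq]
  have h := xt_hom_fst (n := n) (𝟙 (Spec (CommRingCat.of k)))
  refine Eq.trans ?_ (Category.assoc _ _ _)
  refine Eq.trans ?_ (congrArg (fun z => z ≫ fstZ n _) h.symm)
  rw [Category.assoc, overMap_fstZ, projSpaceOverIso_inv_fstZ]

theorem xt_inv_toSpec : (xt n (𝟙 (Spec (CommRingCat.of k)))).inv ≫ ProjSpace.toSpec n k =
    PicF.XTproj (ProjSpaceOver.toBase n (Spec (CommRingCat.of k))) (Over.mk (𝟙 _)) := by
  rw [Iso.inv_comp_eq]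
  exact (xt_hom_proj (n := n) (𝟙 (Spec (CommRingCat.of k)))).symm

/-- The Hilbert function of a closed subscheme given by a closed immersion. -/
theorem exists_h_KX {Z : Scheme.{u}} (i : Y ⟶ ProjSpaceOver n (Spec (CommRingCat.of k))) [IsClosedImmersion i]
    (c : Z ⟶ PicF.XT (fX i) (Over.mk (𝟙 (Spec (CommRingCat.of k))))) [IsClosedImmersion c]
    (x : FGA.HilbSet (fX i) (Over.mk (𝟙 (Spec (CommRingCat.of k))))) (hx : x.1 = c.ker) :
    ∃ D : ℕ, ∀ d : ℕ, D ≤ d → h (KX i (𝟙 _) (toH _ x)) d =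
      QT8.hilb (c ≫ pullback.fst (fX i) (𝟙 _) ≫ i ≫ fstZ n (Spec (CommRingCat.of k)))
        (c ≫ PicF.XTproj (fX i) (Over.mk (𝟙 _))) (Coh.structureModule Z) d := by
  let T : Over (Spec (CommRingCat.of k)) := Over.mk (𝟙 (Spec (CommRingCat.of k)))
  let e : Z ⟶ PicF.XT (ProjSpaceOver.toBase n (Spec (CommRingCat.of k))) T :=
    c ≫ cT i (ProjSpaceOver.toBase n _) T
  have h1 : KX i (𝟙 _) (toH _ x) = toW (hI (e ≫ (xt n (𝟙 (Spec (CommRingCat.of k)))).inv).ker) := by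
    rw [← HilbK3.K_ker, KX, idl_toH, hx, Scheme.IdealSheafData.map_ker]
  rw [h1]
  obtain ⟨D, hD⟩ := HilbK3.exists_h_eq (e ≫ (xt n (𝟙 (Spec (CommRingCat.of k)))).inv)
  refine ⟨D, fun d hd => (hD d hd).trans ?_⟩
  have h2 : (e ≫ (xt n (𝟙 (Spec (CommRingCat.of k)))).inv) ≫ pmap (zHom k) n =
      c ≫ pullback.fst (fX i) (𝟙 _) ≫ i ≫ fstZ n (Spec (CommRingCat.of k)) := by
    rw [Category.assoc, xt_inv_pmap]
    have h3 := cT_fst i (ProjSpaceOver.toBase n _) T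
    change (c ≫ cT i (ProjSpaceOver.toBase n _) T) ≫ pullback.fst _ T.hom ≫ _ = _
    rw [Category.assoc, ← Category.assoc (cT i _ T), h3, Category.assoc]
    rfl
  have h4 : (e ≫ (xt n (𝟙 (Spec (CommRingCat.of k)))).inv) ≫ ProjSpace.toSpec n k =
      c ≫ PicF.XTproj (fX i) (Over.mk (𝟙 _)) := by
    rw [Category.assoc, xt_inv_toSpec]
    change (c ≫ cT i (ProjSpaceOver.toBase n _) T) ≫ PicF.XTproj _ T = _
    rw [Category.assoc, cT_proj]
  rw [h2, h4]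

end K936.Piece
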