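import Groth.Agent.AutSch.K936.Fam
import Mathlib.AlgebraicGeometry.AlgClosed.Basic

/-!
# Quasi-compactness of group schemes from families containing all points
-/

set_option autoImplicit false
universe u v

open CategoryTheory CategoryTheory.Limits MonoidalCategory CartesianMonoidalCategory AlgebraicGeometry

namespace K936.QC

variable {k : Type u} [Field k]

/-- The point of a section. -/
noncomputable def pt {G : Over (Spec (CommRingCat.of k))} (x : 𝟙_ (Over (Spec (CommRingCat.of k))) ⟶ G) : G.left :=
  x.left.base (IsLocalRing.closedPoint k)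

theorem pt_comp {G H : Over (Spec (CommRingCat.of k))} (x : 𝟙_ (Over (Spec (CommRingCat.of k))) ⟶ G) (f : G ⟶ H) :
    pt (x ≫ f) = f.left (pt x) := rfl

/-- Closed points are rational. -/
theorem exists_point [IsAlgClosed k] (G : Over (Spec (CommRingCat.of k))) [LocallyOfFiniteType G.hom] (z : G.left)
    (hz : IsClosed {z}) : ∃ x : 𝟙_ (Over (Spec (CommRingCat.of k))) ⟶ G, pt x = z :=
  ⟨Over.homMk (pointOfClosedPoint G.hom z hz) (pointOfClosedPoint_comp G.hom z hz),
    pointOfClosedPoint_apply G.hom z hz _⟩

/-- A scheme locally of finite type whose rational points lie in a compact set is quasi-compact. -/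
theorem quasiCompact_of_points [IsAlgClosed k] (G : Over (Spec (CommRingCat.of k))) [LocallyOfFiniteType G.hom]
    (K : Set G.left) (hK : IsCompact K) (h : ∀ x : 𝟙_ (Over (Spec (CommRingCat.of k))) ⟶ G, pt x ∈ K) :
    QuasiCompact G.hom := by
  obtain ⟨V, hV, hKV⟩ : ∃ V : G.left.Opens, IsCompact (V : Set G.left) ∧ K ⊆ V := by
    obtain ⟨t, ht⟩ := hK.elim_finite_subcover (fun U : G.left.affineOpens => (U.1 : Set G.left))
      (fun U => U.1.isOpen) (fun x _ => by
        obtain ⟨U, hU, hx, -⟩ := (G.left.isBasis_affineOpens).exists_subset_of_mem_open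
          (Set.mem_univ x) isOpen_univ
        obtain ⟨U', hU', rfl⟩ := hU
        exact Set.mem_iUnion.2 ⟨⟨U', hU'⟩, hx⟩)
    refine ⟨⨆ U ∈ t, U.1, ?_, ?_⟩
    · have : ((⨆ U ∈ t, U.1 : G.left.Opens) : Set G.left) = ⋃ U ∈ t, (U.1 : Set G.left) := by
        simp
      rw [this]
      exact t.isCompact_biUnion fun U _ => U.2.isCompact
    · refine ht.trans ?_
      simp
  have htop : V = ⊤ := by
    by_contra hne
    have hJ : JacobsonSpace G.left := LocallyOfFiniteType.jacobsonSpace G.hom
    have hcl : IsClosed (V : Set G.left)ᶜ := V.isOpen.isClosed_compl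
    have hne' : ((V : Set G.left)ᶜ).Nonempty := by
      rw [Set.nonempty_compl]
      exact fun h => hne (TopologicalSpace.Opens.ext h)
    obtain ⟨z, hz, hzc⟩ := nonempty_inter_closedPoints hne' hcl.isLocallyClosed
    obtain ⟨x, rfl⟩ := exists_point G z hzc
    exact hz (hKV (h x))
  have : CompactSpace G.left := by
    rw [← isCompact_univ_iff]
    rw [htop] at hV
    exact hV
  exact (quasiCompact_iff_compactSpace (f := G.hom)).mpr this

end K936.QC
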