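import Groth.Agent.AutSch.K936.StabQC
import Groth.Agent.AutSch.K238.AffineAct

/-!
# The stabiliser of a big class is affine and quasi-compact
-/

set_option autoImplicit false
universe u

open CategoryTheory MonoidalCategory CartesianMonoidalCategory AlgebraicGeometry
open AutSch

namespace K936.StabMain

open Groth.Agent.Grpsch.PicGrp

theorem result (k : Type u) [Field k] [IsAlgClosed k]
    (X : Over (Spec (CommRingCat.of k))) [IsIntegral X.left] [IsProper X.hom]
    (L A E : X.left.Modules) (hL : PicF.IsInvertible L) (hA : CohB1.IsAmple A) (hE : PicF.IsInvertible E)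
    (s : Coh.structureModule X.left ⟶ E) (hs : s ≠ 0)
    (n : ℕ) (hLAE : Nonempty (CohB1.tensorPow L n ≅ CohB1.tensorMod A E))
    (G : Over (Spec (CommRingCat.of k))) [GrpObj G] [LocallyOfFiniteType G.hom] (a : AlgGrp.Action G X)
    (hG : AutSch.RepresentsSub X (fun T φ => ∃ M : T.left.Modules, PicF.IsInvertible M ∧
      Nonempty ((Scheme.Modules.pullback (AutSch.endOf φ).left).obj ((Scheme.Modules.pullback (fst X T).left).obj L) ≅
        CohB1.tensorMod ((Scheme.Modules.pullback (fst X T).left).obj L)
          ((Scheme.Modules.pullback (snd X T).left).obj M))) G a) :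
    IsAffine G.left ∧ QuasiCompact G.hom := by
  have hG' := (StabQC.representsSub_iff hL a).1 hG
  have hLAE' : mk L hL ^ n = mk A hA.1 * mk E hE := by
    rw [← mk_tensorPow, mk_mul_mk]
    exact mk_congr hLAE.some
  have hqc : QuasiCompact G.hom := StabQC.quasiCompact (mk L hL) hA hE s hs n hLAE' a hG'
  exact ⟨K238.AffineAct.isAffine_of_action X hA hE s hs (mk L hL) n hLAE' G a
    (fun T g h e => K936.Fam.famOf_injective a hG' e) (fun T _ _ _ g => hG'.1 T g), hqc⟩

end K936.StabMain
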