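import Groth.Agent.AutSch.K936.BigBd
import Groth.Agent.S19476
import Groth.Agent.Ega2.QCohLocal
import Groth.Agent.Pic13.H167.NumExt

/-!
# Quasi-compactness of the stabiliser of a big class
-/

set_option autoImplicit false
universe u

open CategoryTheory CategoryTheory.Limits MonoidalCategory CartesianMonoidalCategory AlgebraicGeometry CohB1

namespace K936.StabQC

open Groth.Agent.Grpsch.PicGrp Groth.Agent.Pic13.H950.NumCl Groth.Agent.Pic13.H138.BddPic AutSch
  K936.CurvePerm K936.QCG

variable {k : Type u} [Field k] {X : Over (Spec (CommRingCat.of k))}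

/-- The condition on families: the class `l` is preserved relatively to the base. -/
def Stab (l : Pic X.left) ⦃T : Over (Spec (CommRingCat.of k))⦄ (φ : X ⊗ T ⟶ X) : Prop :=
  ∃ m : Pic T.left, pull (endOf φ).left (pull (fst X T).left l) = pull (fst X T).left l * pull (snd X T).left m

theorem stab_iff {L : X.left.Modules} (hL : PicF.IsInvertible L) ⦃T : Over (Spec (CommRingCat.of k))⦄
    (φ : X ⊗ T ⟶ X) : Stab (mk L hL) φ ↔ ∃ M : T.left.Modules, PicF.IsInvertible M ∧
      Nonempty ((Scheme.Modules.pullback (AutSch.endOf φ).left).obj ((Scheme.Modules.pullback (fst X T).left).obj L) ≅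
        CohB1.tensorMod ((Scheme.Modules.pullback (fst X T).left).obj L)
          ((Scheme.Modules.pullback (snd X T).left).obj M)) := by
  have h : ∀ (M : T.left.Modules) (hM : PicF.IsInvertible M),
      (pull (endOf φ).left (pull (fst X T).left (mk L hL)) =
        pull (fst X T).left (mk L hL) * pull (snd X T).left (mk M hM)) ↔
      Nonempty ((Scheme.Modules.pullback (AutSch.endOf φ).left).obj ((Scheme.Modules.pullback (fst X T).left).obj L) ≅
        CohB1.tensorMod ((Scheme.Modules.pullback (fst X T).left).obj L)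
          ((Scheme.Modules.pullback (snd X T).left).obj M)) := fun M hM => mk_eq_iff _ _
  constructor
  · rintro ⟨m, hm⟩
    obtain ⟨M, hM, rfl⟩ := exists_mk m
    exact ⟨M, hM, (h M hM).1 hm⟩
  · rintro ⟨M, hM, hi⟩
    exact ⟨mk M hM, (h M hM).2 hi⟩

theorem pull_endOf (l : Pic X.left) {T : Over (Spec (CommRingCat.of k))} (φ : X ⊗ T ⟶ X) :
    pull (endOf φ).left (pull (fst X T).left l) = pull φ.left l := by
  rw [← pull_comp, ← Over.comp_left, endOf_fst]

/-- The class of `l` is preserved by the rational points. -/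
theorem pull_eq {l : Pic X.left} {g : X ⟶ X} (h : Stab l (fst X (𝟙_ (Over (Spec (CommRingCat.of k)))) ≫ g)) :
    pull g.left l = l := by
  obtain ⟨m, hm⟩ := h
  have h1 := congrArg (pull (ρ_ X).inv.left) hm
  have e1 : (ρ_ X).inv ≫ fst X (𝟙_ (Over (Spec (CommRingCat.of k)))) ≫ g = g := by
    rw [← Category.assoc, ← CartesianMonoidalCategory.rightUnitor_hom, Iso.inv_hom_id, Category.id_comp]
  have e2 : (ρ_ X).inv ≫ fst X (𝟙_ (Over (Spec (CommRingCat.of k)))) = 𝟙 X := by
    rw [← CartesianMonoidalCategory.rightUnitor_hom, Iso.inv_hom_id]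
  rw [pull_endOf, map_mul, ← pull_comp, ← pull_comp, ← pull_comp, ← Over.comp_left, ← Over.comp_left,
    ← Over.comp_left, e1, e2, Over.id_left, pull_id] at h1
  have h2 : m = 1 := pic_spec_local k m
  rw [h2, map_one, mul_one] at h1
  exact h1

/-- The closed subscheme where a family preserves the class. -/
theorem exists_closed [IsAlgClosed k] [IsProper X.hom] [IsIntegral X.left] (l : Pic X.left)
    {U : Over (Spec (CommRingCat.of k))} [IsNoetherian U.left] [LocallyOfFiniteType U.hom] (ψ : X ⊗ U ⟶ X) :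
    ∃ (V : Over (Spec (CommRingCat.of k))) (j : V ⟶ U), IsNoetherian V.left ∧ LocallyOfFiniteType V.hom ∧
      Stab l (pullFam j ψ) ∧ ∀ (T : Over (Spec (CommRingCat.of k))) (t : T ⟶ U), IsLocallyNoetherian T.left →
        Stab l (pullFam t ψ) → ∃ t' : T ⟶ V, t' ≫ j = t := by
  have hgi : GeometricallyIntegral X.hom := Groth.Agent.Pic13.H167.NumExt.geometricallyIntegral_of_isIntegral k X.hom
  have h1 : IsProper (pullback.snd X.hom U.hom) := inferInstance
  have h2 : Flat (pullback.snd X.hom U.hom) := inferInstance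
  have h3 : GeometricallyIntegral (pullback.snd X.hom U.hom) := inferInstance
  let c : Pic (pullback X.hom U.hom) := pull ψ.left l * (pull (fst X U).left l)⁻¹
  obtain ⟨N, hN, hNc⟩ := exists_mk c
  obtain ⟨Z, ι, hι, hZ⟩ := Groth.Agent.S19476.result (pullback.snd X.hom U.hom) N
    (Groth.Agent.Ega2.QCohLocal.isFinLocFreeOfRank_one_iff.2 hN)
  -- translation of the condition
  have key : ∀ (T : Over (Spec (CommRingCat.of k))) (t : T ⟶ U), Stab l (pullFam t ψ) ↔
      ∃ M : T.left.Modules, FlatMod.IsFinLocFreeOfRank 1 M ∧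
        Nonempty ((Scheme.Modules.pullback (pullback.fst (pullback.snd X.hom U.hom) t.left)).obj N ≅
          (Scheme.Modules.pullback (pullback.snd (pullback.snd X.hom U.hom) t.left)).obj M) := by
    intro T t
    have hsq : IsPullback (X ◁ t).left (snd X T).left (pullback.snd X.hom U.hom) t.left := by
      have h4 : IsPullback ((X ◁ t).left ≫ (fst X U).left) (snd X T).left X.hom (t.left ≫ U.hom) := by
        rw [← Over.comp_left, whiskerLeft_fst, Over.w t]
        exact IsPullback.of_hasPullback X.hom T.hom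
      have h5 : (X ◁ t).left ≫ (snd X U).left = (snd X T).left ≫ t.left := by
        rw [← Over.comp_left, ← Over.comp_left, whiskerLeft_snd]
      exact IsPullback.of_right h4 h5 (IsPullback.of_hasPullback X.hom U.hom)
    let e := hsq.isoPullback
    have he1 : e.hom ≫ pullback.fst _ _ = (X ◁ t).left := hsq.isoPullback_hom_fst
    have he2 : e.hom ≫ pullback.snd _ _ = (snd X T).left := hsq.isoPullback_hom_snd
    have hc : pull (X ◁ t).left c = pull (pullFam t ψ).left l * (pull (fst X T).left l)⁻¹ := by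
      have h5 : (X ◁ t).left ≫ (fst X U).left = (fst X T).left := by
        rw [← Over.comp_left, whiskerLeft_fst]
      rw [map_mul, map_inv, ← pull_comp, ← pull_comp, h5]
      rfl
    have hS : Stab l (pullFam t ψ) ↔ ∃ m : Pic T.left, pull (X ◁ t).left c = pull (snd X T).left m := by
      refine exists_congr fun m => ?_
      rw [hc, pull_endOf, mul_inv_eq_iff_eq_mul, mul_comm]
    rw [hS]
    have hinj : Function.Injective (pull e.hom) := by
      intro x y hxy
      have := congrArg (pull e.inv) hxy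
      rwa [← pull_comp, ← pull_comp, e.inv_hom_id, pull_id, pull_id] at this
    constructor
    · rintro ⟨m, hm⟩
      obtain ⟨M, hM, rfl⟩ := exists_mk m
      refine ⟨M, Groth.Agent.Ega2.QCohLocal.isFinLocFreeOfRank_one_iff.2 hM, ?_⟩
      refine (mk_eq_iff (Groth.Agent.Fdesc.LocGen.isInvertible_pullback _ hN)
        (Groth.Agent.Fdesc.LocGen.isInvertible_pullback _ hM)).1 ?_
      change pull (pullback.fst (pullback.snd X.hom U.hom) t.left) (Groth.Agent.Grpsch.PicGrp.mk N hN) =
        pull (pullback.snd (pullback.snd X.hom U.hom) t.left) (Groth.Agent.Grpsch.PicGrp.mk M hM)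
      apply hinj
      rw [← pull_comp, ← pull_comp, he1, he2, ← hNc, hm]
    · rintro ⟨M, hM, hi⟩
      have hM' := Groth.Agent.Ega2.QCohLocal.isFinLocFreeOfRank_one_iff.1 hM
      refine ⟨mk M hM', ?_⟩
      have hi' : pull (pullback.fst (pullback.snd X.hom U.hom) t.left) (Groth.Agent.Grpsch.PicGrp.mk N hN) =
          pull (pullback.snd (pullback.snd X.hom U.hom) t.left) (Groth.Agent.Grpsch.PicGrp.mk M hM') :=
        (mk_eq_iff (Groth.Agent.Fdesc.LocGen.isInvertible_pullback _ hN)
          (Groth.Agent.Fdesc.LocGen.isInvertible_pullback _ hM')).2 hi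
      rw [hNc, ← he1, ← he2, pull_comp, pull_comp, hi']
  let V : Over (Spec (CommRingCat.of k)) := Over.mk (ι ≫ U.hom)
  let j : V ⟶ U := Over.homMk ι rfl
  have hcs : IsNoetherian Z := by
    have h4 : IsLocallyNoetherian Z := LocallyOfFiniteType.isLocallyNoetherian ι
    have h5 : TopologicalSpace.NoetherianSpace Z := ι.isClosedEmbedding.isInducing.noetherianSpace
    exact { }
  refine ⟨V, j, hcs, ?_, ?_, ?_⟩
  · have : LocallyOfFiniteType (ι ≫ U.hom) := inferInstance
    exact this
  · rw [key]
    exact (hZ _ _ hcs.1).1 ⟨𝟙 _, Category.id_comp _⟩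
  · intro T t hT hs
    obtain ⟨u, hu⟩ := (hZ _ _ hT).2 ((key T t).1 hs)
    refine ⟨Over.homMk u ?_, ?_⟩
    · change u ≫ ι ≫ U.hom = T.hom
      rw [← Category.assoc, hu, Over.w]
    · ext1
      exact hu

/-- Pulled back families of automorphisms are families of automorphisms. -/
theorem isAutFamily_pullFam {T T' : Over (Spec (CommRingCat.of k))} (u : T' ⟶ T) {φ : X ⊗ T ⟶ X}
    (hφ : IsAutFamily φ) : IsAutFamily (pullFam u φ) := by
  have hφ' : IsIso (endOf φ) := hφ
  have := K936.GraphFam.isPullback_endOf u φ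
  exact (MorphismProperty.isomorphisms (Over (Spec (CommRingCat.of k)))).of_isPullback this hφ'

/-- Families preserving the class `l`, containing all the rational points. -/
theorem fams [IsAlgClosed k] [IsProper X.hom] [IsIntegral X.left] (l : Pic X.left)
    {G : Over (Spec (CommRingCat.of k))} [GrpObj G] (a : AlgGrp.Action G X)
    (hP : ∀ x : 𝟙_ (Over (Spec (CommRingCat.of k))) ⟶ G, Stab l (famOf a x)) {H : X.left.Modules}
    (hH : CohB1.IsAmple H)
    (hb : @BddPic k _ X.left ⟨X.hom⟩ {c | ∃ x ∈ (Set.univ : Set (𝟙_ (Over (Spec (CommRingCat.of k))) ⟶ G)),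
      c = pull (autPt a x).left (Groth.Agent.Grpsch.PicGrp.mk H hH.1)}) :
    Nonempty (Fams a (Stab l) Set.univ) := by
  obtain ⟨F⟩ := NefCone.fams a hH Set.univ hb
  have h (i : F.ι) := @exists_closed k _ X _ _ _ l (F.U i) (F.noeth i) (F.lft i) (F.ψ i)
  choose V j h1 h2 h3 h4 using h
  refine ⟨⟨F.ι, F.fin, V, fun i => pullFam (j i) (F.ψ i), h1, h2, fun i => isAutFamily_pullFam _ (F.aut i), h3,
    fun x hx => ?_⟩⟩
  obtain ⟨i, t, ht⟩ := F.cov x hx
  have hN : IsLocallyNoetherian (𝟙_ (Over (Spec (CommRingCat.of k)))).left := by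
    change IsLocallyNoetherian (Spec (CommRingCat.of k))
    infer_instance
  obtain ⟨t', ht'⟩ := h4 i _ t hN (by rw [ht]; exact hP x)
  exact ⟨i, t', by rw [← pullFam_comp, ht', ht]⟩

/-- **The stabiliser of a big class is quasi-compact.** -/
theorem quasiCompact [IsAlgClosed k] [IsProper X.hom] [IsIntegral X.left] (l : Pic X.left)
    {A E : X.left.Modules} (hA : CohB1.IsAmple A)
    (hE : PicF.IsInvertible E) (s : Coh.structureModule X.left ⟶ E) (hs : s ≠ 0) (n : ℕ)
    (hLAE : l ^ n = Groth.Agent.Grpsch.PicGrp.mk A hA.1 * Groth.Agent.Grpsch.PicGrp.mk E hE)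
    {G : Over (Spec (CommRingCat.of k))} [GrpObj G] [LocallyOfFiniteType G.hom] (a : AlgGrp.Action G X)
    (hG : RepresentsSub X (Stab l) G a) : QuasiCompact G.hom := by
  have hfix : ∀ x : 𝟙_ (Over (Spec (CommRingCat.of k))) ⟶ G, pull (autPt a x).left l = l := fun x =>
    pull_eq (by rw [← famOf_eq]; exact hG.1 _ x)
  obtain ⟨F⟩ := fams l a (fun x => hG.1 _ x) hA ((BigBd.bdd l hA hE s hs n hLAE (autPt a '' Set.univ) (by
    rintro _ ⟨x, -, rfl⟩
    exact isIso_autPt a x) (by
    rintro _ ⟨x, -, rfl⟩ C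
    rw [hfix, mul_inv_cancel]
    have := dgo_mul C 1 1
    rw [mul_one] at this
    omega)).mono (by
      rintro _ ⟨x, hx, rfl⟩
      exact ⟨_, ⟨x, hx, rfl⟩, rfl⟩))
  exact F.quasiCompact hG fun x => Set.mem_univ x

/-- The condition of the statement is `Stab`. -/
theorem representsSub_iff {L : X.left.Modules} (hL : PicF.IsInvertible L)
    {G : Over (Spec (CommRingCat.of k))} [GrpObj G] (a : AlgGrp.Action G X) :
    AutSch.RepresentsSub X (fun T φ => ∃ M : T.left.Modules, PicF.IsInvertible M ∧
      Nonempty ((Scheme.Modules.pullback (AutSch.endOf φ).left).obj ((Scheme.Modules.pullback (fst X T).left).obj L) ≅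
        CohB1.tensorMod ((Scheme.Modules.pullback (fst X T).left).obj L)
          ((Scheme.Modules.pullback (snd X T).left).obj M))) G a ↔
      RepresentsSub X (Stab (Groth.Agent.Grpsch.PicGrp.mk L hL)) G a := by
  refine and_congr (forall_congr' fun T => forall_congr' fun g => (stab_iff hL _).symm)
    (forall_congr' fun T => forall_congr' fun φ => imp_congr_right fun _ => imp_congr_left (stab_iff hL φ).symm)

end K936.StabQC
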