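import Groth.Agent.AutSch.K936.DerFam

/-!
# The derivation attached to a tangent vector
-/

set_option autoImplicit false
universe u

open CategoryTheory CategoryTheory.Limits MonoidalCategory CartesianMonoidalCategory MonObj GrpObj AlgebraicGeometry
open TopologicalSpace Opposite

namespace K936.TanDer

open K936.DF K936.DualX K936.DerFam AutSch Groth.Agent.Grpsch.AbTangent Groth.Agent.Books.AntiAffine

section Gen

variable {k : Type u} [Field k] {X Y Z : Scheme.{u}} {f : X ⟶ Spec (CommRingCat.of k)} {p : Y ⟶ X}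
  {q : Y ⟶ Spec (CommRingCat.of (DualNumber k))} [CompactSpace X] [IsLocallyNoetherian X]
  (sq : IsPullback p q f (Spec.map (CommRingCat.ofHom (algebraMap k (DualNumber k)))))
  {φ : Y ⟶ X} {i : Z ⟶ Y} {r : Z ⟶ Spec (CommRingCat.of k)}
  (hi : i ≫ q = r ≫ Spec.map (CommRingCat.ofHom (TrivSqZeroExt.fstHom k k k).toRingHom))
  [IsIso (i ≫ p)] (hφ : i ≫ φ = i ≫ p) (hs : Function.Surjective i)

omit [CompactSpace X] [IsLocallyNoetherian X] [IsIso (i ≫ p)] in
include hφ hs in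
theorem le_preimage (U : X.Opens) : p ⁻¹ᵁ U ≤ φ ⁻¹ᵁ U := by
  intro y hy
  obtain ⟨z, rfl⟩ := hs y
  change φ (i z) ∈ U
  rw [← Scheme.Hom.comp_apply, hφ]
  exact hy

include sq hi hφ in
theorem exists_coeff (U : X.Opens) (h : p ⁻¹ᵁ U ≤ φ ⁻¹ᵁ U) (s : Γ(X, U)) :
    ∃! t : Γ(X, U), φ.appLE U (p ⁻¹ᵁ U) h s = p.app U s + p.app U t * eps p q U := by
  obtain ⟨⟨a, b⟩, hab⟩ := (bijective sq U).2 (φ.appLE U (p ⁻¹ᵁ U) h s)
  have hab' : p.app U a + p.app U b * eps p q U = φ.appLE U (p ⁻¹ᵁ U) h s := hab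
  have h1 : a = s := by
    have h2 := congr(i.appLE (p ⁻¹ᵁ U) (i ⁻¹ᵁ p ⁻¹ᵁ U) le_rfl $hab')
    rw [map_add, map_mul, appLE_eps i r hi, mul_zero, add_zero] at h2
    have h3 : φ.appLE U (p ⁻¹ᵁ U) h ≫ i.appLE (p ⁻¹ᵁ U) (i ⁻¹ᵁ p ⁻¹ᵁ U) le_rfl =
        p.app U ≫ i.appLE (p ⁻¹ᵁ U) (i ⁻¹ᵁ p ⁻¹ᵁ U) le_rfl := by
      rw [Scheme.Hom.appLE_comp_appLE, ← Scheme.Hom.comp_appLE]
      have : ∀ (g : Z ⟶ X) (_ : g = i ≫ p) (h) (h'), g.appLE U (i ⁻¹ᵁ p ⁻¹ᵁ U) h =
          (i ≫ p).appLE U (i ⁻¹ᵁ p ⁻¹ᵁ U) h' := by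
        rintro g rfl h h'
        rfl
      exact this _ hφ _ _
    have h4 : i.appLE (p ⁻¹ᵁ U) (i ⁻¹ᵁ p ⁻¹ᵁ U) le_rfl (φ.appLE U (p ⁻¹ᵁ U) h s) =
      i.appLE (p ⁻¹ᵁ U) (i ⁻¹ᵁ p ⁻¹ᵁ U) le_rfl (p.app U s) := congr(($h3).hom s)
    rw [h4] at h2
    have h5 : (i ≫ p).app U a = (i ≫ p).app U s := by
      have h6 : ∀ t, (i ≫ p).app U t = i.appLE (p ⁻¹ᵁ U) (i ⁻¹ᵁ p ⁻¹ᵁ U) le_rfl (p.app U t) := by
        intro t
        rw [Scheme.Hom.appLE_eq_app]
        rfl
      rw [h6, h6, h2]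
    have h7 : IsIso ((i ≫ p).app U) := inferInstance
    exact (ConcreteCategory.bijective_of_isIso ((i ≫ p).app U)).1 h5
  subst h1
  refine ⟨b, hab'.symm, fun t ht => ?_⟩
  have h8 := (bijective sq U).1 (a₁ := (a, t)) (a₂ := (a, b)) (ht.symm.trans hab'.symm)
  exact congrArg Prod.snd h8

include sq in
theorem coeff_unique (U : X.Opens) {s t t' : Γ(X, U)}
    (h : p.app U s + p.app U t * eps p q U = p.app U s + p.app U t' * eps p q U) : t = t' :=
  congrArg Prod.snd ((bijective sq U).1 (a₁ := (s, t)) (a₂ := (s, t')) h)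

/-- The coefficient of `ε` in `φ^♯ s`. -/
noncomputable def coeff (U : X.Opens) (s : Γ(X, U)) : Γ(X, U) :=
  (exists_coeff sq hi hφ U (le_preimage hφ hs U) s).choose

theorem coeff_spec (U : X.Opens) (h : p ⁻¹ᵁ U ≤ φ ⁻¹ᵁ U) (s : Γ(X, U)) :
    φ.appLE U (p ⁻¹ᵁ U) h s = p.app U s + p.app U (coeff sq hi hφ hs U s) * eps p q U :=
  (exists_coeff sq hi hφ U (le_preimage hφ hs U) s).choose_spec.1

/-- The derivation attached to a morphism which is the identity modulo `ε`. -/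
noncomputable def der : DF X where
  d U :=
    { toFun := coeff sq hi hφ hs U
      map_zero' := by
        refine coeff_unique sq U (s := 0) ?_
        rw [← coeff_spec sq hi hφ hs U (le_preimage hφ hs U) 0]
        simp
      map_add' := fun s t => by
        refine coeff_unique sq U (s := s + t) ?_
        rw [← coeff_spec sq hi hφ hs U (le_preimage hφ hs U) (s + t), map_add, map_add, map_add,
          coeff_spec sq hi hφ hs, coeff_spec sq hi hφ hs]
        ring }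
  leib U s t := by
    refine coeff_unique sq U (s := s * t) ?_
    refine (coeff_spec sq hi hφ hs U (le_preimage hφ hs U) (s * t)).symm.trans ?_
    rw [map_mul, map_mul, map_add, map_mul, map_mul,
      coeff_spec sq hi hφ hs, coeff_spec sq hi hφ hs]
    have := eps_mul_eps p q U
    change _ = _ + ((p.app U s) * (p.app U (coeff sq hi hφ hs U t)) +
      (p.app U t) * (p.app U (coeff sq hi hφ hs U s))) * _
    linear_combination ((p.app U (coeff sq hi hφ hs U s)) * (p.app U (coeff sq hi hφ hs U t))) * this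
  nat {U V} h s := by
    refine coeff_unique sq V (s := X.presheaf.map (homOfLE h).op s) ?_
    refine (coeff_spec sq hi hφ hs V (le_preimage hφ hs V) _).symm.trans ?_
    have h1 : X.presheaf.map (homOfLE h).op ≫ φ.appLE V (p ⁻¹ᵁ V) (le_preimage hφ hs V) =
        φ.appLE U (p ⁻¹ᵁ U) (le_preimage hφ hs U) ≫ Y.presheaf.map (homOfLE (p.preimage_mono h)).op := by
      rw [Scheme.Hom.map_appLE, Scheme.Hom.appLE_map]
    have h2 : φ.appLE V (p ⁻¹ᵁ V) (le_preimage hφ hs V) (X.presheaf.map (homOfLE h).op s) =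
      Y.presheaf.map (homOfLE (p.preimage_mono h)).op (φ.appLE U (p ⁻¹ᵁ U) (le_preimage hφ hs U) s) :=
      congr(($h1).hom s)
    have h3 : ∀ t, p.app V (X.presheaf.map (homOfLE h).op t) =
      Y.presheaf.map (homOfLE (p.preimage_mono h)).op (p.app U t) := fun t =>
      congr(($(p.naturality (homOfLE h).op)).hom t)
    rw [h2, coeff_spec sq hi hφ hs, map_add, map_mul, map_eps p q h, ← h3, ← h3]
    rfl

theorem der_d (U : X.Opens) (s : Γ(X, U)) : (der sq hi hφ hs).d U s = coeff sq hi hφ hs U s := rfl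

/-- A morphism which is the identity modulo `ε` and has zero derivation is the projection. -/
theorem eq_of_der_eq_zero (h0 : ∀ U s, (der sq hi hφ hs).d U s = 0) : φ = p := by
  have hb : φ.base = p.base := by
    ext y
    obtain ⟨z, rfl⟩ := hs y
    change φ (i z) = p (i z)
    rw [← Scheme.Hom.comp_apply, hφ]
    rfl
  refine ext_appLE _ _ hb (fun U V e e' => ?_)
  have h1 : φ.appLE U (p ⁻¹ᵁ U) (le_preimage hφ hs U) = p.app U := by
    ext s
    have h2 := coeff_spec sq hi hφ hs U (le_preimage hφ hs U) s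
    rw [← der_d, h0, map_zero, zero_mul, add_zero] at h2
    exact h2
  have h2 : φ.appLE U V e = φ.appLE U (p ⁻¹ᵁ U) (le_preimage hφ hs U) ≫ Y.presheaf.map (homOfLE e').op := by
    rw [Scheme.Hom.appLE_map]
  rw [h2, h1]
  rfl

include sq in
/-- The derivation kills functions pulled back from a scheme over which `φ` and `p` agree. -/
theorem der_eq_zero_of_comp_eq {W : Scheme.{u}} (g : X ⟶ W) (hg : φ ≫ g = p ≫ g) (V : W.Opens) (c : Γ(W, V)) :
    (der sq hi hφ hs).d (g ⁻¹ᵁ V) (g.app V c) = 0 := by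
  rw [der_d]
  refine coeff_unique sq (g ⁻¹ᵁ V) (s := g.app V c) ?_
  refine (coeff_spec sq hi hφ hs _ (le_preimage hφ hs _) _).symm.trans ?_
  rw [map_zero, zero_mul, add_zero]
  have h1 : g.app V ≫ φ.appLE (g ⁻¹ᵁ V) (p ⁻¹ᵁ (g ⁻¹ᵁ V)) (le_preimage hφ hs _) = g.app V ≫ p.app (g ⁻¹ᵁ V) := by
    rw [← Scheme.Hom.comp_appLE]
    have : ∀ (t : Y ⟶ W) (_ : t = p ≫ g) (h), t.appLE V (p ⁻¹ᵁ g ⁻¹ᵁ V) h =
        g.app V ≫ p.app (g ⁻¹ᵁ V) := by
      rintro t rfl h
      rw [Scheme.Hom.comp_appLE]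
      congr 1
      exact Scheme.Hom.appLE_eq_app p
    exact this _ hg _
  exact congr(($h1).hom c)

end Gen

variable {k : Type u} [Field k] {X : Over (Spec (CommRingCat.of k))} [CompactSpace X.left]
  [IsLocallyNoetherian X.left]

/-- If `O_X` has no `k`-derivations, then `X` has no infinitesimal automorphisms. -/
theorem eq_fst_of_der (h : ∀ (D : OmegaSh.Der X.hom (Coh.structureModule X.left)) (U : X.left.Opens)
    (s : Γ(X.left, U)), D.app U s = 0) (φ : X ⊗ specT (K := k) k ⟶ X)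
    (hφ : (X ◁ specT0 k) ≫ φ = fst X (𝟙_ _)) : φ = fst X _ := by
  have hi := whisker_snd X
  have hφ' : (X ◁ specT0 k).left ≫ φ.left = (X ◁ specT0 k).left ≫ (fst X (specT (K := k) k)).left := by
    rw [whisker_fst, ← hφ, Over.comp_left]
  have hiso : IsIso ((X ◁ specT0 k).left ≫ (fst X (specT (K := k) k)).left) := by
    rw [whisker_fst]; infer_instance
  have hs := (surjective_whisker X).surj
  ext1
  refine eq_of_der_eq_zero (sq X) hi hφ' hs (fun U s => ?_)
  have hw : φ.left ≫ X.hom = (fst X (specT (K := k) k)).left ≫ X.hom := by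
    rw [Over.w, Over.w]
  have := h (ofDF (der (sq X) hi hφ' hs) (fun V c => der_eq_zero_of_comp_eq (sq X) hi hφ' hs X.hom hw V c)) U s
  rw [ofDF_app] at this
  exact this

end K936.TanDer
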