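import Groth.Agent.Fga.QT8Tw
import Groth.Agent.Fdesc.LocGenTensor
import Groth.Agent.CurvesB.HZero

/-!
# Twisted sections and powers of an invertible module with a projective frame

`IsFrame g e`: `e i` generates `N` over `g⁻¹ D₊(X_i)` and `e k = (X_k / X_i) e i`.
`finrank_TwSec`: then `dim H⁰(N^d)` is the Hilbert function of `O` with respect to `g`.
-/

set_option autoImplicit false
universe u

open CategoryTheory CategoryTheory.Limits AlgebraicGeometry Opposite

namespace K936.TwN

open Groth.Agent.Fga.QTDefs Groth.Agent.Fga.QT8 Groth.Agent.Fdesc.LocGen Groth.Agent.Fga.QT4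

variable {n : ℕ} {Z : Scheme.{u}} (g : Z ⟶ PZ n) {N : Z.Modules}

/-- A projective frame of an invertible module. -/
structure IsFrame (e : ∀ i : Fin (n + 1), Γ(N, V g i)) : Prop where
  gen : ∀ i, IsGen (e i)
  glue : ∀ i k, res N (inf_le_right : V g i ⊓ V g k ≤ V g k) (e k) =
    resR (inf_le_left : V g i ⊓ V g k ≤ V g i) (y g i k) • res N (inf_le_left : V g i ⊓ V g k ≤ V g i) (e i)

variable {g} {e : ∀ i : Fin (n + 1), Γ(N, V g i)} (he : IsFrame g e) (d : ℕ)

include he in
theorem IsFrame.glue_pow (i k : Fin (n + 1)) : pow (res N (inf_le_right : V g i ⊓ V g k ≤ V g k) (e k)) d =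
    resR (inf_le_left : V g i ⊓ V g k ≤ V g i) (y g i k) ^ d •
      pow (res N (inf_le_left : V g i ⊓ V g k ≤ V g i) (e i)) d := by
  rw [he.glue, smul_pow]

/-- The coefficient of a section of `N^d` over the `i`-th chart. -/
noncomputable def co (t : Γ(CohB1.tensorPow N d, ⊤)) (i : Fin (n + 1)) : Γ(Z, V g i) :=
  (((he.gen i).pow d).exists_eq (res _ (le_top : V g i ≤ ⊤) t)).choose

theorem co_spec (t : Γ(CohB1.tensorPow N d, ⊤)) (i : Fin (n + 1)) :
    res _ (le_top : V g i ≤ ⊤) t = co he d t i • pow (e i) d :=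
  (((he.gen i).pow d).exists_eq (res _ (le_top : V g i ≤ ⊤) t)).choose_spec

theorem co_unique (t : Γ(CohB1.tensorPow N d, ⊤)) (i : Fin (n + 1)) (a : Γ(Z, V g i))
    (h : res _ (le_top : V g i ≤ ⊤) t = a • pow (e i) d) : co he d t i = a :=
  ((he.gen i).pow d).ext ((co_spec he d t i).symm.trans h)

variable {k : Type u} [Field k] (q : Z ⟶ Spec (CommRingCat.of k))

/-- The coefficients as a section of the product. -/
noncomputable def coS (t : Γ(CohB1.tensorPow N d, ⊤)) : Sec g q (Coh.structureModule Z) :=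
  fun i => (show Γ(Coh.structureModule Z, V g i) from (co he d t i : Γ(Z, V g i)))

theorem coS_mem (t : Γ(CohB1.tensorPow N d, ⊤)) : coS he d q t ∈ TwSec g q (Coh.structureModule Z) d := by
  rw [mem_TwSec]
  intro i k
  change ores (inf_le_left : V g i ⊓ V g k ≤ V g i) (co he d t i) =
    resR (inf_le_left : V g i ⊓ V g k ≤ V g i) (y g i k) ^ d *
      ores (inf_le_right : V g i ⊓ V g k ≤ V g k) (co he d t k)
  have hg : IsGen (pow (res N (inf_le_left : V g i ⊓ V g k ≤ V g i) (e i)) d) := by
    have := ((he.gen i).pow d).res (inf_le_left : V g i ⊓ V g k ≤ V g i)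
    rwa [res_pow] at this
  apply hg.ext
  have h1 := congr(res _ (inf_le_left : V g i ⊓ V g k ≤ V g i) $(co_spec he d t i))
  have h2 := congr(res _ (inf_le_right : V g i ⊓ V g k ≤ V g k) $(co_spec he d t k))
  rw [res_res, res_smul, res_pow] at h1 h2
  rw [he.glue_pow] at h2
  rw [← h1, mul_comm, mul_smul]
  exact h2

/-- The map from sections of `N^d` to twisted sections. -/
noncomputable def toTw (t : Γ(CohB1.tensorPow N d, ⊤)) : TwSec g q (Coh.structureModule Z) d :=
  ⟨coS he d q t, coS_mem he d q t⟩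

theorem V_cover (g : Z ⟶ PZ n) : (⊤ : Z.Opens) ≤ ⨆ i, V g i := (iSup_V g).ge

theorem toTw_injective : Function.Injective (toTw he d q) := by
  intro t t' h
  refine res_ext _ (V g) (fun i => le_top) (V_cover g) fun i => ?_
  have h1 : co he d t i = co he d t' i := congrFun (congrArg Subtype.val h) i
  rw [co_spec he d t i, co_spec he d t' i, h1]

theorem toTw_surjective : Function.Surjective (toTw he d q) := by
  rintro ⟨m, hm⟩
  have key : ∀ i k, res (CohB1.tensorPow N d) (inf_le_left : V g i ⊓ V g k ≤ V g i)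
      ((show Γ(Z, V g i) from m i) • pow (e i) d) =
      res _ inf_le_right ((show Γ(Z, V g k) from m k) • pow (e k) d) := by
    intro i k
    rw [res_smul, res_smul, res_pow, res_pow, he.glue_pow]
    have h1 : ores (inf_le_left : V g i ⊓ V g k ≤ V g i) (show Γ(Z, V g i) from m i) =
      resR (inf_le_left : V g i ⊓ V g k ≤ V g i) (y g i k) ^ d *
        ores (inf_le_right : V g i ⊓ V g k ≤ V g k) (show Γ(Z, V g k) from m k) := mem_TwSec.1 hm i k
    rw [h1, mul_comm, mul_smul]
  obtain ⟨t, ht⟩ := res_glue _ (V g) (fun i => le_top) (V_cover g) _ key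
  refine ⟨t, Subtype.ext (funext fun i => ?_)⟩
  exact co_unique he d t i _ (ht i)

theorem toTw_add (t t' : Γ(CohB1.tensorPow N d, ⊤)) : toTw he d q (t + t') = toTw he d q t + toTw he d q t' := by
  refine Subtype.ext (funext fun i => ?_)
  refine co_unique he d _ i _ ?_
  rw [map_add, co_spec he d t i, co_spec he d t' i, ← add_smul]
  rfl

theorem toTw_smul (a : k) (t : Γ(CohB1.tensorPow N d, ⊤)) :
    toTw he d q ((q.appTop.hom.comp (Scheme.ΓSpecIso (CommRingCat.of k)).inv.hom) a • t) = a • toTw he d q t := by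
  refine Subtype.ext (funext fun i => ?_)
  refine co_unique he d _ i _ ?_
  rw [res_smul, co_spec he d t i, smul_smul]
  rfl

include he in
/-- The dimension of the twisted sections is the dimension of `H⁰(N^d)`. -/
theorem finrank_TwSec [Z.Over (Spec (CommRingCat.of k))] :
    Module.finrank k (TwSec g (Z ↘ Spec (CommRingCat.of k)) (Coh.structureModule Z) d) =
      Module.finrank k (Coh.HH Z (CohB1.tensorPow N d) 0) := by
  let _ := Groth.Agent.CurvesB.HZero.moduleΓ k (CohB1.tensorPow N d)
  let E : Γ(CohB1.tensorPow N d, ⊤) ≃ₗ[k] TwSec g (Z ↘ Spec (CommRingCat.of k)) (Coh.structureModule Z) d :=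
    LinearEquiv.ofBijective
      { toFun := toTw he d _
        map_add' := toTw_add he d _
        map_smul' := toTw_smul he d _ }
      ⟨toTw_injective he d _, toTw_surjective he d _⟩
  exact ((Groth.Agent.CurvesB.HZero.equivLin k (CohB1.tensorPow N d)).trans E).finrank_eq.symm

end K936.TwN
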