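import Groth.Agent.Grpsch.AbUnram
import Groth.Agent.Books.AntiAffine
import Mathlib.AlgebraicGeometry.Morphisms.FlatMono

/-!
# A group scheme over a field is unramified iff it has no nonzero tangent vectors at the unit
-/

set_option autoImplicit false
universe u

open CategoryTheory CategoryTheory.Limits MonoidalCategory CartesianMonoidalCategory MonObj GrpObj AlgebraicGeometry

namespace K936.Unram

open Groth.Agent.Grpsch.AbTangent Groth.Agent.Grpsch.AbStalk Groth.Agent.Grpsch.AbUnram
open Groth.Agent.Books.AntiAffine

variable {K : Type u} [Field K]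

theorem isOpenImmersion_unit (G : Over (Spec (.of K))) [GrpObj G] [LocallyOfFiniteType G.hom]
    (h : IsField (G.left.presheaf.stalk (pt (η[G] : 𝟙_ (Over (Spec (.of K))) ⟶ G)))) :
    IsOpenImmersion η[G].left := by
  have hc : η[G].left ≫ G.hom = 𝟙 _ := Over.w η[G]
  have hm : Mono η[G].left := by
    have : IsSplitMono η[G].left := ⟨⟨⟨G.hom, hc⟩⟩⟩
    infer_instance
  have hn : IsLocallyNoetherian G.left :=
    LocallyOfFiniteType.isLocallyNoetherian G.hom
  have hft : LocallyOfFiniteType η[G].left := by
    have : LocallyOfFiniteType (η[G].left ≫ G.hom) := by rw [hc]; infer_instance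
    exact locallyOfFiniteType_of_comp η[G].left G.hom
  have hfp : LocallyOfFinitePresentation η[G].left :=
    (LocallyOfFinitePresentation.iff_locallyOfFiniteType).2 hft
  have hfl : Flat η[G].left := by
    refine Flat.of_stalkMap _ (fun x => ?_)
    have hx : x = IsLocalRing.closedPoint K := @Subsingleton.elim (PrimeSpectrum K) inferInstance _ _
    subst hx
    let := h.toField
    algebraize [(η[G].left.stalkMap (IsLocalRing.closedPoint K)).hom]
    exact Module.Flat.of_free
  exact IsOpenImmersion.of_flat_of_mono _

theorem formallyUnramified_of_tangent (G : Over (Spec (.of K))) [GrpObj G] [LocallyOfFiniteType G.hom]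
    (h : ∀ τ : specT (K := K) K ⟶ G, specT0 K ≫ τ = η[G] → τ = toUnit _ ≫ η[G]) :
    FormallyUnramified G.hom := by
  have h1 : LocallyOfFiniteType (toUnit G).left := by
    rw [Over.toUnit_left]; infer_instance
  have h2 := formallyUnramified_stalkMap (toUnit G) η[G] (fun τ hτ _ => h τ hτ)
  have h3 : (G.hom.stalkMap (pt η[G])).hom.FormallyUnramified := by
    exact h2
  have h4 := isOpenImmersion_unit G (isField_stalk _ h3)
  have h5 := (isPullback_diag G).map (Over.forget _)
  have h6 : IsOpenImmersion ((Over.forget _).map (lift (𝟙 G) (𝟙 G))) :=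
    MorphismProperty.of_isPullback (P := @IsOpenImmersion) h5.flip h4
  have h7 : IsOpenImmersion (pullback.diagonal G.hom) := h6
  infer_instance

theorem tangent_eq_of_formallyUnramified (G : Over (Spec (.of K))) [GrpObj G] [LocallyOfFiniteType G.hom]
    [FormallyUnramified G.hom] (τ : specT (K := K) K ⟶ G) (hτ : specT0 K ≫ τ = η[G]) :
    τ = toUnit _ ≫ η[G] :=
  Groth.Agent.Grpsch.AbUnram.tangent_eq_of_formallyUnramified (toUnit G) η[G]
    (FormallyUnramified.stalkMap G.hom _) τ hτ (toUnit_unique _ _)

end K936.Unram
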